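import Groth.Agent.GenSubLib.Conj
import Groth.Prelude.Def_Red

/-!
# The generated subgroup is generated after every base change
-/

set_option autoImplicit false
set_option backward.isDefEq.respectTransparency false
set_option backward.isDefEq.respectTransparency.types false
set_option linter.style.haveILetI false
set_option linter.unusedSectionVars false

universe u v

open CategoryTheory CategoryTheory.Limits MonoidalCategory CartesianMonoidalCategory MonObj AlgebraicGeometry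

noncomputable section

namespace Groth.Agent.GenSubLib

/-- A point with reduced source in the range of an immersion lifts. -/
theorem exists_lift_immersion {S : Scheme.{u}} {T H G : Over S} [IsReduced T.left] (i : H ⟶ G) [IsImmersion i.left]
    (t : T ⟶ G) (h : Set.range t.left ⊆ Set.range i.left) : ∃ l : T ⟶ H, l ≫ i = t := by
  haveI : IsImmersion (pullback.fst t.left i.left) := MorphismProperty.pullback_fst _ _ ‹_›
  have hs : Set.range (pullback.fst t.left i.left) = Set.univ := Set.eq_univ_iff_forall.2 fun z => by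
    rw [Scheme.Pullback.range_fst]; exact h ⟨z, rfl⟩
  haveI : Surjective (pullback.fst t.left i.left) := ⟨Set.range_eq_univ.1 hs⟩
  haveI : IsClosedImmersion (pullback.fst t.left i.left) :=
    IsClosedImmersion.of_isPreimmersion _ (by rw [hs]; exact isClosed_univ)
  haveI := isIso_of_isClosedImmersion_of_surjective (pullback.fst t.left i.left)
  have e : (inv (pullback.fst t.left i.left) ≫ pullback.snd t.left i.left) ≫ i.left = t.left := by
    rw [Category.assoc, ← pullback.condition, IsIso.inv_hom_id_assoc]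
  exact ⟨Over.homMk (inv (pullback.fst t.left i.left) ≫ pullback.snd t.left i.left)
    (by rw [← Over.w i, ← Category.assoc, e, Over.w t]), Over.OverMorphism.ext e⟩

variable {k : Type u} [Field k]

theorem universallyOpen_to_pt {A : Over (Spec (CommRingCat.of k))} (t : A.left) {B : Scheme.{u}}
    (f : B ⟶ (pt A t).left) : UniversallyOpen f := by
  let g : B ⟶ Spec (A.left.residueField t) := f
  haveI : Subsingleton ↥(Spec (A.left.residueField t)) := inferInstanceAs (Subsingleton (PrimeSpectrum (A.left.residueField t)))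
  exact (inferInstance : UniversallyOpen g)

variable {G : Over (Spec (CommRingCat.of k))} [GrpObj G]

/-- Translating by a point, two points of a dense open of the product differ by it. -/
theorem exists_pts_translate' {T₀ : Over (Spec (CommRingCat.of k))} (O : Set (G ⊗ T₀).left) (hO : IsOpen O)
    (hd : Dense O) (hne₀ : Nonempty ↥(G ⊗ T₀).left) (zt : T₀ ⟶ G) :
    ∃ (T : Over (Spec (CommRingCat.of k))) (p : T.left) (r : T ⟶ T₀) (x y : T ⟶ G),
      (lift x r).left p ∈ O ∧ (lift y r).left p ∈ O ∧ x⁻¹ * y = r ≫ zt := by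
  let τ : G ⊗ T₀ ⟶ G ⊗ T₀ := lift (fst G T₀ * (snd G T₀ ≫ zt)) (snd G T₀)
  let τ' : G ⊗ T₀ ⟶ G ⊗ T₀ := lift (fst G T₀ * (snd G T₀ ≫ zt)⁻¹) (snd G T₀)
  have h1 : τ' ≫ τ = 𝟙 _ := by
    apply CartesianMonoidalCategory.hom_ext <;>
      simp [τ, τ', MonObj.comp_mul]
  obtain ⟨w, hw⟩ := hd.nonempty (h := hne₀)
  have hne : (τ.left ⁻¹' O).Nonempty := by
    refine ⟨τ'.left w, Set.mem_preimage.2 ?_⟩
    have h2 : τ.left (τ'.left w) = w := by
      rw [← Scheme.Hom.comp_apply, ← Over.comp_left, h1, Over.id_left]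
      simp
    rw [h2]
    exact hw
  obtain ⟨q, hq, hq'⟩ := hd.exists_mem_open (hO.preimage τ.left.continuous) hne
  refine ⟨pt (G ⊗ T₀) q, pt₀ _ q, ptι _ q ≫ snd G T₀, ptι _ q ≫ fst G T₀, ptι _ q ≫ τ ≫ fst G T₀, ?_, ?_, ?_⟩
  · rw [← comp_lift, lift_fst_snd, Category.comp_id, ptι_apply]
    exact hq
  · have e : lift (ptι _ q ≫ τ ≫ fst G T₀) (ptι _ q ≫ snd G T₀) = ptι _ q ≫ τ := by
      apply CartesianMonoidalCategory.hom_ext <;> simp [τ]
    rw [e, Over.comp_left, Scheme.Hom.comp_apply, ptι_apply]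
    exact hq'
  · simp [τ, MonObj.comp_mul]

variable {S : Scheme.{u}} (σ : S ⟶ Spec (CommRingCat.of k))

/-- A point of the base change at a point over the base. -/
theorem exists_graph {T : Over (Spec (CommRingCat.of k))} (φ : T ⟶ Over.mk σ) :
    ∃ δ : Over.mk φ.left ⟶ (Over.pullback σ).obj T, δ.left ≫ pullback.fst T.hom σ = 𝟙 T.left := by
  have e : 𝟙 T.left ≫ T.hom = φ.left ≫ σ := (Category.id_comp _).trans (Over.w φ).symm
  exact ⟨Over.homMk (U := Over.mk φ.left) (V := (Over.pullback σ).obj T)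
    (pullback.lift (f := T.hom) (g := σ) (𝟙 T.left) φ.left e) (pullback.lift_snd _ _ _), pullback.lift_fst _ _ _⟩

variable {J : Type v} {X : J → Over (Spec (CommRingCat.of k))} (f : ∀ j, X j ⟶ G)

theorem exists_factor_base_change {Γ' : Over S} [GrpObj Γ'] (i' : Γ' ⟶ Red.bc σ G) [IsMonHom i']
    (hf' : ∀ j, ∃ q : Red.bc σ (X j) ⟶ Γ', q ≫ i' = (Over.pullback σ).map (f j)) :
    ∀ l : List (J × Bool), ∃ m : Red.bc σ (src X l) ⟶ Γ', m ≫ i' = (Over.pullback σ).map (word f l) := by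
  intro l
  induction l with
  | nil =>
    refine ⟨1, ?_⟩
    have e : word f ([] : List (J × Bool)) = 1 := by
      rw [← comp_word_nil f (𝟙 (src X []))]; simp
    rw [e, Functor.map_one, MonObj.one_comp]
  | cons a l ih =>
    obtain ⟨m, hm⟩ := ih
    obtain ⟨q, hq⟩ := hf' a.1
    have hl : ∃ z : Red.bc σ (X a.1) ⟶ Γ', z ≫ i' = (Over.pullback σ).map (letter f a) := by
      unfold letter
      split
      · exact ⟨q, hq⟩
      · exact ⟨q⁻¹, by rw [GrpObj.inv_comp, hq, Functor.map_inv']⟩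
    obtain ⟨z, hz⟩ := hl
    refine ⟨((Over.pullback σ).map (fst (X a.1) (src X l)) ≫ z) * ((Over.pullback σ).map (snd (X a.1) (src X l)) ≫ m), ?_⟩
    rw [MonObj.mul_comp, Category.assoc, Category.assoc, hz, hm, ← Functor.map_comp, ← Functor.map_comp,
      ← Functor.map_mul, word_cons]

theorem eq_univ_of_dense_sub {Γ S₀ : Over (Spec (CommRingCat.of k))} [GrpObj Γ] {I : Type*}
    {Y : I → Over (Spec (CommRingCat.of k))} (q : ∀ l, Y l ⟶ Γ) (hd : Dense (⋃ l, Set.range (q l).left))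
    (R : Set (Γ ⊗ S₀).left) (hR : IsLocallyClosed R) (hq : ∀ l, Set.range (q l ▷ S₀).left ⊆ R)
    (hsub : ∀ (T : Over (Spec (CommRingCat.of k))) (p : T.left) (x y : T ⟶ Γ) (φ : T ⟶ S₀),
      (lift x φ).left p ∈ R → (lift y φ).left p ∈ R → (lift (x⁻¹ * y) φ).left p ∈ R) :
    R = Set.univ := by
  refine Set.eq_univ_iff_forall.2 fun w => ?_
  let s : S₀.left := (snd Γ S₀).left w
  let P := pt S₀ s
  let jP : P ⟶ S₀ := ptι S₀ s
  let O : Set (Γ ⊗ P).left := (Γ ◁ jP).left ⁻¹' R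
  have hdO : Dense O := by
    refine (dense_tensor q (fun _ : PUnit.{1} => 𝟙 P) hd (dense_range_id P)).mono ?_
    rintro _ hz
    simp only [Set.mem_iUnion] at hz
    obtain ⟨l, -, v, rfl⟩ := hz
    refine hq l ⟨(Y l ◁ jP).left v, ?_⟩
    rw [← Scheme.Hom.comp_apply, ← Scheme.Hom.comp_apply, ← Over.comp_left, ← Over.comp_left, whisker_exchange,
      tensorHom_id]
  have hO : IsOpen O := by
    have hlc : IsLocallyClosed O := hR.preimage (Γ ◁ jP).left.continuous
    have he : coborder O = O := by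
      have h := closure_inter_coborder (s := O)
      rwa [hdO.closure_eq, Set.univ_inter] at h
    exact he ▸ hlc.isOpen_coborder
  obtain ⟨T₂, g, r₀, p₀, hp₀, hg⟩ := GrpSchLib.exists_lift (ptι (Γ ⊗ S₀) w ≫ snd Γ S₀) jP (pt₀ (Γ ⊗ S₀) w)
    ⟨pt₀ S₀ s, by rw [Over.comp_left, Scheme.Hom.comp_apply, ptι_apply, ptι_apply]⟩
  let T₃ := pt T₂ p₀
  let g₃ : T₃ ⟶ P := ptι T₂ p₀ ≫ r₀
  let z : T₃ ⟶ Γ ⊗ S₀ := (ptι T₂ p₀ ≫ g) ≫ ptι (Γ ⊗ S₀) w
  have hg₃ : z ≫ snd Γ S₀ = g₃ ≫ jP := by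
    show ((ptι T₂ p₀ ≫ g) ≫ _) ≫ _ = (ptι T₂ p₀ ≫ r₀) ≫ _
    rw [Category.assoc, Category.assoc, Category.assoc, hg]
  have hopen : IsOpenMap (Γ ◁ g₃).left := by
    haveI : UniversallyOpen g₃.left := universallyOpen_to_pt s g₃.left
    haveI : UniversallyOpen (Γ ◁ g₃).left :=
      MorphismProperty.of_isPullback (isPullback_whiskerLeft Γ g₃).flip ‹_›
    exact (Γ ◁ g₃).left.isOpenMap
  obtain ⟨T₄, p, r, x, y, hx, hy, e⟩ := exists_pts_translate' ((Γ ◁ g₃).left ⁻¹' O)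
    (hO.preimage (Γ ◁ g₃).left.continuous) (hdO.preimage hopen)
    (nonempty_tensor ((z ≫ fst Γ S₀).left (pt₀ T₂ p₀)) (pt₀ T₂ p₀)) (z ≫ fst Γ S₀)
  have hmem : ∀ v : T₄ ⟶ Γ, (lift v r).left p ∈ (Γ ◁ g₃).left ⁻¹' O → (lift v (r ≫ z ≫ snd Γ S₀)).left p ∈ R := by
    intro v hv
    have h : (lift v r ≫ (Γ ◁ g₃) ≫ (Γ ◁ jP)).left p ∈ R := hv
    have e2 : lift v (r ≫ z ≫ snd Γ S₀) = lift v r ≫ (Γ ◁ g₃) ≫ (Γ ◁ jP) := by
      rw [← whiskerLeft_comp, ← hg₃, lift_whiskerLeft]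
    rw [e2]
    exact h
  have h := hsub T₄ p x y (r ≫ z ≫ snd Γ S₀) (hmem x hx) (hmem y hy)
  rw [e, ← comp_lift, ← comp_lift, lift_fst_snd, Category.comp_id, Over.comp_left, Scheme.Hom.comp_apply,
    Subsingleton.elim (α := PrimeSpectrum (T₂.left.residueField p₀)) (r.left p) (pt₀ T₂ p₀)] at h
  have ez : z.left (pt₀ T₂ p₀) = w := by
    show ((ptι T₂ p₀ ≫ g) ≫ ptι (Γ ⊗ S₀) w).left _ = w
    rw [Over.comp_left, Scheme.Hom.comp_apply]
    exact ptι_apply (Γ ⊗ S₀) w _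
  exact ez ▸ h

theorem mul_mem_range {Γ : Over (Spec (CommRingCat.of k))} [GrpObj Γ] (i : Γ ⟶ G) [IsMonHom i] {Γ' : Over S} [GrpObj Γ']
    (i' : Γ' ⟶ Red.bc σ G) [IsMonHom i'] [IsImmersion i'.left]
    (R : Set (Γ ⊗ Over.mk σ).left) (hR : R = ((Over.pullback σ).map i).left ⁻¹' Set.range i'.left)
    (T₄ : Over (Spec (CommRingCat.of k))) (p : T₄.left) (x y : T₄ ⟶ Γ) (φ₄ : T₄ ⟶ Over.mk σ)
    (hx : (lift x φ₄).left p ∈ R) (hy : (lift y φ₄).left p ∈ R) : (lift (x⁻¹ * y) φ₄).left p ∈ R := by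
  let T := pt T₄ p
  obtain ⟨φ, hφ⟩ : ∃ φ : T ⟶ Over.mk σ, φ = ptι T₄ p ≫ φ₄ := ⟨_, rfl⟩
  obtain ⟨δ, hδ⟩ := exists_graph σ φ
  haveI : IsReduced (Over.mk φ.left).left := inferInstanceAs (IsReduced (Spec (T₄.left.residueField p)))
  have hgraph : ∀ v : T ⟶ Γ, (δ ≫ (Over.pullback σ).map v).left = (lift v φ).left := fun v => by
    apply pullback.hom_ext
    · show _ = (lift v φ).left ≫ (fst Γ (Over.mk σ)).left
      rw [← Over.comp_left, lift_fst, Over.comp_left, Category.assoc]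
      refine (congrArg (δ.left ≫ ·) (pullback.lift_fst _ _ _)).trans ?_
      rw [← Category.assoc, hδ]
      exact Category.id_comp _
    · show _ = (lift v φ).left ≫ (snd Γ (Over.mk σ)).left
      rw [← Over.comp_left, lift_snd, Over.comp_left, Category.assoc]
      exact (congrArg (δ.left ≫ ·) (pullback.lift_snd _ _ _)).trans (Over.w δ)
  have hpt : ∀ (v : T₄ ⟶ Γ) (p' : T.left),
      ((δ ≫ (Over.pullback σ).map (ptι T₄ p ≫ v)).left) p' = (lift v φ₄).left p := fun v p' => by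
    rw [hgraph, hφ, ← comp_lift]
    exact congrArg (lift v φ₄).left (ptι_apply T₄ p p')
  subst hR
  have hmem : ∀ v : T₄ ⟶ Γ, (lift v φ₄).left p ∈ ((Over.pullback σ).map i).left ⁻¹' Set.range i'.left →
      ∃ m : Over.mk φ.left ⟶ Γ', m ≫ i' = δ ≫ (Over.pullback σ).map ((ptι T₄ p ≫ v) ≫ i) := by
    intro v hv
    refine exists_lift_immersion i' _ ?_
    rintro _ ⟨p', rfl⟩
    rw [← hpt v p'] at hv
    rw [Functor.map_comp, ← Category.assoc, Over.comp_left]
    exact hv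
  obtain ⟨mx, hmx⟩ := hmem x hx
  obtain ⟨my, hmy⟩ := hmem y hy
  have key : (mx⁻¹ * my) ≫ i' = δ ≫ (Over.pullback σ).map ((ptι T₄ p ≫ (x⁻¹ * y)) ≫ i) := by
    rw [MonObj.mul_comp, GrpObj.inv_comp, hmx, hmy, ← GrpObj.comp_inv, ← MonObj.comp_mul, ← Functor.map_inv',
      ← Functor.map_mul, ← GrpObj.inv_comp, ← MonObj.mul_comp, ← GrpObj.comp_inv, ← MonObj.comp_mul]
  rw [← hpt (x⁻¹ * y) (pt₀ T₄ p)]
  refine ⟨(mx⁻¹ * my).left (pt₀ T₄ p), ?_⟩
  have h := congrArg (fun g => g.left (pt₀ T₄ p)) key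
  rw [Functor.map_comp, ← Category.assoc] at h
  exact h

theorem universal_of_min [∀ j, GeometricallyReduced (X j).hom] {Γ : Over (Spec (CommRingCat.of k))} [GrpObj Γ]
    (i : Γ ⟶ G) [IsMonHom i] [IsClosedImmersion i.left] (hf : ∀ j, ∃ q : X j ⟶ Γ, q ≫ i = f j)
    (hmin : ∀ (Γ' : Over (Spec (CommRingCat.of k))) (_ : GrpObj Γ') (i' : Γ' ⟶ G), IsMonHom i' →
      IsClosedImmersion i'.left → (∀ j, ∃ q : X j ⟶ Γ', q ≫ i' = f j) → ∃ r : Γ ⟶ Γ', r ≫ i' = i)
    (Γ' : Over S) [GrpObj Γ'] (i' : Γ' ⟶ Red.bc σ G) [IsMonHom i'] [IsImmersion i'.left]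
    (hf' : ∀ j, ∃ q : Red.bc σ (X j) ⟶ Γ', q ≫ i' = (Over.pullback σ).map (f j)) :
    ∃ r : Red.bc σ Γ ⟶ Γ', r ≫ i' = (Over.pullback σ).map i := by
  obtain ⟨hred, -, -, q, hq, hd⟩ := props_of_min f i hf hmin
  let S₀ : Over (Spec (CommRingCat.of k)) := Over.mk σ
  let iS : (Γ ⊗ S₀).left ⟶ (Red.bc σ G).left := ((Over.pullback σ).map i).left
  let c := pullback.fst iS i'.left
  haveI : IsImmersion c := MorphismProperty.pullback_fst _ _ ‹_›
  have hrange : Set.range c = iS ⁻¹' Set.range i'.left := Scheme.Pullback.range_fst _ _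
  have hfac : ∀ l, ∃ m : (src X l ⊗ S₀).left ⟶ pullback iS i'.left, m ≫ c = (q l ▷ S₀).left := fun l => by
    obtain ⟨m, hm⟩ := exists_factor_base_change σ f i' hf' l
    have e : ((Over.pullback σ).map (q l)).left = (q l ▷ S₀).left := by
      apply pullback.hom_ext
      · show _ = (q l ▷ S₀).left ≫ (fst Γ S₀).left
        rw [← Over.comp_left, whiskerRight_fst, Over.comp_left]
        exact pullback.lift_fst _ _ _
      · show _ = (q l ▷ S₀).left ≫ (snd Γ S₀).left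
        rw [← Over.comp_left, whiskerRight_snd]
        exact pullback.lift_snd _ _ _
    refine ⟨pullback.lift (q l ▷ S₀).left m.left ?_, pullback.lift_fst _ _ _⟩
    rw [← e, ← Over.comp_left, ← Functor.map_comp, hq, ← hm, Over.comp_left]
  have hsurj : Set.range c = Set.univ := eq_univ_of_dense_sub q hd _ c.isLocallyClosed_range
    (fun l => by
      obtain ⟨m, hm⟩ := hfac l
      rintro _ ⟨v, rfl⟩
      exact ⟨m v, by rw [← Scheme.Hom.comp_apply, hm]⟩)
    (mul_mem_range σ i i' _ hrange)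
  haveI : IsClosedImmersion c := IsClosedImmersion.of_isPreimmersion c
    (by rw [hsurj]; exact isClosed_univ)
  haveI : IsIso c := isIso_of_dense_tensor q hd c hfac
  let r₀ : (Γ ⊗ S₀).left ⟶ Γ'.left := inv c ≫ pullback.snd iS i'.left
  have e : r₀ ≫ i'.left = iS := by
    show (inv c ≫ pullback.snd iS i'.left) ≫ i'.left = iS
    rw [Category.assoc, ← pullback.condition, IsIso.inv_hom_id_assoc]
  refine ⟨Over.homMk r₀ ?_, Over.OverMorphism.ext e⟩
  rw [← Over.w i', ← Category.assoc, e]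
  exact Over.w ((Over.pullback σ).map i)

end Groth.Agent.GenSubLib
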