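import Groth.Agent.GenSubLib.Apps

/-!
# Rational points of the words over an algebraically closed field
-/

set_option autoImplicit false
set_option backward.isDefEq.respectTransparency false
set_option backward.isDefEq.respectTransparency.types false
set_option linter.style.haveILetI false
set_option linter.unusedSectionVars false

universe u v

open CategoryTheory CategoryTheory.Limits MonoidalCategory CartesianMonoidalCategory MonObj AlgebraicGeometry

noncomputable section

namespace Groth.Agent.GenSubLib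

variable {k : Type u} [Field k]

/-- The point of the base. -/
abbrev base₀ : (𝟙_ (Over (Spec (CommRingCat.of k)))).left := IsLocalRing.closedPoint k

instance subsingleton_unit : Subsingleton ↥(𝟙_ (Over (Spec (CommRingCat.of k)))).left :=
  inferInstanceAs (Subsingleton (PrimeSpectrum k))

theorem isClosed_pt {P : Over (Spec (CommRingCat.of k))} (g : 𝟙_ (Over (Spec (CommRingCat.of k))) ⟶ P) :
    IsClosed ({g.left base₀} : Set P.left) := by
  let g' : Spec (CommRingCat.of k) ⟶ P.left := g.left
  haveI : IsClosedImmersion g' := isClosedImmersion_of_comp_eq_id P.hom g' (Over.w g)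
  have h := g'.isClosedEmbedding.isClosed_range
  have e : Set.range g' = {g.left base₀} := by
    ext z
    constructor
    · rintro ⟨w, rfl⟩
      rw [Subsingleton.elim (α := PrimeSpectrum k) w (IsLocalRing.closedPoint k)]
      rfl
    · rintro rfl
      exact ⟨_, rfl⟩
  rwa [e] at h

variable [IsAlgClosed k]

theorem pt_ext {P : Over (Spec (CommRingCat.of k))} [LocallyOfFiniteType P.hom]
    {g h : 𝟙_ (Over (Spec (CommRingCat.of k))) ⟶ P} (e : g.left base₀ = h.left base₀) : g = h :=
  Over.OverMorphism.ext (ext_of_apply_closedPoint_eq (f := g.left) (g := h.left) P.hom (Over.w g) (Over.w h) e)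

theorem exists_pt {P : Over (Spec (CommRingCat.of k))} [LocallyOfFiniteType P.hom] {z : P.left}
    (hz : IsClosed ({z} : Set P.left)) :
    ∃ g : 𝟙_ (Over (Spec (CommRingCat.of k))) ⟶ P, g.left base₀ = z :=
  ⟨Over.homMk (pointOfClosedPoint P.hom z hz) (pointOfClosedPoint_comp P.hom z hz),
    pointOfClosedPoint_apply P.hom z hz _⟩

/-- A rational point in the image lifts to a rational point. -/
theorem exists_pt_lift {P Q : Over (Spec (CommRingCat.of k))} [LocallyOfFiniteType P.hom]
    [LocallyOfFiniteType Q.hom] (φ : P ⟶ Q) (g : 𝟙_ (Over (Spec (CommRingCat.of k))) ⟶ Q)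
    (hg : g.left base₀ ∈ Set.range φ.left) :
    ∃ t : 𝟙_ (Over (Spec (CommRingCat.of k))) ⟶ P, t ≫ φ = g := by
  haveI : JacobsonSpace P.left := LocallyOfFiniteType.jacobsonSpace P.hom
  have hcl : IsClosed (φ.left ⁻¹' {g.left base₀}) := (isClosed_pt g).preimage φ.left.continuous
  obtain ⟨w, hw⟩ := hg
  obtain ⟨z, hz, hz'⟩ := nonempty_inter_closedPoints (Z := φ.left ⁻¹' {g.left base₀}) ⟨w, hw⟩ hcl.isLocallyClosed
  obtain ⟨t, ht⟩ := exists_pt hz'
  refine ⟨t, pt_ext ?_⟩
  rw [Over.comp_left, Scheme.Hom.comp_apply, ht]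
  exact hz

variable {G : Over (Spec (CommRingCat.of k))} [GrpObj G] {J : Type v} {X : J → Over (Spec (CommRingCat.of k))}

theorem locallyOfFiniteType_src [∀ j, LocallyOfFiniteType (X j).hom] (l : List (J × Bool)) :
    LocallyOfFiniteType (src X l).hom := by
  induction l with
  | nil =>
    show LocallyOfFiniteType (𝟙 (Spec (CommRingCat.of k)))
    infer_instance
  | cons a l ih =>
    show LocallyOfFiniteType (X a.1 ⊗ src X l).hom
    haveI := ih
    rw [← Over.w (snd (X a.1) (src X l))]
    haveI : LocallyOfFiniteType (snd (X a.1) (src X l)).left :=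
      MorphismProperty.pullback_snd _ _ (inferInstance : LocallyOfFiniteType (X a.1).hom)
    infer_instance

variable [LocallyOfFiniteType G.hom] (f : ∀ j, X j ⟶ G)

/-- Rational points under words are products of the generators. -/
theorem mem_closure_of_mem_wordSet [∀ j, LocallyOfFiniteType (X j).hom]
    {g : 𝟙_ (Over (Spec (CommRingCat.of k))) ⟶ G} (hg : g.left base₀ ∈ wordSet f) :
    g ∈ Subgroup.closure (⋃ j, Set.range (fun x : 𝟙_ (Over (Spec (CommRingCat.of k))) ⟶ X j => x ≫ f j)) := by
  obtain ⟨l, hl⟩ := Set.mem_iUnion.1 hg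
  haveI := fun l => locallyOfFiniteType_src (k := k) (X := X) l
  obtain ⟨t, rfl⟩ := exists_pt_lift (word f l) g hl
  clear hl hg
  induction l with
  | nil => rw [comp_word_nil]; exact one_mem _
  | cons a l ih =>
    rw [word_cons, MonObj.comp_mul, ← Category.assoc, ← Category.assoc]
    refine mul_mem ?_ (ih _)
    have hm : ∀ y : 𝟙_ (Over (Spec (CommRingCat.of k))) ⟶ X a.1, y ≫ f a.1 ∈
        Subgroup.closure (⋃ j, Set.range (fun x : 𝟙_ (Over (Spec (CommRingCat.of k))) ⟶ X j => x ≫ f j)) := fun y =>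
      Subgroup.subset_closure (Set.mem_iUnion.2 ⟨a.1, y, rfl⟩)
    unfold letter
    split
    · exact hm _
    · rw [GrpObj.comp_inv]; exact inv_mem (hm _)

/-- Products of generators lie under words. -/
theorem mem_wordSet_of_mem_closure {g : 𝟙_ (Over (Spec (CommRingCat.of k))) ⟶ G}
    (hg : g ∈ Subgroup.closure (⋃ j, Set.range (fun x : 𝟙_ (Over (Spec (CommRingCat.of k))) ⟶ X j => x ≫ f j))) :
    g.left base₀ ∈ wordSet f := by
  suffices h : ∃ l, ∃ t : 𝟙_ (Over (Spec (CommRingCat.of k))) ⟶ src X l, t ≫ word f l = g by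
    obtain ⟨l, t, rfl⟩ := h
    exact Set.mem_iUnion.2 ⟨l, t.left base₀, by rw [← Scheme.Hom.comp_apply, ← Over.comp_left]⟩
  induction hg using Subgroup.closure_induction with
  | mem g hg =>
    obtain ⟨j, y, rfl⟩ := Set.mem_iUnion.1 hg
    obtain ⟨r, hr⟩ := exists_single f (j, true) y
    exact ⟨_, r, hr⟩
  | one => exact ⟨[], toUnit _, comp_word_nil f _⟩
  | mul a b _ _ ha hb =>
    obtain ⟨l, s, rfl⟩ := ha
    obtain ⟨m, t, rfl⟩ := hb
    obtain ⟨r, hr⟩ := exists_append f l m s t
    exact ⟨_, r, hr⟩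
  | inv a _ ha =>
    obtain ⟨l, s, rfl⟩ := ha
    obtain ⟨r, hr⟩ := exists_inv f l s
    exact ⟨_, r, hr⟩

/-- The words lie in a closed set containing their rational points. -/
theorem wordSet_subset_of_pts [∀ j, LocallyOfFiniteType (X j).hom] {U : Set G.left} (hU : IsClosed U)
    (h : ∀ g : 𝟙_ (Over (Spec (CommRingCat.of k))) ⟶ G, g.left base₀ ∈ wordSet f → g.left base₀ ∈ U) :
    wordSet f ⊆ U := by
  intro z hz
  obtain ⟨l, p, rfl⟩ := Set.mem_iUnion.1 hz
  haveI := fun l => locallyOfFiniteType_src (k := k) (X := X) l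
  haveI : JacobsonSpace (src X l).left := LocallyOfFiniteType.jacobsonSpace (src X l).hom
  have hsub : closedPoints (src X l).left ⊆ (word f l).left ⁻¹' U := fun w hw => by
    obtain ⟨t, rfl⟩ := exists_pt hw
    have h1 := h (t ≫ word f l) (Set.mem_iUnion.2 ⟨l, t.left base₀, by
      rw [← Scheme.Hom.comp_apply, ← Over.comp_left]⟩)
    rwa [Over.comp_left, Scheme.Hom.comp_apply] at h1
  exact (hU.preimage (word f l).left.continuous).closure_subset_iff.2 hsub
    (closure_closedPoints (X := (src X l).left) ▸ Set.mem_univ p)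

end Groth.Agent.GenSubLib
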