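import Mathlib

/-!
# Finitely many mutual commutator values of two normal subgroups generate a finite subgroup
-/

set_option autoImplicit false
set_option linter.style.haveILetI false
set_option linter.unusedSectionVars false

universe u

open Subgroup
open scoped commutatorElement

namespace Groth.Agent.GenSubLib

variable {Q : Type u} [Group Q]

theorem finite_commutator_abelian (A B : Subgroup Q) [A.Normal] [B.Normal]
    (hS : {q : Q | ∃ a ∈ A, ∃ b ∈ B, ⁅a, b⁆ = q}.Finite)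
    (hC : ∀ c ∈ ⁅A, B⁆, ∀ d ∈ ⁅A, B⁆, c * d = d * c) : ((⁅A, B⁆ : Subgroup Q) : Set Q).Finite := by
  have hle : ⁅A, B⁆ ≤ B := commutator_le_right A B
  have step1 : ∀ a ∈ A, ∀ d ∈ ⁅A, B⁆, IsOfFinOrder ⁅a, d⁆ := by
    intro a ha d hd
    have hpow : ∀ n : ℕ, ⁅a, d ^ n⁆ = ⁅a, d⁆ ^ n := by
      intro n
      induction n with
      | zero => simp
      | succ n ih =>
        have h1 : ⁅a, d⁆ ∈ ⁅A, B⁆ := commutator_mem_commutator ha (hle hd)
        have h2 : ⁅a, d ^ n * d⁆ = ⁅a, d ^ n⁆ * (d ^ n * ⁅a, d⁆ * (d ^ n)⁻¹) := by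
          simp only [commutatorElement_def]; group
        rw [pow_succ, h2, ih, pow_succ, hC _ (pow_mem hd n) _ h1, mul_inv_cancel_right]
    refine finite_powers.1 (hS.subset ?_)
    rintro _ ⟨n, rfl⟩
    exact ⟨a, ha, d ^ n, pow_mem (hle hd) n, hpow n⟩
  have step2 : ∀ a ∈ A, ∀ b ∈ B, IsOfFinOrder ⁅a, b⁆ := by
    intro a ha b hb
    have hc : ⁅a, b⁆ ∈ ⁅A, B⁆ := commutator_mem_commutator ha hb
    have htor : ∀ n : ℕ, IsOfFinOrder (⁅a ^ n, b⁆ * (⁅a, b⁆ ^ n)⁻¹) := by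
      intro n
      induction n with
      | zero => simp
      | succ n ih =>
        have hn : ⁅a ^ n, b⁆ ∈ ⁅A, B⁆ := commutator_mem_commutator (pow_mem ha n) hb
        have h2 : ⁅a * a ^ n, b⁆ = ⁅a, ⁅a ^ n, b⁆⁆ * ⁅a ^ n, b⁆ * ⁅a, b⁆ := by
          simp only [commutatorElement_def]; group
        have h3 : ⁅a, ⁅a ^ n, b⁆⁆ ∈ ⁅A, B⁆ := commutator_mem_commutator ha (hle hn)
        rw [pow_succ', pow_succ, h2, show ⁅a, ⁅a ^ n, b⁆⁆ * ⁅a ^ n, b⁆ * ⁅a, b⁆ * (⁅a, b⁆ ^ n * ⁅a, b⁆)⁻¹ =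
          ⁅a, ⁅a ^ n, b⁆⁆ * (⁅a ^ n, b⁆ * (⁅a, b⁆ ^ n)⁻¹) by group]
        exact Commute.isOfFinOrder_mul (hC _ h3 _ (mul_mem hn (inv_mem (pow_mem hc n)))) (step1 a ha _ hn) ih
    have hmaps : Set.MapsTo (fun n : ℕ => ⁅a ^ n, b⁆) Set.univ {q : Q | ∃ a ∈ A, ∃ b ∈ B, ⁅a, b⁆ = q} :=
      fun n _ => ⟨a ^ n, pow_mem ha n, b, hb, rfl⟩
    obtain ⟨n, -, m, -, hnm, he⟩ := Set.infinite_univ.exists_lt_map_eq_of_mapsTo hmaps hS
    have h : ⁅a, b⁆ ^ (m - n) =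
        (⁅a ^ n, b⁆ * (⁅a, b⁆ ^ n)⁻¹) * (⁅a ^ m, b⁆ * (⁅a, b⁆ ^ m)⁻¹)⁻¹ := by
      rw [he, pow_sub _ hnm.le]
      have hcm : Commute (⁅a, b⁆ ^ m) ((⁅a, b⁆ ^ n)⁻¹) := ((Commute.refl ⁅a, b⁆).pow_pow m n).inv_right
      have hcm2 := hC _ (commutator_mem_commutator (pow_mem ha m) hb) _ (mul_mem (pow_mem hc m) (inv_mem (pow_mem hc n)))
      rw [mul_inv_rev, inv_inv, _root_.mul_assoc, ← _root_.mul_assoc ((⁅a, b⁆ ^ n)⁻¹), ← hcm.eq, ← _root_.mul_assoc,
        hcm2, _root_.mul_inv_cancel_right]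
    have hfin : IsOfFinOrder (⁅a, b⁆ ^ (m - n)) := by
      rw [h]
      exact Commute.isOfFinOrder_mul (hC _ (mul_mem (commutator_mem_commutator (pow_mem ha n) hb) (inv_mem (pow_mem hc n)))
        _ (inv_mem (mul_mem (commutator_mem_commutator (pow_mem ha m) hb) (inv_mem (pow_mem hc m))))) (htor n) (htor m).inv
    exact hfin.of_pow (Nat.sub_ne_zero_of_lt hnm)
  letI : CommGroup ↥⁅A, B⁆ :=
    { (inferInstance : Group ↥⁅A, B⁆) with mul_comm := fun x y => Subtype.ext (hC _ x.2 _ y.2) }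
  haveI : Group.FG ↥⁅A, B⁆ := by
    rw [Group.fg_iff_subgroup_fg]
    refine ⟨hS.toFinset, ?_⟩
    rw [Set.Finite.coe_toFinset, Subgroup.commutator_def]
  have htors : IsMulTorsion ↥⁅A, B⁆ := by
    intro x
    have hx : IsOfFinOrder (x : Q) := by
      refine closure_induction (fun q hq => ?_) IsOfFinOrder.one (fun q r hq hr hq' hr' => ?_)
        (fun q _ hq' => hq'.inv) (show (x : Q) ∈ closure {q : Q | ∃ a ∈ A, ∃ b ∈ B, ⁅a, b⁆ = q} from x.2)
      · obtain ⟨a, ha, b, hb, rfl⟩ := hq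
        exact step2 a ha b hb
      · exact Commute.isOfFinOrder_mul (hC _ hq _ hr) hq' hr'
    exact Submonoid.isOfFinOrder_coe.1 hx
  haveI : Finite ↥⁅A, B⁆ := CommGroup.finite_of_fg_isMulTorsion _ htors
  exact Set.toFinite _

theorem finite_commutator_of_finite (A B : Subgroup Q) [A.Normal] [B.Normal]
    (hS : {q : Q | ∃ a ∈ A, ∃ b ∈ B, ⁅a, b⁆ = q}.Finite) : ((⁅A, B⁆ : Subgroup Q) : Set Q).Finite := by
  haveI : Finite (commutatorSet ↥⁅A, B⁆) := by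
    refine Set.Finite.to_subtype ((hS.preimage Subtype.val_injective.injOn).subset ?_)
    rintro _ ⟨c, d, rfl⟩
    exact ⟨c, commutator_le_left A B c.2, d, commutator_le_right A B d.2, rfl⟩
  let N : Subgroup Q := ⁅⁅A, B⁆, ⁅A, B⁆⁆
  have hN : (N : Set Q).Finite := by
    have : N = (_root_.commutator ↥⁅A, B⁆).map ⁅A, B⁆.subtype := (map_subtype_commutator _).symm
    rw [this, coe_map]
    haveI hf : Finite ↥(_root_.commutator ↥⁅A, B⁆) := inferInstance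
    exact (Set.finite_coe_iff.1 hf).image _
  let π := QuotientGroup.mk' N
  haveI : (A.map π).Normal := Subgroup.Normal.map inferInstance π (QuotientGroup.mk'_surjective N)
  haveI : (B.map π).Normal := Subgroup.Normal.map inferInstance π (QuotientGroup.mk'_surjective N)
  have hmap : (⁅A, B⁆).map π = ⁅A.map π, B.map π⁆ := map_commutator A B π
  have hfin : ((⁅A.map π, B.map π⁆ : Subgroup (Q ⧸ N)) : Set (Q ⧸ N)).Finite := by
    refine finite_commutator_abelian _ _ ((hS.image π).subset ?_) ?_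
    · rintro _ ⟨_, ⟨a, ha, rfl⟩, _, ⟨b, hb, rfl⟩, rfl⟩
      exact ⟨⁅a, b⁆, ⟨a, ha, b, hb, rfl⟩, map_commutatorElement π a b⟩
    · rw [← hmap]
      rintro _ ⟨c, hc, rfl⟩ _ ⟨d, hd, rfl⟩
      rw [← commutatorElement_eq_one_iff_mul_comm, ← map_commutatorElement]
      exact (QuotientGroup.eq_one_iff _).2 (commutator_mem_commutator hc hd)
  rw [← hmap, coe_map] at hfin
  refine (hfin.preimage' fun y _ => ?_).subset fun c hc => ⟨c, hc, rfl⟩
  obtain ⟨x, rfl⟩ := QuotientGroup.mk'_surjective N y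
  refine (hN.image fun n => x * n).subset fun z hz => ⟨x⁻¹ * z, ?_, by group⟩
  exact QuotientGroup.eq.1 (hz : π z = π x).symm

end Groth.Agent.GenSubLib
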