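import Groth.Agent.GenSubLib.Apps
import Groth.Agent.GrpSchLib.Component

/-!
# The commutator subgroup: connectedness and quasi-compactness
-/

set_option autoImplicit false
set_option backward.isDefEq.respectTransparency false
set_option backward.isDefEq.respectTransparency.types false
set_option linter.style.haveILetI false
set_option linter.unusedSectionVars false

universe u

open CategoryTheory CategoryTheory.Limits MonoidalCategory CartesianMonoidalCategory MonObj AlgebraicGeometry

noncomputable section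

namespace Groth.Agent.GenSubLib

variable {k : Type u} [Field k] {G A B : Over (Spec (CommRingCat.of k))} [GrpObj G] [GrpObj A] [GrpObj B]
  (a : A ⟶ G) [IsMonHom a] (b : B ⟶ G) [IsMonHom b]

/-- The commutator morphism. -/
abbrev commMap : A ⊗ B ⟶ G := (fst A B ≫ a) * (snd A B ≫ b) * (fst A B ≫ a)⁻¹ * (snd A B ≫ b)⁻¹

omit [GrpObj B] [IsMonHom b] in
theorem lift_one_commMap {T : Over (Spec (CommRingCat.of k))} (y : T ⟶ B) :
    lift (1 : T ⟶ A) y ≫ commMap a b = 1 := by
  simp [commMap, MonObj.comp_mul, GrpObj.comp_inv, MonObj.one_comp]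

theorem isConnected_wordSet_commMap [ConnectedSpace A.left] :
    _root_.IsConnected (wordSet (fun _ : PUnit.{1} => commMap a b)) := by
  haveI := geometricallyConnected_of_rational η[A]
  let p₀ : (𝟙_ (Over (Spec (CommRingCat.of k)))).left := IsLocalRing.closedPoint k
  let e₀ : G.left := η[G].left p₀
  refine ⟨⟨e₀, one_mem_wordSet _ p₀⟩, isPreconnected_of_forall e₀ fun z hz => ?_⟩
  obtain ⟨l, hl⟩ := Set.mem_iUnion.1 hz
  clear hz
  induction l generalizing z with
  | nil =>
    refine ⟨Set.range (word (fun _ : PUnit.{1} => commMap a b) []).left,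
      Set.subset_iUnion (fun l => Set.range (word (fun _ : PUnit.{1} => commMap a b) l).left) [],
      ⟨p₀, rfl⟩, hl, ?_⟩
    haveI : Subsingleton ↥(src (fun _ : PUnit.{1} => A ⊗ B) []).left := inferInstanceAs (Subsingleton (PrimeSpectrum k))
    exact (Set.subsingleton_of_subsingleton.image _).isPreconnected |> fun h => by
      rwa [Set.image_univ] at h
  | cons c l ih =>
    obtain ⟨q, rfl⟩ := hl
    let Q := src (fun _ : PUnit.{1} => A ⊗ B) (c :: l)
    let T := pt Q q
    let i₀ : T ⟶ (A ⊗ B) ⊗ src (fun _ : PUnit.{1} => A ⊗ B) l := ptι Q q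
    let t : T ⟶ src (fun _ : PUnit.{1} => A ⊗ B) l := i₀ ≫ snd _ _
    let v : A ⊗ T ⟶ src (fun _ : PUnit.{1} => A ⊗ B) (c :: l) :=
      lift (lift (fst A T) (snd A T ≫ i₀ ≫ fst _ _ ≫ snd A B)) (snd A T ≫ t)
    let u : A ⊗ T ⟶ G := v ≫ word (fun _ : PUnit.{1} => commMap a b) (c :: l)
    haveI : ConnectedSpace ↥(A ⊗ T).left := by
      haveI : IrreducibleSpace ↥T.left := inferInstanceAs (IrreducibleSpace ↥(Spec (Q.left.residueField q)))
      haveI : Subsingleton ↥T.left := inferInstanceAs (Subsingleton (PrimeSpectrum (Q.left.residueField q)))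
      haveI : GeometricallyConnected (snd A T).left := MorphismProperty.pullback_snd _ _ ‹GeometricallyConnected A.hom›
      haveI : Nonempty ↥T.left := ⟨pt₀ Q q⟩
      exact GeometricallyConnected.connectedSpace_of_subsingleton (f := (snd A T).left)
    have hu : Set.range u.left ⊆ wordSet (fun _ : PUnit.{1} => commMap a b) := by
      rintro _ ⟨w, rfl⟩
      exact Set.mem_iUnion.2 ⟨c :: l, v.left w, rfl⟩
    have hq : (i₀.left) (pt₀ Q q) = q := ptι_apply Q q _
    have hzu : (word (fun _ : PUnit.{1} => commMap a b) (c :: l)).left q ∈ Set.range u.left := by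
      refine ⟨(lift (i₀ ≫ fst _ _ ≫ fst A B) (𝟙 T)).left (pt₀ Q q), ?_⟩
      have e : lift (i₀ ≫ fst _ _ ≫ fst A B) (𝟙 T) ≫ v = i₀ := by
        apply CartesianMonoidalCategory.hom_ext
        · apply CartesianMonoidalCategory.hom_ext <;> simp [v]
        · simp [v, t]
      show (v ≫ word (fun _ : PUnit.{1} => commMap a b) (c :: l)).left _ = _
      rw [← Scheme.Hom.comp_apply, ← Over.comp_left, ← Category.assoc, e]
      exact congrArg (word (fun _ : PUnit.{1} => commMap a b) (c :: l)).left hq
    have hone : (t ≫ word (fun _ : PUnit.{1} => commMap a b) l).left (pt₀ Q q) ∈ Set.range u.left := by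
      refine ⟨(lift (1 : T ⟶ A) (𝟙 T)).left (pt₀ Q q), ?_⟩
      have e0 : lift (1 : T ⟶ A) (𝟙 T) ≫ v = lift (lift (1 : T ⟶ A) (i₀ ≫ fst _ _ ≫ snd A B)) t := by
        apply CartesianMonoidalCategory.hom_ext
        · apply CartesianMonoidalCategory.hom_ext <;> simp [v]
        · simp [v]
      have e : lift (1 : T ⟶ A) (𝟙 T) ≫ u = t ≫ word (fun _ : PUnit.{1} => commMap a b) l := by
        rw [← Category.assoc, e0]
        refine (comp_word_cons (fun _ : PUnit.{1} => commMap a b) c l _ t).trans ?_
        unfold letter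
        split
        · rw [lift_one_commMap, _root_.one_mul]
        · rw [GrpObj.comp_inv, lift_one_commMap, inv_one, _root_.one_mul]
      rw [← Scheme.Hom.comp_apply, ← Over.comp_left, e]
    obtain ⟨C, hC, heC, hzC, hCp⟩ := ih _ ⟨t.left (pt₀ Q q), rfl⟩
    exact ⟨Set.range u.left ∪ C, Set.union_subset hu hC, Or.inr heC, Or.inl hzu,
      (isPreconnected_range u.left.continuous).union _ hone hzC hCp⟩

variable [IsClosedImmersion a.left] [IsClosedImmersion b.left]
  [GeometricallyReduced A.hom] [GeometricallyReduced B.hom] [LocallyOfFiniteType G.hom]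

theorem commutator_props (Γ : Over (Spec (CommRingCat.of k))) [GrpObj Γ] (i : Γ ⟶ G) [IsMonHom i]
    [IsClosedImmersion i.left] (hf : ∃ f' : A ⊗ B ⟶ Γ, f' ≫ i = commMap a b)
    (hmin : ∀ (Γ' : Over (Spec (CommRingCat.of k))) (_ : GrpObj Γ') (i' : Γ' ⟶ G), IsMonHom i' →
      IsClosedImmersion i'.left → (∃ f'' : A ⊗ B ⟶ Γ', f'' ≫ i' = commMap a b) → ∃ j : Γ ⟶ Γ', j ≫ i' = i)
    (hcase : (AlgGrp.IsNormalHom a ∧ AlgGrp.IsNormalHom b ∧ QuasiCompact A.hom) ∨ ConnectedSpace A.left) :
    QuasiCompact Γ.hom ∧ (ConnectedSpace A.left → ConnectedSpace Γ.left) := by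
  haveI := geometricallyReduced_tensor A B
  obtain ⟨-, -, hr, -⟩ := props_of_min (X := fun _ : PUnit.{1} => A ⊗ B) (fun _ : PUnit.{1} => commMap a b) i (fun _ => hf)
    fun Γ' h' i' h1 h2 h3 => hmin Γ' h' i' h1 h2 (h3 PUnit.unit)
  haveI : LocallyOfFiniteType Γ.hom := by rw [← Over.w i]; infer_instance
  have hconn : ConnectedSpace A.left → ConnectedSpace Γ.left := fun _ => by
    have h := (isConnected_wordSet_commMap a b).closure
    rw [← hr, ← Set.image_univ] at h
    rw [connectedSpace_iff_univ]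
    exact ⟨⟨η[Γ].left (IsLocalRing.closedPoint k), trivial⟩,
      i.left.isClosedEmbedding.isInducing.isPreconnected_image.1 h.isPreconnected⟩
  refine ⟨?_, hconn⟩
  have hc : CompactSpace Γ.left := by
    rcases hcase with ⟨hA, -, hqc⟩ | hc
    · obtain ⟨n', hn'⟩ := hA (A ⊗ B) (snd A B ≫ b) (fst A B)⁻¹
      obtain ⟨r, hr⟩ := hmin A ‹_› a inferInstance inferInstance ⟨fst A B * n', by
        rw [MonObj.mul_comp, ← hn', GrpObj.inv_comp]
        simp only [commMap]
        group⟩
      haveI : IsClosedImmersion (r.left ≫ a.left) := by rw [← Over.comp_left, hr]; infer_instance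
      haveI : IsClosedImmersion r.left := IsClosedImmersion.of_comp r.left a.left
      haveI : CompactSpace A.left := quasiCompact_iff_compactSpace A.hom |>.1 hqc
      exact r.left.isClosedEmbedding.compactSpace
    · haveI := hconn hc
      haveI := GrpSchLib.irreducibleSpace_of_connectedSpace (G := Γ)
      exact GrpSchLib.compactSpace_of_irreducibleSpace
  exact (quasiCompact_iff_compactSpace Γ.hom).2 hc

end Groth.Agent.GenSubLib
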