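import Groth.Agent.GenSubLib.Single

/-!
# A generated subgroup covered by finitely many cosets
-/

set_option autoImplicit false
set_option backward.isDefEq.respectTransparency false
set_option backward.isDefEq.respectTransparency.types false
set_option linter.style.haveILetI false
set_option linter.unusedSectionVars false

universe u

open CategoryTheory CategoryTheory.Limits MonoidalCategory CartesianMonoidalCategory MonObj AlgebraicGeometry

noncomputable section

namespace Groth.Agent.GenSubLib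

variable {k : Type u} [Field k] {G : Over (Spec (CommRingCat.of k))} [GrpObj G]

/-- Left translation by a rational point. -/
abbrev leftT (a : 𝟙_ (Over (Spec (CommRingCat.of k))) ⟶ G) : G ⟶ G := (λ_ G).inv ≫ (a ▷ G) ≫ μ[G]

theorem comp_leftT (a : 𝟙_ (Over (Spec (CommRingCat.of k))) ⟶ G) {T : Over (Spec (CommRingCat.of k))} (v : T ⟶ G) :
    v ≫ leftT a = (toUnit T ≫ a) * v := by
  rw [Hom.mul_def, leftT, ← Category.assoc, ← Category.assoc]
  congr 1
  apply CartesianMonoidalCategory.hom_ext <;> simp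

theorem isClosedMap_leftT (a : 𝟙_ (Over (Spec (CommRingCat.of k))) ⟶ G) : IsClosedMap (leftT a).left := by
  have h : ∀ b : 𝟙_ (Over (Spec (CommRingCat.of k))) ⟶ G, leftT b ≫ leftT b⁻¹ = 𝟙 G := fun b => by
    rw [← Category.id_comp (leftT b), comp_leftT, comp_leftT, GrpObj.comp_inv, inv_mul_cancel_left]
  haveI : IsIso (leftT a) := ⟨leftT a⁻¹, h a, by have h2 := h a⁻¹; rwa [inv_inv] at h2⟩
  haveI : IsIso (leftT a).left := inferInstanceAs (IsIso ((Over.forget _).map (leftT a)))
  exact (leftT a).left.homeomorph.isClosedMap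

variable {X : Over (Spec (CommRingCat.of k))} (f : X ⟶ G)

theorem range_word_subset_pad (x₀ : 𝟙_ (Over (Spec (CommRingCat.of k))) ⟶ X) (hx₀ : x₀ ≫ f = η[G])
    (l : List (PUnit.{1} × Bool)) : ∀ n : ℕ, Set.range (word (one₁ f) l).left ⊆
      Set.range (word (one₁ f) (List.replicate n (PUnit.unit, true) ++ l)).left
  | 0 => le_refl _
  | n + 1 => by
    refine (range_word_subset_pad x₀ hx₀ l n).trans ?_
    rintro _ ⟨p, rfl⟩
    let l' := List.replicate n (PUnit.unit, true) ++ l
    refine ⟨(lift (toUnit (src (fun _ : PUnit.{1} => X) l') ≫ x₀) (𝟙 _) :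
      src (fun _ : PUnit.{1} => X) l' ⟶ src (fun _ : PUnit.{1} => X) ((PUnit.unit, true) :: l')).left p, ?_⟩
    show (word (one₁ f) ((PUnit.unit, true) :: l')).left _ = (word (one₁ f) l').left p
    have e0 := comp_word_cons (one₁ f) (PUnit.unit, true) l' (toUnit (src (fun _ : PUnit.{1} => X) l') ≫ x₀) (𝟙 _)
    have e : (toUnit (src (fun _ : PUnit.{1} => X) l') ≫ x₀) ≫ letter (one₁ f) (PUnit.unit, true) = 1 := by
      show (_ ≫ x₀) ≫ f = 1
      rw [Category.assoc, hx₀, Hom.one_def]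
    rw [e, _root_.one_mul, Category.id_comp] at e0
    exact congrArg (fun g => g.left p) e0

variable {H : Over (Spec (CommRingCat.of k))} [GrpObj H] [IsAlgClosed k] [LocallyOfFiniteType G.hom]
  [LocallyOfFiniteType X.hom]

theorem cosets_of_min [GeometricallyReduced X.hom]
    (h : H ⟶ G) [IsMonHom h] [IsClosedImmersion h.left] (hH : Set.range h.left.base ⊆ Set.range f.left.base)
    (Γ : Over (Spec (CommRingCat.of k))) [GrpObj Γ] (i : Γ ⟶ G) [IsMonHom i] [IsClosedImmersion i.left]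
    (hf : ∃ f' : X ⟶ Γ, f' ≫ i = f)
    (hmin : ∀ (Γ' : Over (Spec (CommRingCat.of k))) (_ : GrpObj Γ') (i' : Γ' ⟶ G), IsMonHom i' →
      IsClosedImmersion i'.left → (∃ f'' : X ⟶ Γ', f'' ≫ i' = f) → ∃ j : Γ ⟶ Γ', j ≫ i' = i)
    (F : Finset (𝟙_ (Over (Spec (CommRingCat.of k))) ⟶ G))
    (hF : ∀ a ∈ F, a.left base₀ ∈ wordSet (one₁ f))
    (hcov : ∀ g : 𝟙_ (Over (Spec (CommRingCat.of k))) ⟶ G, g.left base₀ ∈ wordSet (one₁ f) →
      ∃ a ∈ F, ∃ y : 𝟙_ (Over (Spec (CommRingCat.of k))) ⟶ H, g = a * (y ≫ h)) :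
    (∃ m : ℕ, Set.range i.left.base =
      {g : G.left | ∃ (T : Over (Spec (CommRingCat.of k))) (p : T.left) (x : Fin m → (T ⟶ X)) (ε : Fin m → Bool),
        ((List.ofFn fun j : Fin m => if ε j then x j ≫ f else (x j ≫ f)⁻¹).prod : T ⟶ G).left.base p = g}) ∧
    Set.range i.left.base = ⋃ a ∈ F, (fun z => (leftT a).left.base z) '' Set.range h.left.base := by
  obtain ⟨-, -, hr, -⟩ := props_of_min₁ f i hf hmin
  haveI : ∀ _ : PUnit.{1}, LocallyOfFiniteType X.hom := fun _ => inferInstance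
  haveI := fun l => locallyOfFiniteType_src (k := k) (X := fun _ : PUnit.{1} => X) l
  let U : Set G.left := ⋃ a ∈ F, (fun z => (leftT a).left z) '' Set.range h.left
  have hUcl : IsClosed U := by
    refine isClosed_biUnion_finset fun a _ => ?_
    exact isClosedMap_leftT a _ h.left.isClosedEmbedding.isClosed_range
  have hWU : wordSet (one₁ f) ⊆ U := wordSet_subset_of_pts (one₁ f) hUcl fun g hg => by
    obtain ⟨a, ha, y, rfl⟩ := hcov g hg
    refine Set.mem_biUnion ha ⟨(y ≫ h).left base₀, ⟨y.left base₀, by rw [Over.comp_left, Scheme.Hom.comp_apply]⟩, ?_⟩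
    show (leftT a).left ((y ≫ h).left base₀) = _
    rw [← Scheme.Hom.comp_apply, ← Over.comp_left, comp_leftT, toUnit_unit, Category.id_comp]
  obtain ⟨x₀, hx₀⟩ := exists_pt_lift f η[G] (hH ⟨η[H].left base₀, by
    show h.left (η[H].left base₀) = _
    rw [← Scheme.Hom.comp_apply, ← Over.comp_left, IsMonHom.one_hom h]⟩)
  choose la hla using fun a : F => Set.mem_iUnion.1 (hF a.1 a.2)
  let m := (Finset.univ.sup fun a : F => (la a).length) + 1
  have hUV : U ⊆ ⋃ l : {l : List (PUnit.{1} × Bool) // l.length = m}, Set.range (word (one₁ f) l.1).left := by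
    intro z hz
    simp only [U, Set.mem_iUnion] at hz
    obtain ⟨a, ha, w, ⟨v, rfl⟩, rfl⟩ := hz
    obtain ⟨T, r, s, p, hp, hrs⟩ := GrpSchLib.exists_lift h f v (hH ⟨v, rfl⟩)
    obtain ⟨t, ht⟩ := exists_pt_lift (word (one₁ f) (la ⟨a, ha⟩)) a (hla ⟨a, ha⟩)
    obtain ⟨r₁, h₁⟩ := exists_single (one₁ f) (PUnit.unit, true) s
    obtain ⟨r₂, h₂⟩ := exists_append (one₁ f) _ _ (toUnit T ≫ t) r₁
    have hlen : (la ⟨a, ha⟩ ++ [(PUnit.unit, true)]).length ≤ m := by
      rw [List.length_append, List.length_singleton]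
      exact Nat.add_le_add_right (Finset.le_sup (f := fun a : F => (la a).length) (Finset.mem_univ _)) 1
    refine Set.mem_iUnion.2 ⟨⟨List.replicate (m - (la ⟨a, ha⟩ ++ [(PUnit.unit, true)]).length) (PUnit.unit, true) ++
        (la ⟨a, ha⟩ ++ [(PUnit.unit, true)]), by
      rw [List.length_append, List.length_replicate]; omega⟩,
      range_word_subset_pad f x₀ hx₀ _ _ ⟨r₂.left p, ?_⟩⟩
    show (word (one₁ f) _).left (r₂.left p) = (leftT a).left (h.left v)
    rw [← hp, ← Scheme.Hom.comp_apply, ← Over.comp_left, h₂, Category.assoc, ht, h₁,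
      ← Scheme.Hom.comp_apply, ← Scheme.Hom.comp_apply, ← Over.comp_left, ← Over.comp_left,
      ← Category.assoc r h, comp_leftT, hrs]
    rfl
  have hVW : (⋃ l : {l : List (PUnit.{1} × Bool) // l.length = m}, Set.range (word (one₁ f) l.1).left) ⊆
      wordSet (one₁ f) := Set.iUnion_subset fun l => Set.subset_iUnion_of_subset l.1 le_rfl
  have e1 : closure (wordSet (one₁ f)) = U :=
    (hUcl.closure_subset_iff.2 hWU).antisymm ((hUV.trans hVW).trans subset_closure)
  refine ⟨⟨m, ?_⟩, ?_⟩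
  · rw [wordSet_eq_prod f m]
    show Set.range i.left = _
    rw [hr, e1]
    exact hUV.antisymm (hVW.trans hWU)
  · show Set.range i.left = _
    rw [hr, e1]

end Groth.Agent.GenSubLib
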