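import Groth.Agent.GenSubLib.BoundedK
import Groth.Agent.GenSubLib.Commutator
import Groth.Agent.GenSubLib.Cosets
import Groth.Agent.GenSubLib.Baer
import Groth.Agent.AVLib.IdSub
import Groth.Agent.DVRCrit.Local

/-!
# Rational points of the commutator subgroup
-/

set_option autoImplicit false
set_option backward.isDefEq.respectTransparency false
set_option backward.isDefEq.respectTransparency.types false
set_option linter.style.haveILetI false
set_option linter.unusedSectionVars false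

universe u v

open CategoryTheory CategoryTheory.Limits MonoidalCategory CartesianMonoidalCategory MonObj AlgebraicGeometry
open scoped commutatorElement

noncomputable section

namespace Groth.Agent.GenSubLib

variable {k : Type u} [Field k] [IsAlgClosed k] {G : Over (Spec (CommRingCat.of k))} [GrpObj G]
  [LocallyOfFiniteType G.hom]

theorem pts_closure_wordSet {J : Type v} {Y : J → Over (Spec (CommRingCat.of k))} (g : ∀ j, Y j ⟶ G)
    [∀ j, IrreducibleSpace (Y j).left] [∀ j, GeometricallyReduced (Y j).hom] [∀ j, LocallyOfFiniteType (Y j).hom]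
    [∀ j, QuasiCompact (Y j).hom] (y : ∀ j, 𝟙_ (Over (Spec (CommRingCat.of k))) ⟶ Y j) (hy : ∀ j, y j ≫ g j = 1)
    (z : 𝟙_ (Over (Spec (CommRingCat.of k))) ⟶ G) (hz : z.left base₀ ∈ closure (wordSet g)) :
    z ∈ Subgroup.closure (⋃ j, Set.range (fun w : 𝟙_ (Over (Spec (CommRingCat.of k))) ⟶ Y j => w ≫ g j)) := by
  haveI : ∀ j, GeometricallyConnected (Y j).hom := fun j => geometricallyConnected_of_rational (y j)
  have hy' : ∀ j, y j ≫ g j = η[G] := fun j => by rw [hy, Hom.one_def, toUnit_unit, Category.id_comp]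
  obtain ⟨Γ, hΓ, i, hi, hci, -, -, hr, hfac, ⟨q, hq, hd⟩, -⟩ := exists_generated g
  haveI := hci
  haveI := hi
  letI := hΓ
  haveI : Mono i := Over.mono_of_mono_left i
  haveI : LocallyOfFiniteType Γ.hom := by rw [← Over.w i]; infer_instance
  haveI : ConnectedSpace Γ.left := by
    have h := (isConnected_wordSet g y hy').closure
    rw [← hr, ← Set.image_univ] at h
    rw [connectedSpace_iff_univ]
    exact ⟨⟨η[Γ].left base₀, trivial⟩, i.left.isClosedEmbedding.isInducing.isPreconnected_image.1 h.isPreconnected⟩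
  haveI := GrpSchLib.irreducibleSpace_of_connectedSpace (G := Γ)
  choose g' hg' using hfac
  have hy1 : ∀ j, y j ≫ g' j = 1 := fun j => by
    rw [← cancel_mono i, Category.assoc, hg', hy, MonObj.one_comp]
  have hd' : Dense (wordSet g') := by
    refine hd.mono ?_
    refine Set.iUnion_subset fun l => ?_
    rw [show q l = word g' l by rw [← cancel_mono i, hq, word_comp i g' g hg']]
    exact Set.subset_iUnion (fun l => Set.range (word g' l).left) l
  obtain ⟨L, hL⟩ := exists_surjective_word g' y hy1 hd'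
  refine mem_closure_of_mem_wordSet g ?_
  rw [← hr] at hz
  obtain ⟨v, hv⟩ := hz
  obtain ⟨p, rfl⟩ := hL v
  refine Set.mem_iUnion.2 ⟨L, p, ?_⟩
  rw [← word_comp i g' g hg' L, ← hv]
  rfl

/-- Rational points of a group scheme mapped into another. -/
abbrev ptsHom {A : Over (Spec (CommRingCat.of k))} [GrpObj A] (a : A ⟶ G) [IsMonHom a] :
    (𝟙_ (Over (Spec (CommRingCat.of k))) ⟶ A) →* (𝟙_ (Over (Spec (CommRingCat.of k))) ⟶ G) where
  toFun x := x ≫ a
  map_one' := MonObj.one_comp a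
  map_mul' x y := MonObj.mul_comp x y a

variable {A B : Over (Spec (CommRingCat.of k))} [GrpObj A] [GrpObj B] (a : A ⟶ G) [IsMonHom a] (b : B ⟶ G) [IsMonHom b]

theorem comp_commMap (t : 𝟙_ (Over (Spec (CommRingCat.of k))) ⟶ A ⊗ B) :
    t ≫ commMap a b = ⁅(t ≫ fst A B) ≫ a, (t ≫ snd A B) ≫ b⁆ := by
  simp only [commMap, commutatorElement_def, MonObj.comp_mul, GrpObj.comp_inv, Category.assoc]

theorem normal_range_of_isNormalHom (hA : AlgGrp.IsNormalHom a) : (ptsHom a).range.Normal := by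
  refine ⟨?_⟩
  rintro _ ⟨x, rfl⟩ g
  obtain ⟨x', hx'⟩ := hA _ g x
  exact ⟨x', hx'.symm⟩

/-- Rational points in the component through the unit. -/
def idPts (A : Over (Spec (CommRingCat.of k))) [GrpObj A] :
    Subgroup (𝟙_ (Over (Spec (CommRingCat.of k))) ⟶ A) where
  carrier := {x : 𝟙_ (Over (Spec (CommRingCat.of k))) ⟶ A | x.left base₀ ∈ GrpSchLib.idComp A}
  mul_mem' {x y} hx hy := AVLib.mul_mem_idComp x y base₀ hx hy
  one_mem' := by
    show (1 : 𝟙_ _ ⟶ A).left base₀ ∈ GrpSchLib.idComp A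
    rw [GrpSchLib.one_apply]
    exact mem_irreducibleComponent
  inv_mem' {x} hx := AVLib.inv_mem_idComp x base₀ hx

theorem normal_idPts (hA : AlgGrp.IsNormalHom a) [Mono a] [LocallyOfFiniteType A.hom] :
    ((idPts A).map (ptsHom a)).Normal := by
  refine ⟨?_⟩
  rintro _ ⟨x, hx, rfl⟩ g
  obtain ⟨ψ, hψ⟩ := hA A (toUnit A ≫ g) (𝟙 A)
  rw [Category.id_comp] at hψ
  have hψt : ∀ t : 𝟙_ (Over (Spec (CommRingCat.of k))) ⟶ A, (t ≫ ψ) ≫ a = g * (t ≫ a) * g⁻¹ := fun t => by
    rw [Category.assoc, ← hψ, MonObj.comp_mul, MonObj.comp_mul, GrpObj.comp_inv, ← Category.assoc t (toUnit A),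
      toUnit_unique (t ≫ toUnit A) (𝟙 _), Category.id_comp]
  have hone : (1 : 𝟙_ (Over (Spec (CommRingCat.of k))) ⟶ A) ≫ ψ = 1 := by
    rw [← cancel_mono a, hψt, MonObj.one_comp, _root_.mul_one, mul_inv_cancel]
  refine ⟨x ≫ ψ, ?_, hψt x⟩
  show (x ≫ ψ).left base₀ ∈ GrpSchLib.idComp A
  have hx' : x.left base₀ ∈ connectedComponent (GrpSchLib.unitPt A) := by
    rw [GrpSchLib.connectedComponent_eq]; exact hx
  have h := ψ.left.continuous.image_connectedComponent_subset _ ⟨_, hx', rfl⟩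
  have he : ψ.left (GrpSchLib.unitPt A) = GrpSchLib.unitPt A := by
    have h1 := congrArg (fun φ => φ.left base₀) hone
    dsimp only at h1
    rw [Over.comp_left, Scheme.Hom.comp_apply, GrpSchLib.one_apply] at h1
    exact h1
  rw [he, GrpSchLib.connectedComponent_eq] at h
  exact h

theorem exists_reps [LocallyOfFiniteType A.hom] [QuasiCompact A.hom] :
    ∃ F : Set (𝟙_ (Over (Spec (CommRingCat.of k))) ⟶ A), F.Finite ∧ ∀ x, ∃ r ∈ F, r⁻¹ * x ∈ idPts A := by
  haveI : CompactSpace A.left := (quasiCompact_iff_compactSpace A.hom).1 ‹_›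
  haveI : IsLocallyNoetherian A.left := LocallyOfFiniteType.isLocallyNoetherian A.hom
  haveI : IsNoetherian A.left := { }
  haveI : Finite (irreducibleComponents (A.left : Type u)) :=
    (TopologicalSpace.NoetherianSpace.finite_irreducibleComponents (α := (A.left : Type u))).to_subtype
  let c : (𝟙_ (Over (Spec (CommRingCat.of k))) ⟶ A) → irreducibleComponents (A.left : Type u) := fun x =>
    ⟨irreducibleComponent (x.left base₀), irreducibleComponent_mem_irreducibleComponents _⟩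
  refine ⟨Set.range fun d : Set.range c => d.2.choose, Set.finite_range _, fun x => ?_⟩
  let d : Set.range c := ⟨c x, x, rfl⟩
  refine ⟨d.2.choose, ⟨d, rfl⟩, ?_⟩
  generalize hr : d.2.choose = r
  have hcr : c r = c x := hr ▸ d.2.choose_spec
  have hmem : x.left base₀ ∈ connectedComponent (r.left base₀) := by
    rw [GrpSchLib.connectedComponent_eq, show irreducibleComponent (r.left base₀) = irreducibleComponent (x.left base₀) from congrArg Subtype.val hcr]
    exact mem_irreducibleComponent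
  have h := (leftT r⁻¹).left.continuous.image_connectedComponent_subset _ ⟨_, hmem, rfl⟩
  have hT : ∀ w : 𝟙_ (Over (Spec (CommRingCat.of k))) ⟶ A, (leftT r⁻¹).left (w.left base₀) = (r⁻¹ * w).left base₀ :=
    fun w => by rw [← Scheme.Hom.comp_apply, ← Over.comp_left, comp_leftT, toUnit_unit, Category.id_comp]
  rw [hT, hT, inv_mul_cancel, GrpSchLib.one_apply, GrpSchLib.connectedComponent_eq] at h
  exact h

variable [IsClosedImmersion a.left] [IsClosedImmersion b.left] [GeometricallyReduced A.hom] [GeometricallyReduced B.hom]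

theorem wordSet_comm_subset {U : Set G.left} (hU : IsClosed U)
    (h : ∀ z ∈ (⁅(ptsHom a).range, (ptsHom b).range⁆ : Subgroup _), z.left base₀ ∈ U) :
    wordSet (fun _ : PUnit.{1} => commMap a b) ⊆ U := by
  haveI : LocallyOfFiniteType A.hom := by rw [← Over.w a]; infer_instance
  haveI : LocallyOfFiniteType B.hom := by rw [← Over.w b]; infer_instance
  haveI : ∀ _ : PUnit.{1}, LocallyOfFiniteType (A ⊗ B).hom := fun _ => by
    rw [← Over.w (snd A B)]
    haveI : LocallyOfFiniteType (snd A B).left := MorphismProperty.pullback_snd _ _ (inferInstance : LocallyOfFiniteType A.hom)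
    infer_instance
  refine wordSet_subset_of_pts _ hU fun g hg => h g ?_
  refine (Subgroup.closure_le _).2 ?_ (mem_closure_of_mem_wordSet (fun _ : PUnit.{1} => commMap a b) hg)
  refine Set.iUnion_subset fun _ => ?_
  rintro _ ⟨t, rfl⟩
  show t ≫ commMap a b ∈ _
  rw [comp_commMap]
  exact Subgroup.commutator_mem_commutator ⟨_, rfl⟩ ⟨_, rfl⟩

theorem pts_connected [QuasiCompact B.hom] [ConnectedSpace A.left]
    {z : 𝟙_ (Over (Spec (CommRingCat.of k))) ⟶ G}
    (hz : z.left base₀ ∈ closure (wordSet (fun _ : PUnit.{1} => commMap a b))) :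
    z ∈ (⁅(ptsHom a).range, (ptsHom b).range⁆ : Subgroup _) := by
  haveI : LocallyOfFiniteType A.hom := by rw [← Over.w a]; infer_instance
  haveI := GrpSchLib.irreducibleSpace_of_connectedSpace (G := A)
  haveI : CompactSpace A.left := GrpSchLib.compactSpace_of_irreducibleSpace
  haveI : QuasiCompact A.hom := (quasiCompact_iff_compactSpace A.hom).2 inferInstance
  let g : ∀ _ : 𝟙_ (Over (Spec (CommRingCat.of k))) ⟶ B, A ⟶ G := fun t => lift (𝟙 A) (toUnit A ≫ t) ≫ commMap a b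
  haveI : ∀ _ : 𝟙_ (Over (Spec (CommRingCat.of k))) ⟶ B, IrreducibleSpace A.left := fun _ => inferInstance
  haveI : ∀ _ : 𝟙_ (Over (Spec (CommRingCat.of k))) ⟶ B, GeometricallyReduced A.hom := fun _ => inferInstance
  haveI : ∀ _ : 𝟙_ (Over (Spec (CommRingCat.of k))) ⟶ B, LocallyOfFiniteType A.hom := fun _ => inferInstance
  haveI : ∀ _ : 𝟙_ (Over (Spec (CommRingCat.of k))) ⟶ B, QuasiCompact A.hom := fun _ => inferInstance
  have hg : ∀ (t : 𝟙_ (Over (Spec (CommRingCat.of k))) ⟶ B) (x : 𝟙_ (Over (Spec (CommRingCat.of k))) ⟶ A),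
      x ≫ g t = ⁅x ≫ a, t ≫ b⁆ := fun t x => by
    rw [← Category.assoc, comp_lift, Category.comp_id, ← Category.assoc x, toUnit_unique (x ≫ toUnit A) (𝟙 _),
      Category.id_comp, comp_commMap, lift_fst, lift_snd]
  have hsub : wordSet (fun _ : PUnit.{1} => commMap a b) ⊆ closure (wordSet g) := by
    refine wordSet_comm_subset a b isClosed_closure fun w hw => subset_closure (mem_wordSet_of_mem_closure g ?_)
    rw [Subgroup.commutator_def] at hw
    refine (Subgroup.closure_le _).2 ?_ hw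
    rintro _ ⟨_, ⟨x, rfl⟩, _, ⟨t, rfl⟩, rfl⟩
    exact Subgroup.subset_closure (Set.mem_iUnion.2 ⟨t, x, hg t x⟩)
  have h := pts_closure_wordSet g (fun _ => (1 : _ ⟶ A)) (fun t => by
    rw [hg, MonObj.one_comp, commutatorElement_one_left]) z (closure_minimal hsub isClosed_closure hz)
  refine (Subgroup.closure_le _).2 ?_ h
  refine Set.iUnion_subset fun t => ?_
  rintro _ ⟨x, rfl⟩
  show x ≫ g t ∈ _
  rw [hg]
  exact Subgroup.commutator_mem_commutator ⟨_, rfl⟩ ⟨_, rfl⟩

theorem pts_normal [QuasiCompact A.hom] [QuasiCompact B.hom] (hA : AlgGrp.IsNormalHom a) (hB : AlgGrp.IsNormalHom b)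
    {z : 𝟙_ (Over (Spec (CommRingCat.of k))) ⟶ G}
    (hz : z.left base₀ ∈ closure (wordSet (fun _ : PUnit.{1} => commMap a b))) :
    z ∈ (⁅(ptsHom a).range, (ptsHom b).range⁆ : Subgroup _) := by
  classical
  haveI : LocallyOfFiniteType A.hom := by rw [← Over.w a]; infer_instance
  haveI : LocallyOfFiniteType B.hom := by rw [← Over.w b]; infer_instance
  haveI : Mono a := Over.mono_of_mono_left a
  haveI : Mono b := Over.mono_of_mono_left b
  haveI := normal_range_of_isNormalHom a hA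
  haveI := normal_range_of_isNormalHom b hB
  haveI := normal_idPts a hA
  haveI := normal_idPts b hB
  let α := (ptsHom a).range
  let β := (ptsHom b).range
  let α₀ := (idPts A).map (ptsHom a)
  let β₀ := (idPts B).map (ptsHom b)
  let N : Subgroup (𝟙_ (Over (Spec (CommRingCat.of k))) ⟶ G) := ⁅α₀, β⁆ ⊔ ⁅α, β₀⁆
  have hND : N ≤ ⁅α, β⁆ := sup_le (Subgroup.commutator_mono ((idPts A).map_le_range (ptsHom a)) le_rfl)
    (Subgroup.commutator_mono le_rfl ((idPts B).map_le_range (ptsHom b)))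
  let A₀ := GrpSchLib.idObj A
  let B₀ := GrpSchLib.idObj B
  let J := (𝟙_ (Over (Spec (CommRingCat.of k))) ⟶ B) ⊕ (𝟙_ (Over (Spec (CommRingCat.of k))) ⟶ A)
  let Y : J → Over (Spec (CommRingCat.of k))
    | .inl _ => A₀
    | .inr _ => B₀
  let g : ∀ j, Y j ⟶ G
    | .inl t => lift (GrpSchLib.idIncl A) (toUnit A₀ ≫ t) ≫ commMap a b
    | .inr t => lift (toUnit B₀ ≫ t) (GrpSchLib.idIncl B) ≫ commMap a b
  haveI hA0r : IsReduced A₀.left := DVRCrit.isReduced_vanishingIdeal _
  haveI hB0r : IsReduced B₀.left := DVRCrit.isReduced_vanishingIdeal _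
  haveI : ∀ j, IrreducibleSpace (Y j).left := fun j => by cases j <;> exact GrpSchLib.irreducibleSpace_idObj
  haveI : ∀ j, GeometricallyReduced (Y j).hom := fun j => by
    cases j
    · exact AVLib.geometricallyReduced_of_perfect A₀.hom
    · exact AVLib.geometricallyReduced_of_perfect B₀.hom
  haveI hA0f : LocallyOfFiniteType A₀.hom := by rw [← Over.w (GrpSchLib.idIncl A)]; infer_instance
  haveI hB0f : LocallyOfFiniteType B₀.hom := by rw [← Over.w (GrpSchLib.idIncl B)]; infer_instance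
  haveI : ∀ j, LocallyOfFiniteType (Y j).hom := fun j => by cases j; exacts [hA0f, hB0f]
  haveI : ∀ j, QuasiCompact (Y j).hom := fun j => by
    cases j <;> exact (quasiCompact_iff_compactSpace _).2 GrpSchLib.compactSpace_idObj
  obtain ⟨eA, heA⟩ := exists_pt_lift (GrpSchLib.idIncl A) (1 : _ ⟶ A) (by
    rw [GrpSchLib.range_idIncl]; exact (idPts A).one_mem)
  obtain ⟨eB, heB⟩ := exists_pt_lift (GrpSchLib.idIncl B) (1 : _ ⟶ B) (by
    rw [GrpSchLib.range_idIncl]; exact (idPts B).one_mem)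
  have hga : ∀ (t : 𝟙_ (Over (Spec (CommRingCat.of k))) ⟶ B) (x : 𝟙_ (Over (Spec (CommRingCat.of k))) ⟶ A₀),
      x ≫ g (.inl t) = ⁅(x ≫ GrpSchLib.idIncl A) ≫ a, t ≫ b⁆ := fun t x => by
    show x ≫ lift (GrpSchLib.idIncl A) (toUnit A₀ ≫ t) ≫ commMap a b = _
    rw [← Category.assoc, comp_lift, ← Category.assoc x (toUnit A₀), toUnit_unique (x ≫ toUnit A₀) (𝟙 _),
      Category.id_comp, comp_commMap, lift_fst, lift_snd]
  have hgb : ∀ (t : 𝟙_ (Over (Spec (CommRingCat.of k))) ⟶ A) (x : 𝟙_ (Over (Spec (CommRingCat.of k))) ⟶ B₀),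
      x ≫ g (.inr t) = ⁅t ≫ a, (x ≫ GrpSchLib.idIncl B) ≫ b⁆ := fun t x => by
    show x ≫ lift (toUnit B₀ ≫ t) (GrpSchLib.idIncl B) ≫ commMap a b = _
    rw [← Category.assoc, comp_lift, ← Category.assoc x (toUnit B₀), toUnit_unique (x ≫ toUnit B₀) (𝟙 _),
      Category.id_comp, comp_commMap, lift_fst, lift_snd]
  let y : ∀ j, 𝟙_ (Over (Spec (CommRingCat.of k))) ⟶ Y j
    | .inl _ => eA
    | .inr _ => eB
  have hy : ∀ j, y j ≫ g j = 1 := by
    rintro (t | t)
    · show eA ≫ g (.inl t) = 1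
      rw [hga, heA, MonObj.one_comp, commutatorElement_one_left]
    · show eB ≫ g (.inr t) = 1
      rw [hgb, heB, MonObj.one_comp, commutatorElement_one_right]
  have hgN : Subgroup.closure (⋃ j, Set.range (fun w : 𝟙_ (Over (Spec (CommRingCat.of k))) ⟶ Y j => w ≫ g j)) = N := by
    refine le_antisymm ((Subgroup.closure_le _).2 (Set.iUnion_subset ?_)) (sup_le ?_ ?_)
    · rintro (t | t) _ ⟨x, rfl⟩
      · refine Subgroup.mem_sup_left ?_
        show x ≫ g (.inl t) ∈ _
        rw [hga]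
        refine Subgroup.commutator_mem_commutator ⟨_, ?_, rfl⟩ ⟨_, rfl⟩
        show (x ≫ GrpSchLib.idIncl A).left base₀ ∈ GrpSchLib.idComp A
        rw [← GrpSchLib.range_idIncl]
        exact ⟨x.left base₀, rfl⟩
      · refine Subgroup.mem_sup_right ?_
        show x ≫ g (.inr t) ∈ _
        rw [hgb]
        refine Subgroup.commutator_mem_commutator ⟨_, rfl⟩ ⟨_, ?_, rfl⟩
        show (x ≫ GrpSchLib.idIncl B).left base₀ ∈ GrpSchLib.idComp B
        rw [← GrpSchLib.range_idIncl]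
        exact ⟨x.left base₀, rfl⟩
    · refine Subgroup.commutator_le.2 ?_
      rintro _ ⟨x, hx, rfl⟩ _ ⟨t, rfl⟩
      obtain ⟨x', rfl⟩ := exists_pt_lift (GrpSchLib.idIncl A) x (by rw [GrpSchLib.range_idIncl]; exact hx)
      exact Subgroup.subset_closure (Set.mem_iUnion.2 ⟨.inl t, x', hga t x'⟩)
    · refine Subgroup.commutator_le.2 ?_
      rintro _ ⟨t, rfl⟩ _ ⟨x, hx, rfl⟩
      obtain ⟨x', rfl⟩ := exists_pt_lift (GrpSchLib.idIncl B) x (by rw [GrpSchLib.range_idIncl]; exact hx)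
      exact Subgroup.subset_closure (Set.mem_iUnion.2 ⟨.inr t, x', hgb t x'⟩)
  -- finitely many cosets
  let π := QuotientGroup.mk' N
  haveI : (α.map π).Normal := Subgroup.Normal.map inferInstance π (QuotientGroup.mk'_surjective N)
  haveI : (β.map π).Normal := Subgroup.Normal.map inferInstance π (QuotientGroup.mk'_surjective N)
  obtain ⟨FA, hFA, hFA'⟩ := exists_reps (A := A)
  obtain ⟨FB, hFB, hFB'⟩ := exists_reps (A := B)
  have hS : {q | ∃ x ∈ α.map π, ∃ t ∈ β.map π, ⁅x, t⁆ = q}.Finite := by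
    refine (Set.Finite.image2 (fun r s => π ⁅r ≫ a, s ≫ b⁆) hFA hFB).subset ?_
    rintro _ ⟨_, ⟨_, ⟨x, rfl⟩, rfl⟩, _, ⟨_, ⟨t, rfl⟩, rfl⟩, rfl⟩
    obtain ⟨r, hr, hx⟩ := hFA' x
    obtain ⟨s, hs, ht⟩ := hFB' t
    refine ⟨r, hr, s, hs, ?_⟩
    show π ⁅ptsHom a r, ptsHom b s⁆ = ⁅π (ptsHom a x), π (ptsHom b t)⁆
    have h1 : π ⁅ptsHom a (r⁻¹ * x), ptsHom b t⁆ = 1 :=
      (QuotientGroup.eq_one_iff _).2 (Subgroup.mem_sup_left
        (Subgroup.commutator_mem_commutator ⟨_, hx, rfl⟩ ⟨_, rfl⟩))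
    have h2 : π ⁅ptsHom a r, ptsHom b (s⁻¹ * t)⁆ = 1 :=
      (QuotientGroup.eq_one_iff _).2 (Subgroup.mem_sup_right
        (Subgroup.commutator_mem_commutator ⟨_, rfl⟩ ⟨_, ht, rfl⟩))
    have ex : x = r * (r⁻¹ * x) := (mul_inv_cancel_left r x).symm
    have et : t = s * (s⁻¹ * t) := (mul_inv_cancel_left s t).symm
    have e1 : ⁅π (ptsHom a x), π (ptsHom b t)⁆ =
        π (ptsHom a r) * π ⁅ptsHom a (r⁻¹ * x), ptsHom b t⁆ * (π (ptsHom a r))⁻¹ * π ⁅ptsHom a r, ptsHom b t⁆ := by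
      conv_lhs => rw [ex]
      simp only [map_mul, map_inv, map_commutatorElement, commutatorElement_def]
      group
    have e2 : π ⁅ptsHom a r, ptsHom b t⁆ =
        π ⁅ptsHom a r, ptsHom b s⁆ * (π (ptsHom b s) * π ⁅ptsHom a r, ptsHom b (s⁻¹ * t)⁆ * (π (ptsHom b s))⁻¹) := by
      conv_lhs => rw [et]
      simp only [map_mul, map_inv, map_commutatorElement, commutatorElement_def]
      group
    rw [e1, h1, e2, h2]
    group
  have hfin := finite_commutator_of_finite (α.map π) (β.map π) hS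
  let out : _ ⧸ N → (𝟙_ (Over (Spec (CommRingCat.of k))) ⟶ G) := fun q => q.out
  let F := out '' ((⁅α.map π, β.map π⁆ : Subgroup _) : Set _)
  let U : Set G.left := ⋃ c ∈ F, (fun w => (leftT c).left w) '' closure (wordSet g)
  have hU : IsClosed U := (hfin.image out).isClosed_biUnion fun c _ => isClosedMap_leftT c _ isClosed_closure
  have hDU : ∀ d ∈ ⁅α, β⁆, d.left base₀ ∈ U := by
    intro d hd
    have hq : π d ∈ ⁅α.map π, β.map π⁆ := by
      rw [← Subgroup.map_commutator]; exact ⟨d, hd, rfl⟩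
    refine Set.mem_biUnion ⟨π d, hq, rfl⟩ ?_
    have hn : (out (π d))⁻¹ * d ∈ N := QuotientGroup.eq.1 (QuotientGroup.out_eq' (π d))
    refine ⟨((out (π d))⁻¹ * d).left base₀, subset_closure (mem_wordSet_of_mem_closure g (hgN.symm ▸ hn)), ?_⟩
    show (leftT (out (π d))).left _ = _
    rw [← Scheme.Hom.comp_apply, ← Over.comp_left, comp_leftT, toUnit_unit, Category.id_comp, mul_inv_cancel_left]
  have hzU := closure_minimal (wordSet_comm_subset a b hU hDU) hU hz
  simp only [U, Set.mem_iUnion] at hzU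
  obtain ⟨c, hc, w, hw, hwz⟩ := hzU
  obtain ⟨q, hq, rfl⟩ := hc
  have hcD : out q ∈ ⁅α, β⁆ := by
    rw [← Subgroup.map_commutator] at hq
    obtain ⟨d, hd, rfl⟩ := hq
    have hn : (out (π d))⁻¹ * d ∈ N := QuotientGroup.eq.1 (QuotientGroup.out_eq' (π d))
    have := mul_mem hd (inv_mem (hND hn))
    rwa [mul_inv_rev, inv_inv, mul_inv_cancel_left] at this
  have hzc : ((out q)⁻¹ * z).left base₀ = w := by
    have h1 : ∀ (c : 𝟙_ (Over (Spec (CommRingCat.of k))) ⟶ G) (v : G.left), (leftT c⁻¹).left ((leftT c).left v) = v := by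
      intro c v
      have h : leftT c ≫ leftT c⁻¹ = 𝟙 G := by
        rw [← Category.id_comp (leftT c), comp_leftT, comp_leftT, GrpObj.comp_inv, inv_mul_cancel_left]
      rw [← Scheme.Hom.comp_apply, ← Over.comp_left, h, Over.id_left]
      simp
    rw [← h1 (out q) w]
    dsimp only at hwz
    rw [hwz, ← Scheme.Hom.comp_apply, ← Over.comp_left, comp_leftT, toUnit_unit, Category.id_comp]
  have h := pts_closure_wordSet g y hy ((out q)⁻¹ * z) (hzc ▸ hw)
  rw [hgN] at h
  have := mul_mem hcD (hND h)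
  rwa [mul_inv_cancel_left] at this

theorem range_pts_of_min [QuasiCompact B.hom]
    (hcase : (AlgGrp.IsNormalHom a ∧ AlgGrp.IsNormalHom b ∧ QuasiCompact A.hom) ∨ ConnectedSpace A.left)
    (Γ : Over (Spec (CommRingCat.of k))) [GrpObj Γ] (i : Γ ⟶ G) [IsMonHom i] [IsClosedImmersion i.left]
    (hf : ∃ f' : A ⊗ B ⟶ Γ, f' ≫ i = commMap a b)
    (hmin : ∀ (Γ' : Over (Spec (CommRingCat.of k))) (_ : GrpObj Γ') (i' : Γ' ⟶ G), IsMonHom i' →
      IsClosedImmersion i'.left → (∃ f'' : A ⊗ B ⟶ Γ', f'' ≫ i' = commMap a b) → ∃ j : Γ ⟶ Γ', j ≫ i' = i) :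
    Set.range (fun z : 𝟙_ (Over (Spec (CommRingCat.of k))) ⟶ Γ => z ≫ i) =
      ((⁅Subgroup.closure (Set.range (fun x : 𝟙_ (Over (Spec (CommRingCat.of k))) ⟶ A => x ≫ a)),
         Subgroup.closure (Set.range (fun y : 𝟙_ (Over (Spec (CommRingCat.of k))) ⟶ B => y ≫ b))⁆ :
          Subgroup (𝟙_ (Over (Spec (CommRingCat.of k))) ⟶ G)) : Set (𝟙_ (Over (Spec (CommRingCat.of k))) ⟶ G)) := by
  have ea : Subgroup.closure (Set.range (fun x : 𝟙_ (Over (Spec (CommRingCat.of k))) ⟶ A => x ≫ a)) = (ptsHom a).range :=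
    (congrArg Subgroup.closure (MonoidHom.coe_range (ptsHom a)).symm).trans (Subgroup.closure_eq _)
  have eb : Subgroup.closure (Set.range (fun x : 𝟙_ (Over (Spec (CommRingCat.of k))) ⟶ B => x ≫ b)) = (ptsHom b).range :=
    (congrArg Subgroup.closure (MonoidHom.coe_range (ptsHom b)).symm).trans (Subgroup.closure_eq _)
  rw [ea, eb]
  haveI := geometricallyReduced_tensor A B
  obtain ⟨-, -, hr, -⟩ := props_of_min (X := fun _ : PUnit.{1} => A ⊗ B) (fun _ : PUnit.{1} => commMap a b) i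
    (fun _ => hf) fun Γ' h' i' h1 h2 h3 => hmin Γ' h' i' h1 h2 (h3 PUnit.unit)
  obtain ⟨f', hf'⟩ := hf
  refine Set.Subset.antisymm ?_ fun z hz => ?_
  · rintro _ ⟨z, rfl⟩
    have hz : (z ≫ i).left base₀ ∈ closure (wordSet (fun _ : PUnit.{1} => commMap a b)) := by
      rw [← hr]; exact ⟨z.left base₀, rfl⟩
    rcases hcase with ⟨hA, hB, hqc⟩ | hc
    · exact pts_normal a b hA hB hz
    · exact pts_connected a b hz
  · show z ∈ ((ptsHom i).range : Set _)
    refine SetLike.mem_coe.2 (Subgroup.commutator_le.2 ?_ hz)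
    rintro _ ⟨x, rfl⟩ _ ⟨t, rfl⟩
    refine ⟨lift x t ≫ f', ?_⟩
    show (lift x t ≫ f') ≫ i = _
    rw [Category.assoc, hf', comp_commMap, lift_fst, lift_snd]
    rfl

end Groth.Agent.GenSubLib
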