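import Groth.Agent.GenSubLib.Isogeny
import Groth.Agent.TorusField.Main
import Groth.Agent.SemiAbLib.Basic
import Groth.Agent.MonoFibre.HomFlat
import Groth.Agent.MonoFibre.MultType
import Groth.Agent.GrpSchLib.DeligneScheme
import Groth.Agent.QuotTorus.Prop
import Groth.Agent.S19147
import Groth.Agent.GrpPtsLib.Basic
import Groth.Agent.GrpQuotLib.CosetScheme
import Mathlib.AlgebraicGeometry.Sites.Fpqc

/-!
# Tori over algebraically closed fields and finite surjective homomorphisms
-/

set_option autoImplicit false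
set_option backward.isDefEq.respectTransparency false
set_option backward.isDefEq.respectTransparency.types false
set_option linter.style.haveILetI false
set_option linter.unusedSectionVars false

universe u

open CategoryTheory CategoryTheory.Limits MonoidalCategory CartesianMonoidalCategory MonObj AlgebraicGeometry
open scoped TensorProduct

noncomputable section

namespace Groth.Agent.GenSubLib

variable {k : Type u} [Field k] [IsAlgClosed k]

/-- Over an algebraically closed field tori are split. -/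
theorem exists_split_of_isTorus {T : Over (Spec (CommRingCat.of k))} [GrpObj T] (hT : Red.IsTorus T) :
    ∃ r : ℕ, Red.IsSplitTorusWith (Fin r → ℤ) T := by
  obtain ⟨K, _, g, r, he⟩ := SemiAbLib.exists_split hT
  obtain ⟨φ, rfl⟩ := Spec.map_surjective g
  letI : Algebra k K := φ.hom.toAlgebra
  obtain ⟨A, _, _, L, _, _, _, _, ⟨eA⟩, ⟨e⟩⟩ := TorusField.exists_torus_data r T ⟨K, inferInstance, inferInstance, he⟩
  let σ := Spec.map (CommRingCat.ofHom (algebraMap k L))
  haveI : IsIso (CommRingCat.ofHom (algebraMap k L)) :=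
    (ConcreteCategory.isIso_iff_bijective _).2 IsAlgClosed.algebraMap_bijective_of_isIntegral
  haveI : IsIso σ := inferInstanceAs (IsIso (Spec.map _))
  obtain ⟨eid⟩ := QuotTorus.nonempty_bcId_iso T
  refine ⟨r, ⟨eid.symm ≪≫ (HomDesc.bcGrpIso (inv σ) σ (IsIso.inv_hom_id σ) T).symm ≪≫
    TorusField.bcMapIso (inv σ) ((TorusField.bcMapIso σ eA).symm ≪≫ TorusField.bcSpecIso k L A ≪≫
      (TorusField.specIso e).symm ≪≫ (TorusField.dsIso L (Fin r → ℤ)).symm) ≪≫
    HomDesc.bcGrpIso (inv σ) _ (Limits.IsTerminal.hom_ext specULiftZIsTerminal _ _) (Red.diag (ULift.{u} ℤ) (Fin r → ℤ))⟩⟩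

theorem torus_props {T : Over (Spec (CommRingCat.of k))} [GrpObj T] (hT : Red.IsTorus T) :
    ∃ (_ : Smooth T.hom) (_ : QuasiCompact T.hom) (_ : IsAffine T.left), ConnectedSpace T.left := by
  obtain ⟨r, hr⟩ := exists_split_of_isTorus hT
  obtain ⟨e⟩ := hr
  haveI : LocallyOfFiniteType T.hom :=
    FixedSmooth.hom_of_grpIso e @LocallyOfFiniteType (MonoFibre.locallyOfFiniteType_DS _ _ inferInstance)
  haveI : IsAffineHom T.hom := FixedSmooth.hom_of_grpIso e @IsAffineHom (FixedSmooth.isAffineHom_DS _ _)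
  haveI : GeometricallyIntegral T.hom := SemiAbLib.geometricallyIntegral_torus hT
  haveI : IsAffine T.left := isAffine_of_isAffineHom T.hom
  haveI : ConnectedSpace T.left := by
    haveI := SemiAbLib.geometricallyConnected_of_integral T.hom
    exact GeometricallyConnected.connectedSpace T.hom fun _ _ => isOpen_discrete (α := PrimeSpectrum k) _
  exact ⟨@smooth_of_grpObj _ _ _ T.hom ‹LocallyOfFiniteType T.hom› ‹GrpObj T› inferInstance, inferInstance, ‹_›, ‹_›⟩

/-- The image of a torus. -/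
theorem exists_image_torus {T P : Over (Spec (CommRingCat.of k))} [GrpObj T] [GrpObj P] [LocallyOfFiniteType P.hom]
    [QuasiCompact P.hom] (hT : Red.IsTorus T) (h : T ⟶ P) [IsMonHom h] :
    ∃ (Q : Over (Spec (CommRingCat.of k))) (_ : GrpObj Q) (j : Q ⟶ P) (q : T ⟶ Q), IsMonHom j ∧
      IsClosedImmersion j.left ∧ IsMonHom q ∧ Surjective q.left ∧ q ≫ j = h ∧ Red.IsTorus Q := by
  obtain ⟨r, ⟨e⟩⟩ := exists_split_of_isTorus hT
  haveI : IsMonHom e.inv.hom.hom := e.inv.hom.isMonHom_hom
  haveI : IsMonHom e.hom.hom.hom := e.hom.hom.isMonHom_hom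
  haveI : IsSeparated P.hom := GrpSchLib.isSeparated_hom
  haveI : LocallyOfFinitePresentation P.hom := inferInstance
  obtain ⟨Q, hQ, j, hj, f', hf', hci, hfl, hfs, hfj, hloc⟩ :=
    S19147.result (Fin r → ℤ) P (e.inv.hom.hom ≫ h)
  let c : T ≅ Red.DS (Spec (CommRingCat.of k)) (Fin r → ℤ) := (Grp.forget _).mapIso e
  refine ⟨Q, hQ, j, e.hom.hom.hom ≫ f', hj, hci, inferInstance, ?_, ?_, ?_⟩
  · haveI := hfs
    haveI : IsIso c.hom.left := inferInstanceAs (IsIso ((Over.forget _).map c.hom))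
    show Surjective (c.hom.left ≫ f'.left)
    infer_instance
  · rw [Category.assoc, hfj]
    show c.hom ≫ c.inv ≫ h = h
    rw [Iso.hom_inv_id_assoc]
  · obtain ⟨U, hU, r', ⟨e'⟩⟩ := hloc (IsLocalRing.closedPoint k)
    let g := U.ι
    haveI : Surjective g := ⟨fun z => ⟨⟨z, by
      rw [Subsingleton.elim (α := PrimeSpectrum k) z (IsLocalRing.closedPoint k)]; exact hU⟩, rfl⟩⟩
    haveI : IsIso g := (isIso_iff_isOpenImmersion_and_surjective g).2 ⟨inferInstance, inferInstance⟩
    obtain ⟨eid⟩ := QuotTorus.nonempty_bcId_iso Q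
    exact MaxTorus.isTorus_of_split (r := r') ⟨eid.symm ≪≫
      (HomDesc.bcGrpIso (inv g) g (IsIso.inv_hom_id g) Q).symm ≪≫ TorusField.bcMapIso (inv g) e' ≪≫
      HomDesc.bcGrpIso (inv g) _ (Limits.IsTerminal.hom_ext specULiftZIsTerminal _ _) (Red.diag (ULift.{u} ℤ) (Fin r' → ℤ))⟩

/-- A smooth connected group which is a surjective image of a torus is a torus. -/
theorem isTorus_of_surjective {T P : Over (Spec (CommRingCat.of k))} [GrpObj T] [GrpObj P] [Smooth P.hom]
    [QuasiCompact P.hom] (hT : Red.IsTorus T) (h : T ⟶ P) [IsMonHom h] [Surjective h.left] : Red.IsTorus P := by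
  obtain ⟨Q, hQ, j, q, hj, hci, hq, -, hqj, hQt⟩ := exists_image_torus hT h
  haveI := hci
  haveI : Surjective (q.left ≫ j.left) := by rw [← Over.comp_left, hqj]; infer_instance
  haveI : Surjective j.left := Surjective.of_comp q.left j.left
  haveI : IsReduced P.left := ASp.isReduced_of_smooth P.hom
  haveI : IsIso j.left := isIso_of_isClosedImmersion_of_surjective _
  haveI : IsIso ((Over.forget _).map j) := ‹IsIso j.left›
  haveI : IsIso j := isIso_of_reflects_iso j (Over.forget _)
  haveI := hj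
  obtain ⟨r, ⟨e⟩⟩ := exists_split_of_isTorus hQt
  exact MaxTorus.isTorus_of_split (r := r) ⟨(Grp.mkIso' (asIso j)).symm ≪≫ e⟩

theorem exists_pow_eq_one_of_finite {K : Over (Spec (CommRingCat.of k))} [GrpObj K] [IsCommMonObj K] [IsFinite K.hom] :
    ∃ n : ℕ, 0 < n ∧ ∀ (T : Over (Spec (CommRingCat.of k))) (g : T ⟶ K), g ^ n = 1 := by
  haveI : Flat K.hom := inferInstance
  haveI : LocallyOfFinitePresentation K.hom := inferInstance
  refine ⟨Scheme.Hom.finrank K.hom (IsLocalRing.closedPoint k), ?_, fun T g => GrpSchLib.pow_eq_one_of_finrank K _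
    (fun s => congrArg (Scheme.Hom.finrank K.hom) (Subsingleton.elim (α := PrimeSpectrum k) s _)) T g⟩
  have h := Scheme.Hom.one_le_finrank_map K.hom (η[K].left (IsLocalRing.closedPoint k))
  exact (Nat.lt_of_lt_of_le Nat.one_pos h).trans_eq (congrArg (Scheme.Hom.finrank K.hom) (Subsingleton.elim (α := PrimeSpectrum k) _ _))

/-- Rational points of a torus over an algebraically closed field form a divisible group. -/
theorem exists_pow_eq {T : Over (Spec (CommRingCat.of k))} [GrpObj T] (hT : Red.IsTorus T) {n : ℕ} (hn : 0 < n)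
    (t : 𝟙_ (Over (Spec (CommRingCat.of k))) ⟶ T) : ∃ s : 𝟙_ (Over (Spec (CommRingCat.of k))) ⟶ T, s ^ n = t := by
  obtain ⟨r, ⟨e⟩⟩ := exists_split_of_isTorus hT
  haveI : IsMonHom e.inv.hom.hom := e.inv.hom.isMonHom_hom
  let d := DSMapLib.dsPt (S := Spec (CommRingCat.of k)) (Fin r → ℤ) (𝟙 (Spec (CommRingCat.of k)))
  obtain ⟨χ, hχ⟩ := d.surjective (t ≫ e.hom.hom.hom)
  let u : Fin r → kˣ := fun i => χ.toHomUnits (Multiplicative.ofAdd (Pi.single i 1))
  have hu : ∀ i, ∃ z : kˣ, z ^ n = u i := fun i => by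
    obtain ⟨z, hz⟩ := IsAlgClosed.exists_pow_nat_eq ((u i : kˣ) : k) hn
    exact ⟨Units.mk0 z (fun h0 => (u i).ne_zero (by rw [← hz, h0, zero_pow hn.ne'])),
      Units.ext (by rw [Units.val_pow_eq_pow_val, Units.val_mk0, hz])⟩
  choose z hz using hu
  let b := Pi.basisFun ℤ (Fin r)
  let g : Multiplicative (Fin r → ℤ) →* kˣ :=
    AddMonoidHom.toMultiplicativeLeft (b.constr ℤ (fun i => Additive.ofMul (z i))).toAddMonoidHom
  have hg : ∀ x, g x ^ n = χ.toHomUnits x := by
    have : ((n : ℤ) • (b.constr ℤ (fun i => Additive.ofMul (z i)))) =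
        (AddMonoidHom.toIntLinearMap (MonoidHom.toAdditiveRight χ.toHomUnits)) := b.ext fun i => by
      show (n : ℤ) • (b.constr ℤ (fun i => Additive.ofMul (z i))) (b i) = _
      rw [b.constr_basis, natCast_zsmul, ← ofMul_pow, hz]
      simp [u, b, Pi.basisFun_apply]
    intro x
    have h := LinearMap.congr_fun this (Multiplicative.toAdd x)
    simp only [LinearMap.smul_apply, natCast_zsmul] at h
    exact Additive.ofMul.injective ((ofMul_pow n (g x)).trans h)
  refine ⟨d ((Units.coeHom k).comp g) ≫ e.inv.hom.hom, ?_⟩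
  let c : T ≅ Red.DS (Spec (CommRingCat.of k)) (Fin r → ℤ) := (Grp.forget _).mapIso e
  have h2 : d ((Units.coeHom k).comp g) ^ n = t ≫ e.hom.hom.hom := by
    rw [← map_pow, ← hχ]
    congr 1
    refine MonoidHom.ext fun x => ?_
    show ((g x : kˣ) : k) ^ n = χ x
    rw [← Units.val_pow_eq_pow_val, hg, MonoidHom.coe_toHomUnits]
  rw [← MonObj.pow_comp, h2]
  show (t ≫ c.hom) ≫ c.inv = t
  rw [Category.assoc, Iso.hom_inv_id, Category.comp_id]

/-- A smooth connected commutative group finite over a torus is a torus. -/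
theorem isTorus_of_finite {P T : Over (Spec (CommRingCat.of k))} [GrpObj P] [GrpObj T] [IsCommMonObj P] [Smooth P.hom]
    [ConnectedSpace P.left] (hT : Red.IsTorus T) (f : P ⟶ T) [IsMonHom f] [IsFinite f.left] [Surjective f.left] :
    Red.IsTorus P := by
  haveI := GrpSchLib.irreducibleSpace_of_connectedSpace (G := P)
  haveI := GrpSchLib.compactSpace_of_irreducibleSpace (G := P)
  haveI : QuasiCompact P.hom := (quasiCompact_iff_compactSpace P.hom).2 inferInstance
  obtain ⟨hTs, hTq, hTa, hTc⟩ := torus_props hT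
  haveI := hTs
  haveI := hTq
  haveI : LocallyOfFiniteType P.hom := inferInstance
  haveI : LocallyOfFiniteType T.hom := inferInstance
  haveI : IsReduced T.left := ASp.isReduced_of_smooth T.hom
  haveI : IsLocallyNoetherian T.left := LocallyOfFiniteType.isLocallyNoetherian T.hom
  haveI : Flat f.left := MonoFibre.flat_of_surjective f
  haveI : LocallyOfFinitePresentation f.left := inferInstance
  -- the kernel
  haveI : Mono (η[T]) := SplitMono.mono ⟨toUnit T, toUnit_unique _ _⟩
  let K := pullback f η[T]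
  let ιK : K ⟶ P := pullback.fst f η[T]
  haveI : Mono ιK := inferInstance
  have hK : ∀ {Y : Over (Spec (CommRingCat.of k))} (g : Y ⟶ P), (∃ m : Y ⟶ K, m ≫ ιK = g) ↔ g ≫ f = 1 := fun {Y} g => by
    constructor
    · rintro ⟨m, rfl⟩
      rw [Category.assoc, pullback.condition, ← Category.assoc, Hom.one_def]
      exact congrArg (· ≫ η[T]) (toUnit_unique _ _)
    · intro h
      exact ⟨pullback.lift g (toUnit Y) (by rw [h, Hom.one_def]), pullback.lift_fst _ _ _⟩
  obtain ⟨hKg, hιK⟩ := exists_grpObj_of_closed ιK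
    (fun {Y} x y => (hK _).2 (by rw [MonObj.mul_comp, (hK _).1 ⟨x, rfl⟩, (hK _).1 ⟨y, rfl⟩, _root_.one_mul]))
    (fun {Y} x => (hK _).2 (by rw [GrpObj.inv_comp, (hK _).1 ⟨x, rfl⟩, inv_one]))
    ((hK 1).2 (MonObj.one_comp f))
  letI := hKg
  haveI := hιK
  haveI : IsCommMonObj K := ⟨by
    rw [← cancel_mono ιK, Category.assoc, IsMonHom.mul_hom ιK, ← Category.assoc, ← BraidedCategory.braiding_naturality,
      Category.assoc, IsCommMonObj.mul_comm]⟩
  haveI : IsFinite K.hom := by
    have sq := GrpQuotLib.isPullback_left (IsPullback.of_hasPullback f η[T])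
    haveI : IsFinite (pullback.snd f η[T]).left := MorphismProperty.of_isPullback sq ‹IsFinite f.left›
    rw [← Over.w (pullback.snd f η[T])]
    show IsFinite ((pullback.snd f η[T]).left ≫ 𝟙 (Spec (CommRingCat.of k)))
    erw [Category.comp_id]; infer_instance
  obtain ⟨n, hn, hnK⟩ := exists_pow_eq_one_of_finite (K := K)
  -- descend the power map
  have hco : ∀ {Y : Over (Spec (CommRingCat.of k))} (g₁ g₂ : Y ⟶ P), g₁ ≫ f = g₂ ≫ f → g₁ ^ n = g₂ ^ n := by
    intro Y g₁ g₂ e
    obtain ⟨m, hm⟩ := (hK (g₁⁻¹ * g₂)).2 (by rw [MonObj.mul_comp, GrpObj.inv_comp, e, inv_mul_cancel])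
    have e2 : (g₁⁻¹ * g₂) ^ n = 1 := by rw [← hm, ← MonObj.pow_comp, hnK, MonObj.one_comp]
    rwa [mul_pow, inv_pow, inv_mul_eq_one] at e2
  obtain ⟨h, hh⟩ : ∃ h : T ⟶ P, f ≫ h = (𝟙 P) ^ n := by
    have hd : ∀ {Z : Scheme.{u}} (g₁ g₂ : Z ⟶ P.left), g₁ ≫ f.left = g₂ ≫ f.left →
        g₁ ≫ ((𝟙 P) ^ n).left = g₂ ≫ ((𝟙 P) ^ n).left := by
      intro Z g₁ g₂ e
      have e' : g₁ ≫ P.hom = g₂ ≫ P.hom := by rw [← Over.w f, reassoc_of% e]
      have := hco (Y := Over.mk (g₁ ≫ P.hom)) (Over.homMk g₁ rfl) (Over.homMk g₂ e'.symm) (by ext; exact e)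
      rw [← Category.comp_id (Over.homMk g₁ rfl : Over.mk (g₁ ≫ P.hom) ⟶ P),
        ← Category.comp_id (Over.homMk g₂ e'.symm : Over.mk (g₁ ≫ P.hom) ⟶ P), ← MonObj.comp_pow, ← MonObj.comp_pow] at this
      exact congrArg CommaMorphism.left this
    have hfac := EffectiveEpi.fac f.left ((𝟙 P) ^ n).left hd
    refine ⟨Over.homMk (EffectiveEpi.desc f.left ((𝟙 P) ^ n).left hd) ?_, ?_⟩
    · rw [← cancel_epi f.left, reassoc_of% hfac, Over.w, Over.w f]
    · ext; exact hfac
  haveI : Epi f := by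
    haveI : Epi f.left := Flat.epi_of_flat_of_surjective _
    exact Over.epi_of_epi_left f
  haveI : Epi (f ⊗ₘ f) := by
    have key : ∀ (A : Over (Spec (CommRingCat.of k))), Epi (A ◁ f) := fun A => by
      have sq := (GrpPtsLib.isPullback_whiskerLeft A f).flip
      haveI : Flat (A ◁ f).left := MorphismProperty.of_isPullback (P := @Flat) sq ‹Flat f.left›
      haveI : Surjective (A ◁ f).left := MorphismProperty.of_isPullback (P := @Surjective) sq ‹Surjective f.left›
      haveI : QuasiCompact (A ◁ f).left := MorphismProperty.of_isPullback (P := @QuasiCompact) sq inferInstance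
      haveI : Epi (A ◁ f).left := Flat.epi_of_flat_of_surjective _
      exact Over.epi_of_epi_left _
    haveI := key T
    haveI : Epi (f ▷ P) := by
      haveI := key P
      rw [show f ▷ P = (β_ P P).hom ≫ (P ◁ f) ≫ (β_ P T).hom by
        rw [← Category.assoc, ← BraidedCategory.braiding_naturality_left, Category.assoc, SymmetricCategory.symmetry,
          Category.comp_id]]
      infer_instance
    rw [MonoidalCategory.tensorHom_def]
    infer_instance
  haveI : IsMonHom h := by
    refine ⟨?_, ?_⟩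
    · rw [← IsMonHom.one_hom f, Category.assoc, hh, MonObj.comp_pow, Category.comp_id,
        show η[P] = (1 : 𝟙_ _ ⟶ P) by rw [Hom.one_def, toUnit_unit, Category.id_comp], one_pow]
    · rw [← cancel_epi (f ⊗ₘ f), ← Category.assoc, ← IsMonHom.mul_hom f, Category.assoc, hh,
        MonoidalCategory.tensorHom_comp_tensorHom_assoc, hh, MonObj.comp_pow, Category.comp_id, ← lift_fst_comp_snd_comp,
        ← Hom.mul_def, MonObj.comp_pow, MonObj.comp_pow, Category.comp_id, Category.comp_id, ← mul_pow,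
        Hom.mul_def, lift_fst_snd, Category.id_comp]
  obtain ⟨Q, hQ, j, q, hj, hci, hq, hqs, hqj, hQt⟩ := exists_image_torus hT h
  haveI := hj
  haveI := hci
  haveI := hq
  -- the points of the image
  have hpts : ∀ x : 𝟙_ (Over (Spec (CommRingCat.of k))) ⟶ P, ∃ (y : 𝟙_ (Over (Spec (CommRingCat.of k))) ⟶ Q)
      (m : 𝟙_ (Over (Spec (CommRingCat.of k))) ⟶ K), x = (y ≫ j) * (m ≫ ιK) := by
    intro x
    obtain ⟨s, hs⟩ := exists_pow_eq hT hn (x ≫ f)
    obtain ⟨a, ha⟩ := exists_pt_lift f s (f.left.surjective _)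
    have ey : ((s ≫ q) ≫ j) = a ^ n := by
      rw [Category.assoc, hqj, ← ha, Category.assoc, hh, MonObj.comp_pow, Category.comp_id]
    obtain ⟨m, hm⟩ := (hK (((s ≫ q) ≫ j)⁻¹ * x)).2 (by
      rw [MonObj.mul_comp, GrpObj.inv_comp, ey, MonObj.pow_comp, ha, hs, inv_mul_cancel])
    exact ⟨s ≫ q, m, by rw [hm, mul_inv_cancel_left]⟩
  -- translates of the image cover
  haveI : LocallyOfFiniteType K.hom := inferInstance
  haveI : Finite (𝟙_ (Over (Spec (CommRingCat.of k))) ⟶ K) := by
    haveI : Finite K.left := Set.finite_univ_iff.1 ((IsFinite.finite_preimage_singleton K.hom (IsLocalRing.closedPoint k)).subset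
      fun z _ => Subsingleton.elim (α := PrimeSpectrum k) _ _)
    exact Finite.of_injective (fun m => m.left base₀) fun a b e => pt_ext e
  haveI : Surjective j.left := by
    haveI : JacobsonSpace P.left := LocallyOfFiniteType.jacobsonSpace P.hom
    let θ := fun m : 𝟙_ (Over (Spec (CommRingCat.of k))) ⟶ K => leftT (m ≫ ιK)⁻¹
    have hR : ∀ m, IsClosed ((θ m).left ⁻¹' Set.range j.left) := fun m =>
      j.left.isClosedEmbedding.isClosed_range.preimage (θ m).left.continuous
    have hθ : ∀ (y x : 𝟙_ (Over (Spec (CommRingCat.of k))) ⟶ P),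
        (leftT y).left (x.left base₀) = (y * x).left base₀ := fun y x => by
      rw [← Scheme.Hom.comp_apply, ← Over.comp_left, comp_leftT, toUnit_unit, Category.id_comp]
    have hcov : Set.univ ⊆ ⋃ m, (θ m).left ⁻¹' Set.range j.left := by
      rw [← closure_closedPoints (X := P.left)]
      refine closure_minimal ?_ (isClosed_iUnion_of_finite hR)
      intro w hw
      obtain ⟨x, rfl⟩ := exists_pt (P := P) hw
      obtain ⟨y, m, e⟩ := hpts x
      refine Set.mem_iUnion.2 ⟨m, y.left base₀, ?_⟩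
      rw [hθ, e, mul_comm (y ≫ j), inv_mul_cancel_left, Over.comp_left, Scheme.Hom.comp_apply]
    obtain ⟨m, hm⟩ := Set.mem_iUnion.1 (hcov (Set.mem_univ (genericPoint P.left)))
    refine ⟨fun z => ?_⟩
    obtain ⟨z', hz'⟩ : ∃ z', (θ m).left z' = z := by
      refine ⟨(leftT (m ≫ ιK)).left z, ?_⟩
      have e : leftT (m ≫ ιK) ≫ θ m = 𝟙 P := by
        rw [← Category.id_comp (leftT (m ≫ ιK)), comp_leftT, comp_leftT, GrpObj.comp_inv, inv_mul_cancel_left]
      rw [← Scheme.Hom.comp_apply, ← Over.comp_left, e, Over.id_left]; rfl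
    exact hz' ▸ (((genericPoint_spec P.left).specializes (Set.mem_univ z')).mem_closed (hR m) hm)
  exact isTorus_of_surjective hQt j

theorem isTrivialGrp_of_id_eq_one {T : Over (Spec (CommRingCat.of k))} [GrpObj T] (h : 𝟙 T = (1 : T ⟶ T)) :
    Red.IsTrivialGrp T := by
  refine ⟨η[T].left, ?_, Over.w η[T]⟩
  have h' : toUnit T ≫ η[T] = 𝟙 T := by rw [← Hom.one_def]; exact h.symm
  exact congrArg CommaMorphism.left h' 

theorem eq_one_of_isTrivialGrp {T P : Over (Spec (CommRingCat.of k))} [GrpObj T] [GrpObj P] (h : Red.IsTrivialGrp T)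
    (j : T ⟶ P) [IsMonHom j] : j = 1 := by
  haveI : IsIso (toUnit T) := by
    haveI : IsIso ((Over.forget _).map (toUnit T)) := h
    exact isIso_of_reflects_iso (toUnit T) (Over.forget _)
  rw [Hom.one_def, ← IsMonHom.one_hom j, ← Category.assoc, show toUnit T ≫ η[T] = 𝟙 T by
    rw [← cancel_mono (toUnit T)]; exact toUnit_unique _ _, Category.id_comp]

theorem isTrivialGrp_of_mono_eq_one {T P : Over (Spec (CommRingCat.of k))} [GrpObj T] [GrpObj P] (j : T ⟶ P)
    [IsMonHom j] [Mono j] (h : j = 1) : Red.IsTrivialGrp T := by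
  refine isTrivialGrp_of_id_eq_one ?_
  rw [← cancel_mono j, Category.id_comp, MonObj.one_comp]
  exact h

/-- Commutative up to a finite kernel means commutative, for smooth connected groups. -/
theorem isCommMonObj_of_derivedSeries {U : Over (Spec (CommRingCat.of k))} [GrpObj U]
    (h : ∀ T : Over (Spec (CommRingCat.of k)), derivedSeries (T ⟶ U) 1 = ⊥) : IsCommMonObj U := by
  have hc := h (U ⊗ U)
  rw [derivedSeries_one, commutator_def, Subgroup.commutator_eq_bot_iff_le_centralizer] at hc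
  have e : fst U U * snd U U = snd U U * fst U U :=
    ((Subgroup.mem_centralizer_iff.1 (hc (Subgroup.mem_top (fst U U)))) (snd U U) (Subgroup.mem_top _)).symm
  refine ⟨?_⟩
  have hμ : μ[U] = fst U U * snd U U := by rw [Hom.mul_def, lift_fst_snd, Category.id_comp]
  rw [hμ, MonObj.comp_mul, braiding_hom_fst, braiding_hom_snd]
  exact e.symm

theorem pts_comm_DS (M : Type) [AddCommGroup M]
    (a b : 𝟙_ (Over (Spec (CommRingCat.of k))) ⟶ Red.DS (Spec (CommRingCat.of k)) M) : a * b = b * a := by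
  obtain ⟨χ, rfl⟩ := (DSMapLib.dsPt (S := Spec (CommRingCat.of k)) M (𝟙 (Spec (CommRingCat.of k)))).surjective a
  obtain ⟨χ', rfl⟩ := (DSMapLib.dsPt (S := Spec (CommRingCat.of k)) M (𝟙 (Spec (CommRingCat.of k)))).surjective b
  exact ((DSMapLib.dsPt (S := Spec (CommRingCat.of k)) M (𝟙 (Spec (CommRingCat.of k)))).map_mul χ χ').symm.trans
    ((congrArg _ (mul_comm χ χ')).trans
      ((DSMapLib.dsPt (S := Spec (CommRingCat.of k)) M (𝟙 (Spec (CommRingCat.of k)))).map_mul χ' χ))

theorem pts_comm {Q : Over (Spec (CommRingCat.of k))} [GrpObj Q] (hQ : Red.IsTorus Q)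
    (a b : 𝟙_ (Over (Spec (CommRingCat.of k))) ⟶ Q) : a * b = b * a := by
  obtain ⟨r, ⟨e⟩⟩ := exists_split_of_isTorus hQ
  haveI : IsMonHom e.hom.hom.hom := e.hom.hom.isMonHom_hom
  haveI : IsIso e.hom.hom.hom := ((Grp.forget _).mapIso e).isIso_hom
  rw [← cancel_mono e.hom.hom.hom, MonObj.mul_comp, MonObj.mul_comp]
  exact pts_comm_DS _ _ _

/-- Absence of subtori passes to images under finite surjective homomorphisms. -/
theorem hasNoSubtorus_of_surjective {A B : Over (Spec (CommRingCat.of k))} [GrpObj A] [GrpObj B]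
    [LocallyOfFiniteType A.hom] [QuasiCompact A.hom] [LocallyOfFiniteType B.hom] [QuasiCompact B.hom]
    (f : A ⟶ B) [IsMonHom f] [IsFinite f.left] [Surjective f.left] (h : Red.HasNoSubtorus k A) :
    Red.HasNoSubtorus k B := by
  intro T _ j _ _ hT
  obtain ⟨Q, hQ, jQ, q, hjQ, hci, hq, -, hqj, hQt⟩ := exists_image_torus hT j
  haveI := hjQ
  haveI := hci
  haveI := hq
  obtain ⟨hQs, hQq, hQa, hQc⟩ := torus_props hQt
  haveI := hQc
  haveI := hQs
  haveI : LocallyOfFiniteType Q.hom := inferInstance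
  obtain ⟨U, hU, i, p, hi, hci', hUs, hUc, hp, hpj, hpf, hps⟩ := exists_preimage f jQ
  haveI := hi
  haveI := hci'
  haveI := hUs
  haveI := hUc
  haveI := hp
  haveI := hpf
  haveI := hps
  haveI : IsCommMonObj U := by
    refine isCommMonObj_of_derivedSeries (derivedSeries_pts_eq_bot 1 U (derivedSeries_eq_bot_of_finite 1 U ?_))
    refine Set.Finite.of_finite_image (f := fun x : 𝟙_ (Over (Spec (CommRingCat.of k))) ⟶ U => x.left base₀)
      ((IsFinite.finite_preimage_singleton p.left (GrpSchLib.unitPt Q)).subset ?_) (fun x _ y _ e => pt_ext e)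
    rintro _ ⟨x, hx, rfl⟩
    have hQ1 : derivedSeries (𝟙_ (Over (Spec (CommRingCat.of k))) ⟶ Q) 1 = ⊥ := by
      rw [derivedSeries_one, commutator_def, Subgroup.commutator_eq_bot_iff_le_centralizer]
      intro a _
      rw [Subgroup.mem_centralizer_iff]
      intro b _
      exact pts_comm hQt b a
    have : ptsHom p x ∈ derivedSeries (𝟙_ (Over (Spec (CommRingCat.of k))) ⟶ Q) 1 :=
      map_derivedSeries_le_derivedSeries (ptsHom p) 1 ⟨x, hx, rfl⟩
    rw [hQ1, Subgroup.mem_bot] at this
    show p.left (x.left base₀) = _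
    rw [← Scheme.Hom.comp_apply, ← Over.comp_left, show x ≫ p = 1 from this, GrpSchLib.one_apply]
  haveI : Mono i := Over.mono_of_mono_left i
  have hU1 := h U i (isTorus_of_finite hQt p)
  have hQ2 : Red.IsTrivialGrp Q := by
    haveI : IsReduced Q.left := ASp.isReduced_of_smooth Q.hom
    haveI : IsClosedImmersion η[Q].left := GrpSchLib.isClosedImmersion_unit
    haveI : Surjective η[Q].left := ⟨fun z => by
      obtain ⟨u, rfl⟩ := p.left.surjective z
      refine ⟨base₀, ?_⟩
      rw [eq_one_of_isTrivialGrp hU1 p, GrpSchLib.one_apply]⟩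
    haveI : IsIso η[Q].left := isIso_of_isClosedImmersion_of_surjective _
    haveI : IsIso ((Over.forget _).map η[Q]) := ‹IsIso η[Q].left›
    haveI : IsIso η[Q] := isIso_of_reflects_iso η[Q] (Over.forget _)
    exact isTrivialGrp_of_id_eq_one (eq_one_of_isIso_unit _)
  exact isTrivialGrp_of_mono_eq_one j (by rw [← hqj, eq_one_of_isTrivialGrp hQ2 jQ, MonObj.comp_one])

/-- A group finite over a group without subtori has none. -/
theorem hasNoSubtorus_of_finite {A B : Over (Spec (CommRingCat.of k))} [GrpObj A] [GrpObj B]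
    [LocallyOfFiniteType A.hom] [LocallyOfFiniteType B.hom] [QuasiCompact B.hom]
    (f : A ⟶ B) [IsMonHom f] [IsFinite f.left] (h : Red.HasNoSubtorus k B) : Red.HasNoSubtorus k A := by
  intro T _ j _ _ hT
  obtain ⟨Q, hQ, jQ, q, hjQ, hci, hq, -, hqj, hQt⟩ := exists_image_torus hT (j ≫ f)
  haveI := hjQ
  haveI := hci
  haveI := hq
  haveI : Mono jQ := Over.mono_of_mono_left jQ
  have hjf : j ≫ f = 1 := by rw [← hqj, eq_one_of_isTrivialGrp (h Q jQ hQt) jQ, MonObj.comp_one]
  obtain ⟨hTs, hTq, hTa, hTc⟩ := torus_props hT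
  haveI := hTc
  haveI := hTs
  haveI : IsReduced T.left := ASp.isReduced_of_smooth T.hom
  have hsub : Set.range j.left ⊆ f.left ⁻¹' {GrpSchLib.unitPt B} := by
    rintro _ ⟨t, rfl⟩
    show f.left (j.left t) = _
    rw [← Scheme.Hom.comp_apply, ← Over.comp_left, hjf, GrpSchLib.one_apply]
  have hfin : (f.left ⁻¹' {GrpSchLib.unitPt B}).Finite := IsFinite.finite_preimage_singleton f.left _
  haveI : JacobsonSpace A.left := LocallyOfFiniteType.jacobsonSpace A.hom
  have hunit : f.left ⁻¹' {GrpSchLib.unitPt B} ⊆ closedPoints A.left := by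
    intro z hz
    haveI : Finite ↥(f.left ⁻¹' {GrpSchLib.unitPt B}) := hfin.to_subtype
    have hcl : IsClosed (f.left ⁻¹' {GrpSchLib.unitPt B}) := GrpSchLib.isClosed_unitPt.preimage f.left.continuous
    haveI : JacobsonSpace ↥(f.left ⁻¹' {GrpSchLib.unitPt B}) := JacobsonSpace.of_isClosedEmbedding hcl.isClosedEmbedding_subtypeVal
    have h1 : IsClosed ({⟨z, hz⟩} : Set ↥(f.left ⁻¹' {GrpSchLib.unitPt B})) := isClosed_discrete _
    have h2 := hcl.isClosedEmbedding_subtypeVal.isClosedMap _ h1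
    rw [Set.image_singleton] at h2
    exact h2
  have hpre : _root_.IsPreconnected (Set.range j.left) := isPreconnected_range j.left.continuous
  have hss : (Set.range j.left).Subsingleton := by
    by_contra hns
    have hfinr := hfin.subset hsub
    obtain ⟨a, ha, b, hb, hab⟩ : ∃ a ∈ Set.range j.left, ∃ b ∈ Set.range j.left, a ≠ b := by
      simpa [Set.Subsingleton] using hns
    have hb' : IsClosed (Set.range j.left \ {a}) := by
      rw [← Set.biUnion_of_singleton (Set.range j.left \ {a})]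
      exact (hfinr.subset Set.diff_subset).isClosed_biUnion fun z hz => hunit (hsub hz.1)
    obtain ⟨z, -, hz, hz'⟩ := isPreconnected_closed_iff.1 hpre {a} _ (hunit (hsub ha)) hb'
      (fun z hz => by by_cases hza : z = a <;> simp [hz, hza]) ⟨a, ha, rfl⟩ ⟨b, hb, hb, fun e => hab e.symm⟩
    exact hz'.2 hz
  haveI : IsClosedImmersion η[A].left := GrpSchLib.isClosedImmersion_unit
  obtain ⟨l, hl⟩ := exists_lift_of_range η[A] j (by
    intro w hw
    obtain rfl := hss hw ⟨η[T].left base₀, rfl⟩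
    exact ⟨base₀, by rw [← IsMonHom.one_hom j, Over.comp_left, Scheme.Hom.comp_apply]⟩)
  exact isTrivialGrp_of_mono_eq_one j (by rw [← hl, Hom.one_def, toUnit_unique l (toUnit T)])

end Groth.Agent.GenSubLib
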