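import Groth.Agent.GenSubLib.Main
import Groth.Agent.GeomIrred.Connected
import Groth.Agent.GrpSchLib.Basic
import Groth.Agent.MonoFibre.SchemeImage

/-!
# First properties of generated subgroups
-/

set_option autoImplicit false
set_option backward.isDefEq.respectTransparency false
set_option backward.isDefEq.respectTransparency.types false
set_option linter.style.haveILetI false
set_option linter.unusedSectionVars false

universe u v

open CategoryTheory CategoryTheory.Limits MonoidalCategory CartesianMonoidalCategory MonObj AlgebraicGeometry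

noncomputable section

namespace Groth.Agent.GenSubLib

variable {k : Type u} [Field k] {G : Over (Spec (CommRingCat.of k))} [GrpObj G] {J : Type v}
  {X : J → Over (Spec (CommRingCat.of k))} (f : ∀ j, X j ⟶ G)

/-- A minimal closed subgroup containing the family is the generated one. -/
theorem props_of_min [∀ j, GeometricallyReduced (X j).hom] {Γ : Over (Spec (CommRingCat.of k))} [GrpObj Γ]
    (i : Γ ⟶ G) [IsMonHom i] [IsClosedImmersion i.left] (hf : ∀ j, ∃ q : X j ⟶ Γ, q ≫ i = f j)
    (hmin : ∀ (Γ' : Over (Spec (CommRingCat.of k))) (_ : GrpObj Γ') (i' : Γ' ⟶ G), IsMonHom i' →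
      IsClosedImmersion i'.left → (∀ j, ∃ q : X j ⟶ Γ', q ≫ i' = f j) → ∃ r : Γ ⟶ Γ', r ≫ i' = i) :
    IsReduced Γ.left ∧ GeometricallyReduced Γ.hom ∧ Set.range i.left = closure (wordSet f) ∧
      ∃ q : ∀ l, src X l ⟶ Γ, (∀ l, q l ≫ i = word f l) ∧ Dense (⋃ l, Set.range (q l).left) := by
  obtain ⟨Γ₀, hΓ₀, i₀, hi₀, hc₀, hr₀, hg₀, hrange, hf₀, ⟨q, hq, hd⟩, hmin₀⟩ := exists_generated f
  obtain ⟨a, ha⟩ := hmin Γ₀ hΓ₀ i₀ hi₀ hc₀ hf₀
  obtain ⟨b, hb⟩ := hmin₀ Γ ‹_› i inferInstance inferInstance hf
  haveI : Mono i := Over.mono_of_mono_left i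
  haveI : Mono i₀ := Over.mono_of_mono_left i₀
  have hba : b ≫ a = 𝟙 _ := by rw [← cancel_mono i₀, Category.assoc, ha, hb, Category.id_comp]
  have hab : a ≫ b = 𝟙 _ := by rw [← cancel_mono i, Category.assoc, hb, ha, Category.id_comp]
  haveI : IsIso b := ⟨a, hba, hab⟩
  haveI : IsIso b.left := inferInstanceAs (IsIso ((Over.forget _).map b))
  haveI : IsIso a := ⟨b, hab, hba⟩
  haveI : IsIso a.left := inferInstanceAs (IsIso ((Over.forget _).map a))
  refine ⟨isReduced_of_isOpenImmersion a.left, ?_, ?_, fun l => q l ≫ b, fun l => ?_, ?_⟩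
  · refine geometricallyReduced_of_forall _ fun K _ y => ?_
    haveI : IsReduced (pullback Γ₀.hom y) :=
      GeometricallyReduced.geometrically_isReduced _ _ _ (.of_hasPullback _ _)
    let m := pullback.map Γ.hom y Γ₀.hom y a.left (𝟙 _) (𝟙 _) (by rw [Category.comp_id, Over.w])
      (by rw [Category.comp_id, Category.id_comp])
    haveI : IsIso m := pullback.map_isIso _ _ _ _ _ _ _ _ _
    exact isReduced_of_isOpenImmersion m
  · rw [← hrange, ← hb, Over.comp_left]
    ext z
    constructor
    · rintro ⟨w, rfl⟩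
      obtain ⟨w', rfl⟩ := b.left.surjective w
      exact ⟨w', rfl⟩
    · rintro ⟨w', rfl⟩
      exact ⟨b.left w', rfl⟩
  · rw [Category.assoc, hb, hq]
  · have h : (⋃ l, Set.range (q l ≫ b).left) = b.left '' ⋃ l, Set.range (q l).left := by
      rw [Set.image_iUnion]
      refine Set.iUnion_congr fun l => ?_
      rw [← Set.range_comp, Over.comp_left]
      rfl
    rw [h]
    exact b.left.surjective.denseRange.dense_image b.left.continuous hd

section Connected

variable {X₀ : Over (Spec (CommRingCat.of k))}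

theorem geometricallyConnected_of_rational [ConnectedSpace X₀.left] (x : 𝟙_ (Over (Spec (CommRingCat.of k))) ⟶ X₀) :
    GeometricallyConnected X₀.hom := by
  refine GeomIrred.geometricallyConnected_of_connected_subset X₀.hom
    (x.left (IsLocalRing.closedPoint k)) fun L _ _ _ _ => ?_
  let g := Spec.map (CommRingCat.ofHom (algebraMap k L))
  let x' : Spec (CommRingCat.of k) ⟶ X₀.left := x.left
  have hx : x' ≫ X₀.hom = 𝟙 _ := Over.w x
  let s : Spec (CommRingCat.of L) ⟶ pullback X₀.hom g :=
    pullback.lift (g ≫ x') (𝟙 _) (by rw [Category.assoc, hx, Category.comp_id, Category.id_comp])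
  refine ⟨Set.range s, Set.Subsingleton.isPreconnected ?_, fun z hz => ?_⟩
  · rintro _ ⟨a, rfl⟩ _ ⟨b, rfl⟩
    rw [Subsingleton.elim (α := PrimeSpectrum L) a b]
  · have hpb : IsPullback g s x' (pullback.fst X₀.hom g) := by
      refine IsPullback.of_bot ?_ (pullback.lift_fst _ _ _).symm (IsPullback.of_hasPullback X₀.hom g).flip.flip
      rw [hx, pullback.lift_snd]
      exact IsPullback.of_vert_isIso ⟨by rw [Category.id_comp, Category.comp_id]⟩
    obtain ⟨w, -, hw⟩ := Scheme.exists_preimage_of_isPullback hpb (IsLocalRing.closedPoint k) z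
      (show x' _ = _ from (Set.mem_singleton_iff.1 hz).symm)
    exact ⟨w, hw⟩

theorem geometricallyConnected_unit : GeometricallyConnected (𝟙_ (Over (Spec (CommRingCat.of k)))).hom := by
  refine ⟨geometrically_iff_of_isClosedUnderIsomorphisms.mpr fun K _ y => ?_⟩
  haveI : IsIso (pullback.snd (𝟙_ (Over (Spec (CommRingCat.of k)))).hom y) := by
    show IsIso (pullback.snd (𝟙 _) y)
    infer_instance
  exact (pullback.snd (𝟙_ (Over (Spec (CommRingCat.of k)))).hom y).homeomorph.connectedSpace_iff.2 inferInstance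

theorem geometricallyConnected_tensor (P Q : Over (Spec (CommRingCat.of k))) [GeometricallyConnected P.hom]
    [GeometricallyConnected Q.hom] : GeometricallyConnected (P ⊗ Q).hom := by
  have e : (P ⊗ Q).hom = pullback.snd P.hom Q.hom ≫ Q.hom := (Over.w (snd P Q)).symm
  rw [e]
  exact GeometricallyConnected.comp _ _

theorem connectedSpace_src [∀ j, GeometricallyConnected (X j).hom] (l : List (J × Bool)) :
    ConnectedSpace (src X l).left := by
  have : GeometricallyConnected (src X l).hom := by
    induction l with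
    | nil => exact geometricallyConnected_unit (k := k)
    | cons a l ih =>
      show GeometricallyConnected (X a.1 ⊗ src X l).hom
      exact @geometricallyConnected_tensor k _ (X a.1) (src X l) inferInstance ih
  haveI : Nonempty ↥(Spec (CommRingCat.of k)) := ⟨IsLocalRing.closedPoint k⟩
  exact GeometricallyConnected.connectedSpace_of_subsingleton (f := (src X l).hom)

/-- With connected sources through the unit, the generated set is connected. -/
theorem isConnected_wordSet [∀ j, GeometricallyConnected (X j).hom]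
    (x : ∀ j, 𝟙_ (Over (Spec (CommRingCat.of k))) ⟶ X j) (hx : ∀ j, x j ≫ f j = η[G]) :
    _root_.IsConnected (wordSet f) := by
  let p : (𝟙_ (Over (Spec (CommRingCat.of k)))).left := IsLocalRing.closedPoint k
  have key : ∀ l, ∃ t : 𝟙_ (Over (Spec (CommRingCat.of k))) ⟶ src X l, t ≫ word f l = η[G] := by
    intro l
    induction l with
    | nil => exact ⟨toUnit _, by rw [word_nil, toUnit_unit, Category.id_comp]⟩
    | cons a l ih =>
      obtain ⟨t, ht⟩ := ih
      refine ⟨lift (x a.1) t, (comp_word_cons f a l (x a.1) t).trans ?_⟩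
      have e1 : η[G] = (1 : 𝟙_ (Over (Spec (CommRingCat.of k))) ⟶ G) := by
        rw [Hom.one_def, toUnit_unit, Category.id_comp]
      rw [ht]
      unfold letter
      split <;> simp [GrpObj.comp_inv, hx, e1]
  have hmem : ∀ l, η[G].left p ∈ Set.range (word f l).left := fun l => by
    obtain ⟨t, ht⟩ := key l
    exact ⟨t.left p, by rw [← Scheme.Hom.comp_apply, ← Over.comp_left, ht]⟩
  refine ⟨⟨_, one_mem_wordSet f p⟩, isPreconnected_iUnion ⟨_, Set.mem_iInter.2 hmem⟩ fun l => ?_⟩
  haveI := connectedSpace_src (X := X) l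
  exact isPreconnected_range (word f l).left.continuous

end Connected

/-- A dense open inside a family of images generates every point by quotients. -/
theorem exists_quotient_pts {I : Type*} {Y : I → Over (Spec (CommRingCat.of k))} (q : ∀ a, Y a ⟶ G)
    {O : Set G.left} (hO : IsOpen O) (hd : Dense O) (hsub : O ⊆ ⋃ a, Set.range (q a).left) (z : G.left) :
    ∃ (T : Over (Spec (CommRingCat.of k))) (p : T.left) (a b : I) (s : T ⟶ Y a) (t : T ⟶ Y b),
      ((s ≫ q a)⁻¹ * (t ≫ q b)).left p = z := by
  obtain ⟨T, p, x, y, hx, hy, e⟩ := exists_pts_of_dense_open O hO hd z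
  obtain ⟨a, ha⟩ := Set.mem_iUnion.1 (hsub hx)
  obtain ⟨b, hb⟩ := Set.mem_iUnion.1 (hsub hy)
  obtain ⟨T₁, a₁, s₁, p₁, hp₁, h₁⟩ := GrpSchLib.exists_lift x (q a) p ha
  obtain ⟨T₂, a₂, t, p₂, hp₂, h₂⟩ := GrpSchLib.exists_lift (a₁ ≫ y) (q b) p₁ (by
    rw [Over.comp_left, Scheme.Hom.comp_apply, hp₁]; exact hb)
  refine ⟨T₂, p₂, a, b, a₂ ≫ s₁, t, ?_⟩
  rw [Category.assoc, ← h₁, ← h₂, ← GrpObj.comp_inv, ← GrpObj.comp_inv, ← MonObj.comp_mul,
    ← MonObj.comp_mul, Over.comp_left, Over.comp_left, Scheme.Hom.comp_apply, Scheme.Hom.comp_apply, hp₂, hp₁, e]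

end Groth.Agent.GenSubLib
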