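import Groth.Agent.GenSubLib.AlgClosed

/-!
# The subgroup generated by one morphism
-/

set_option autoImplicit false
set_option backward.isDefEq.respectTransparency false
set_option backward.isDefEq.respectTransparency.types false
set_option linter.style.haveILetI false
set_option linter.unusedSectionVars false

universe u

open CategoryTheory CategoryTheory.Limits MonoidalCategory CartesianMonoidalCategory MonObj AlgebraicGeometry

noncomputable section

namespace Groth.Agent.GenSubLib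

variable {k : Type u} [Field k] {G X : Over (Spec (CommRingCat.of k))} [GrpObj G] (f : X ⟶ G)

/-- The family of one morphism. -/
abbrev one₁ : ∀ _ : PUnit.{1}, X ⟶ G := fun _ => f

theorem mem_wordSet_iff_prod (z : G.left) :
    z ∈ wordSet (one₁ f) ↔ ∃ (n : ℕ) (T : Over (Spec (CommRingCat.of k))) (p : T.left) (x : Fin n → (T ⟶ X))
      (ε : Fin n → Bool),
      ((List.ofFn fun j : Fin n => if ε j then x j ≫ f else (x j ≫ f)⁻¹).prod : T ⟶ G).left.base p = z := by
  constructor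
  · intro hz
    obtain ⟨l, hl⟩ := Set.mem_iUnion.1 hz
    have h : z ∈ ⋃ l' : {l' : List (PUnit.{1} × Bool) // l'.length = l.length},
        Set.range (word (fun _ => f) l'.1).left := Set.mem_iUnion.2 ⟨⟨l, rfl⟩, hl⟩
    rw [← wordSet_eq_prod f l.length] at h
    exact ⟨_, h⟩
  · rintro ⟨n, h⟩
    have h' : z ∈ {g : G.left | ∃ (T : Over (Spec (CommRingCat.of k))) (p : T.left) (x : Fin n → (T ⟶ X))
      (ε : Fin n → Bool),
      ((List.ofFn fun j : Fin n => if ε j then x j ≫ f else (x j ≫ f)⁻¹).prod : T ⟶ G).left.base p = g} := h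
    rw [wordSet_eq_prod f n] at h'
    obtain ⟨l, hl⟩ := Set.mem_iUnion.1 h'
    exact Set.mem_iUnion.2 ⟨l.1, hl⟩

theorem props_of_min₁ [GeometricallyReduced X.hom] {Γ : Over (Spec (CommRingCat.of k))} [GrpObj Γ]
    (i : Γ ⟶ G) [IsMonHom i] [IsClosedImmersion i.left] (hf : ∃ f' : X ⟶ Γ, f' ≫ i = f)
    (hmin : ∀ (Γ' : Over (Spec (CommRingCat.of k))) (_ : GrpObj Γ') (i' : Γ' ⟶ G), IsMonHom i' →
      IsClosedImmersion i'.left → (∃ f'' : X ⟶ Γ', f'' ≫ i' = f) → ∃ j : Γ ⟶ Γ', j ≫ i' = i) :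
    IsReduced Γ.left ∧ GeometricallyReduced Γ.hom ∧ Set.range i.left = closure (wordSet (one₁ f)) ∧
      ∃ q : ∀ l, src (fun _ : PUnit.{1} => X) l ⟶ Γ, (∀ l, q l ≫ i = word (one₁ f) l) ∧
        Dense (⋃ l, Set.range (q l).left) :=
  props_of_min (one₁ f) i (fun _ => hf) fun Γ' h' i' h1 h2 h3 => hmin Γ' h' i' h1 h2 (h3 PUnit.unit)

theorem connectedSpace_of_min [GeometricallyReduced X.hom] [ConnectedSpace X.left]
    (x : 𝟙_ (Over (Spec (CommRingCat.of k))) ⟶ X) (hx : x ≫ f = η[G])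
    {Γ : Over (Spec (CommRingCat.of k))} [GrpObj Γ] (i : Γ ⟶ G) [IsMonHom i] [IsClosedImmersion i.left]
    (hf : ∃ f' : X ⟶ Γ, f' ≫ i = f)
    (hmin : ∀ (Γ' : Over (Spec (CommRingCat.of k))) (_ : GrpObj Γ') (i' : Γ' ⟶ G), IsMonHom i' →
      IsClosedImmersion i'.left → (∃ f'' : X ⟶ Γ', f'' ≫ i' = f) → ∃ j : Γ ⟶ Γ', j ≫ i' = i) :
    ConnectedSpace Γ.left := by
  obtain ⟨-, -, hr, -⟩ := props_of_min₁ f i hf hmin
  haveI := geometricallyConnected_of_rational x
  haveI : ∀ _ : PUnit.{1}, GeometricallyConnected X.hom := fun _ => inferInstance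
  have h := (isConnected_wordSet (one₁ f) (fun _ => x) (fun _ => hx)).closure
  rw [← hr, ← Set.image_univ] at h
  rw [connectedSpace_iff_univ]
  exact ⟨⟨η[Γ].left base₀, trivial⟩,
    i.left.isClosedEmbedding.isInducing.isPreconnected_image.1 h.isPreconnected⟩

variable [IsAlgClosed k] [LocallyOfFiniteType G.hom] [LocallyOfFiniteType X.hom]

theorem pts_wordSet_eq :
    {g : 𝟙_ (Over (Spec (CommRingCat.of k))) ⟶ G | ∃ (n : ℕ) (T : Over (Spec (CommRingCat.of k))) (p : T.left)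
        (p₀ : (𝟙_ (Over (Spec (CommRingCat.of k)))).left) (x : Fin n → (T ⟶ X)) (ε : Fin n → Bool),
        ((List.ofFn fun j : Fin n => if ε j then x j ≫ f else (x j ≫ f)⁻¹).prod : T ⟶ G).left.base p = g.left.base p₀} =
      ((Subgroup.closure {g : 𝟙_ (Over (Spec (CommRingCat.of k))) ⟶ G |
          ∃ p₀ : (𝟙_ (Over (Spec (CommRingCat.of k)))).left, g.left.base p₀ ∈ Set.range f.left.base} :
        Subgroup (𝟙_ (Over (Spec (CommRingCat.of k))) ⟶ G)) : Set (𝟙_ (Over (Spec (CommRingCat.of k))) ⟶ G)) := by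
  haveI : ∀ _ : PUnit.{1}, LocallyOfFiniteType X.hom := fun _ => inferInstance
  have hgen : {g : 𝟙_ (Over (Spec (CommRingCat.of k))) ⟶ G |
      ∃ p₀ : (𝟙_ (Over (Spec (CommRingCat.of k)))).left, g.left.base p₀ ∈ Set.range f.left.base} =
      ⋃ _ : PUnit.{1}, Set.range (fun x : 𝟙_ (Over (Spec (CommRingCat.of k))) ⟶ X => x ≫ f) := by
    ext g
    constructor
    · rintro ⟨p₀, hp⟩
      rw [Subsingleton.elim p₀ base₀] at hp
      obtain ⟨t, ht⟩ := exists_pt_lift f g hp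
      exact Set.mem_iUnion.2 ⟨PUnit.unit, t, ht⟩
    · intro hg
      obtain ⟨_, t, rfl⟩ := Set.mem_iUnion.1 hg
      exact ⟨base₀, t.left base₀, by rw [Over.comp_left, Scheme.Hom.comp_apply]⟩
  rw [hgen]
  ext g
  constructor
  · rintro ⟨n, T, p, p₀, x, ε, h⟩
    rw [Subsingleton.elim p₀ base₀] at h
    exact mem_closure_of_mem_wordSet (one₁ f) ((mem_wordSet_iff_prod f _).2 ⟨n, T, p, x, ε, h⟩)
  · intro hg
    obtain ⟨n, T, p, x, ε, h⟩ := (mem_wordSet_iff_prod f _).1 (mem_wordSet_of_mem_closure (one₁ f) hg)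
    exact ⟨n, T, p, base₀, x, ε, h⟩

end Groth.Agent.GenSubLib
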