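import Groth.Agent.GenSubLib.Stabilise
import Groth.Agent.GenSubLib.Single

/-!
# One morphism from a connected scheme through the unit generates in boundedly many steps
-/

set_option autoImplicit false
set_option backward.isDefEq.respectTransparency false
set_option backward.isDefEq.respectTransparency.types false
set_option linter.style.haveILetI false
set_option linter.unusedSectionVars false

universe u

open CategoryTheory CategoryTheory.Limits MonoidalCategory CartesianMonoidalCategory MonObj AlgebraicGeometry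

noncomputable section

namespace Groth.Agent.GenSubLib

variable {k : Type u} [Field k]

/-- The reduced closed subscheme on a closed set, over the base. -/
abbrev redSub (X : Over (Spec (CommRingCat.of k))) (Z : TopologicalSpace.Closeds X.left) :
    Over (Spec (CommRingCat.of k)) :=
  Over.mk ((Scheme.IdealSheafData.vanishingIdeal Z).subschemeι ≫ X.hom)

/-- Its inclusion. -/
abbrev redIncl (X : Over (Spec (CommRingCat.of k))) (Z : TopologicalSpace.Closeds X.left) : redSub X Z ⟶ X :=
  Over.homMk (Scheme.IdealSheafData.vanishingIdeal Z).subschemeι rfl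

theorem range_redIncl (X : Over (Spec (CommRingCat.of k))) (Z : TopologicalSpace.Closeds X.left) :
    Set.range (redIncl X Z).left = Z := by
  show Set.range (Scheme.IdealSheafData.vanishingIdeal Z).subschemeι = _
  rw [Scheme.IdealSheafData.range_subschemeι, Scheme.IdealSheafData.coe_support_vanishingIdeal]

instance (X : Over (Spec (CommRingCat.of k))) (Z : TopologicalSpace.Closeds X.left) :
    IsClosedImmersion (redIncl X Z).left :=
  inferInstanceAs (IsClosedImmersion (Scheme.IdealSheafData.vanishingIdeal Z).subschemeι)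

theorem irreducibleSpace_redSub (X : Over (Spec (CommRingCat.of k))) (Z : TopologicalSpace.Closeds X.left)
    (h : IsIrreducible (Z : Set X.left)) : IrreducibleSpace ↥(redSub X Z).left := by
  refine (redIncl X Z).left.isEmbedding.toHomeomorph.irreducibleSpace_iff.mpr
    (isIrreducible_iff_irreducibleSpace.mp ?_)
  rw [range_redIncl]
  exact h

variable [IsAlgClosed k] {G X : Over (Spec (CommRingCat.of k))} [GrpObj G] [LocallyOfFiniteType G.hom]
  [LocallyOfFiniteType X.hom]

theorem exists_surjective_word₁ [IrreducibleSpace G.left] [QuasiCompact X.hom] [ConnectedSpace X.left]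
    (f : X ⟶ G) (x₀ : 𝟙_ (Over (Spec (CommRingCat.of k))) ⟶ X) (hx₀ : x₀ ≫ f = 1)
    (hd : Dense (wordSet (one₁ f))) :
    ∃ L, ∀ z : G.left, z ∈ Set.range (word (one₁ f) L).left := by
  classical
  haveI : CompactSpace X.left := (quasiCompact_iff_compactSpace X.hom).1 ‹_›
  haveI : IsLocallyNoetherian X.left := LocallyOfFiniteType.isLocallyNoetherian X.hom
  haveI : IsNoetherian X.left := { }
  haveI : JacobsonSpace X.left := LocallyOfFiniteType.jacobsonSpace X.hom
  have hfin : (irreducibleComponents (X.left : Type u)).Finite :=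
    TopologicalSpace.NoetherianSpace.finite_irreducibleComponents
  let C := {Z : Set X.left // Z ∈ irreducibleComponents (X.left : Type u)}
  let cl : C → TopologicalSpace.Closeds X.left := fun c => ⟨c.1, isClosed_of_mem_irreducibleComponents c.1 c.2⟩
  let Y : C → Over (Spec (CommRingCat.of k)) := fun c => redSub X (cl c) ⊗ redSub X (cl c)
  let g : ∀ c, Y c ⟶ G := fun c =>
    (fst _ _ ≫ redIncl X (cl c) ≫ f)⁻¹ * (snd _ _ ≫ redIncl X (cl c) ≫ f)
  haveI : ∀ c, IrreducibleSpace ↥(redSub X (cl c)).left := fun c => irreducibleSpace_redSub X (cl c) c.2.1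
  haveI : ∀ c, LocallyOfFiniteType (redSub X (cl c)).hom := fun c => by
    rw [← Over.w (redIncl X (cl c))]; infer_instance
  haveI : ∀ c, QuasiCompact (redSub X (cl c)).hom := fun c => by
    rw [← Over.w (redIncl X (cl c))]; infer_instance
  haveI : ∀ c, IrreducibleSpace ↥(Y c).left := fun c => by
    haveI := GeomIrred.geometricallyIrreducible_of_irreducibleSpace (redSub X (cl c)).hom
    exact inferInstanceAs (IrreducibleSpace ↥(pullback (redSub X (cl c)).hom (redSub X (cl c)).hom))
  haveI : ∀ c, LocallyOfFiniteType (Y c).hom := fun c => by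
    rw [← Over.w (snd (redSub X (cl c)) (redSub X (cl c)))]
    haveI : LocallyOfFiniteType (snd (redSub X (cl c)) (redSub X (cl c))).left :=
      MorphismProperty.pullback_snd _ _ (inferInstance : LocallyOfFiniteType (redSub X (cl c)).hom)
    infer_instance
  haveI : ∀ c, QuasiCompact (Y c).hom := fun c => by
    rw [← Over.w (snd (redSub X (cl c)) (redSub X (cl c)))]
    haveI : QuasiCompact (snd (redSub X (cl c)) (redSub X (cl c))).left :=
      MorphismProperty.pullback_snd _ _ (inferInstance : QuasiCompact (redSub X (cl c)).hom)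
    infer_instance
  haveI : ∀ c, JacobsonSpace ↥(redSub X (cl c)).left := fun c =>
    LocallyOfFiniteType.jacobsonSpace (redSub X (cl c)).hom
  have hbase : ∀ c, ∃ t : 𝟙_ (Over (Spec (CommRingCat.of k))) ⟶ redSub X (cl c), True := fun c => by
    haveI : Nonempty ↥(redSub X (cl c)).left := inferInstance
    obtain ⟨z, -, hz⟩ := nonempty_inter_closedPoints (Z := (Set.univ : Set (redSub X (cl c)).left))
      Set.univ_nonempty isClosed_univ.isLocallyClosed
    obtain ⟨t, -⟩ := exists_pt (P := redSub X (cl c)) hz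
    exact ⟨t, trivial⟩
  choose t _ using hbase
  let y : ∀ c, 𝟙_ (Over (Spec (CommRingCat.of k))) ⟶ Y c := fun c => lift (t c) (t c)
  have hy : ∀ c, y c ≫ g c = 1 := fun c => by
    show lift (t c) (t c) ≫ g c = 1
    simp only [g, MonObj.comp_mul, GrpObj.comp_inv, lift_fst_assoc, lift_snd_assoc, inv_mul_cancel]
  haveI : ∀ _ : PUnit.{1}, LocallyOfFiniteType X.hom := fun _ => inferInstance
  let H := Subgroup.closure (⋃ c, Set.range (fun w : 𝟙_ (Over (Spec (CommRingCat.of k))) ⟶ Y c => w ≫ g c))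
  -- the rational points of one component differ by elements of `H`
  have hcomp : ∀ (c : C) (x x' : 𝟙_ (Over (Spec (CommRingCat.of k))) ⟶ X), x.left base₀ ∈ c.1 →
      x'.left base₀ ∈ c.1 → x ≫ f ∈ H → x' ≫ f ∈ H := by
    intro c x x' hx hx' hH
    obtain ⟨u, rfl⟩ := exists_pt_lift (redIncl X (cl c)) x (by rw [range_redIncl]; exact hx)
    obtain ⟨u', rfl⟩ := exists_pt_lift (redIncl X (cl c)) x' (by rw [range_redIncl]; exact hx')
    have h : lift u u' ≫ g c ∈ H := Subgroup.subset_closure (Set.mem_iUnion.2 ⟨c, _, rfl⟩)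
    simp only [g, MonObj.comp_mul, GrpObj.comp_inv, lift_fst_assoc, lift_snd_assoc] at h
    have h2 := mul_mem hH h
    rwa [← Category.assoc u, mul_inv_cancel_left, ← Category.assoc] at h2
  let P : C → Prop := fun c => ∃ x : 𝟙_ (Over (Spec (CommRingCat.of k))) ⟶ X, x.left base₀ ∈ c.1 ∧ x ≫ f ∈ H
  haveI : Finite C := hfin.to_subtype
  have hU : IsClosed (⋃ c : {c : C // P c}, c.1.1) :=
    isClosed_iUnion_of_finite fun c => isClosed_of_mem_irreducibleComponents c.1.1 c.1.2
  have hV : IsClosed (⋃ c : {c : C // ¬P c}, c.1.1) :=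
    isClosed_iUnion_of_finite fun c => isClosed_of_mem_irreducibleComponents c.1.1 c.1.2
  have hall : ∀ c, P c := by
    by_contra hne
    obtain ⟨c, hc⟩ := not_forall.1 hne
    have hcov : (Set.univ : Set X.left) ⊆ (⋃ c : {c : C // P c}, c.1.1) ∪ ⋃ c : {c : C // ¬P c}, c.1.1 := by
      intro z _
      let cz : C := ⟨irreducibleComponent z, irreducibleComponent_mem_irreducibleComponents z⟩
      by_cases h : P cz
      · exact Or.inl (Set.mem_iUnion.2 ⟨⟨cz, h⟩, mem_irreducibleComponent⟩)
      · exact Or.inr (Set.mem_iUnion.2 ⟨⟨cz, h⟩, mem_irreducibleComponent⟩)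
    have h1 : (Set.univ ∩ ⋃ c : {c : C // P c}, c.1.1).Nonempty := by
      let c₀ : C := ⟨irreducibleComponent (x₀.left base₀), irreducibleComponent_mem_irreducibleComponents _⟩
      exact ⟨x₀.left base₀, trivial, Set.mem_iUnion.2 ⟨⟨c₀, x₀, mem_irreducibleComponent, by
        rw [hx₀]; exact one_mem _⟩, mem_irreducibleComponent⟩⟩
    have h2 : (Set.univ ∩ ⋃ c : {c : C // ¬P c}, c.1.1).Nonempty := by
      obtain ⟨z, hz⟩ := c.2.1.nonempty
      exact ⟨z, trivial, Set.mem_iUnion.2 ⟨⟨c, hc⟩, hz⟩⟩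
    obtain ⟨z, -, hz⟩ := isPreconnected_closed_iff.1 isPreconnected_univ _ _ hU hV hcov h1 h2
    obtain ⟨z', ⟨hz1, hz2⟩, hzc⟩ := nonempty_inter_closedPoints ⟨z, hz⟩ (hU.inter hV).isLocallyClosed
    obtain ⟨⟨c₁, x, hx, hxH⟩, hzc₁⟩ := Set.mem_iUnion.1 hz1
    obtain ⟨⟨c₂, hc₂⟩, hzc₂⟩ := Set.mem_iUnion.1 hz2
    obtain ⟨x', rfl⟩ := exists_pt hzc
    exact hc₂ ⟨x', hzc₂, hcomp c₁ x x' hx hzc₁ hxH⟩
  have hgen : ∀ x : 𝟙_ (Over (Spec (CommRingCat.of k))) ⟶ X, x ≫ f ∈ H := fun x => by
    obtain ⟨x', hx', hH⟩ := hall ⟨irreducibleComponent (x.left base₀), irreducibleComponent_mem_irreducibleComponents _⟩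
    exact hcomp _ x' x hx' mem_irreducibleComponent hH
  have hdg : Dense (wordSet g) := fun z => closure_minimal (wordSet_subset_of_pts (one₁ f) isClosed_closure
    fun w hw => subset_closure (mem_wordSet_of_mem_closure g
      ((Subgroup.closure_le H).2 (Set.iUnion_subset fun _ => by rintro _ ⟨x, rfl⟩; exact hgen x)
        (mem_closure_of_mem_wordSet (one₁ f) hw)))) isClosed_closure (hd z)
  obtain ⟨L, hL⟩ := exists_surjective_word g y hy hdg
  have key : ∀ (l : List (C × Bool)) {T : Over (Spec (CommRingCat.of k))} (s : T ⟶ src Y l),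
      ∃ (m : List (PUnit.{1} × Bool)) (r : T ⟶ src (fun _ => X) m), r ≫ word (one₁ f) m = s ≫ word g l := by
    intro l
    induction l with
    | nil => exact fun s => ⟨[], toUnit _, by rw [comp_word_nil, comp_word_nil]⟩
    | cons a l ih =>
      intro T s
      obtain ⟨m, r, hr⟩ := ih (s ≫ snd _ _)
      obtain ⟨r₁, h₁⟩ := exists_single (one₁ f) (PUnit.unit, true) ((s ≫ fst (Y a.1) (src Y l)) ≫ fst _ _ ≫ redIncl X (cl a.1))
      obtain ⟨r₂, h₂⟩ := exists_single (one₁ f) (PUnit.unit, true) ((s ≫ fst (Y a.1) (src Y l)) ≫ snd _ _ ≫ redIncl X (cl a.1))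
      obtain ⟨r₁', h₁'⟩ := exists_inv (one₁ f) _ r₁
      obtain ⟨r₂', h₂'⟩ := exists_inv (one₁ f) _ r₂
      rw [word_cons, MonObj.comp_mul, ← Category.assoc, ← Category.assoc, ← hr]
      unfold letter
      split
      · obtain ⟨r₃, h₃⟩ := exists_append (one₁ f) _ _ r₁' r₂
        obtain ⟨r₄, h₄⟩ := exists_append (one₁ f) _ _ r₃ r
        refine ⟨_, r₄, ?_⟩
        rw [h₄, h₃, h₁', h₁, h₂]
        congr 1
        simp [g, letter, one₁, MonObj.comp_mul, GrpObj.comp_inv]
      · obtain ⟨r₃, h₃⟩ := exists_append (one₁ f) _ _ r₂' r₁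
        obtain ⟨r₄, h₄⟩ := exists_append (one₁ f) _ _ r₃ r
        refine ⟨_, r₄, ?_⟩
        rw [h₄, h₃, h₂', h₁, h₂]
        congr 1
        simp [g, letter, one₁, MonObj.comp_mul, GrpObj.comp_inv]
  obtain ⟨m, r, hr⟩ := key L (𝟙 (src Y L))
  refine ⟨m, fun z => ?_⟩
  obtain ⟨p, rfl⟩ := hL z
  refine ⟨r.left p, ?_⟩
  rw [← Scheme.Hom.comp_apply, ← Over.comp_left, hr, Category.id_comp]

end Groth.Agent.GenSubLib
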