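import Groth.Agent.GenSubLib.Bounded
import Groth.Agent.GenSubLib.Universal

/-!
# Bounded generation over an arbitrary field
-/

set_option autoImplicit false
set_option backward.isDefEq.respectTransparency false
set_option backward.isDefEq.respectTransparency.types false
set_option linter.style.haveILetI false
set_option linter.unusedSectionVars false

universe u v

open CategoryTheory CategoryTheory.Limits MonoidalCategory CartesianMonoidalCategory MonObj AlgebraicGeometry

noncomputable section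

namespace Groth.Agent.GenSubLib

theorem word_comp {k : Type u} [Field k] {G Γ : Over (Spec (CommRingCat.of k))} [GrpObj G] [GrpObj Γ] {J : Type v}
    {X : J → Over (Spec (CommRingCat.of k))} (i : Γ ⟶ G) [IsMonHom i] (f' : ∀ j, X j ⟶ Γ) (f : ∀ j, X j ⟶ G)
    (h : ∀ j, f' j ≫ i = f j) : ∀ l : List (J × Bool), word f' l ≫ i = word f l
  | [] => IsMonHom.one_hom i
  | a :: l => by
    rw [word_cons, word_cons, MonObj.mul_comp, Category.assoc, Category.assoc, word_comp i f' f h l]
    congr 2
    unfold letter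
    split
    · exact h _
    · rw [GrpObj.inv_comp, h]

theorem isPullback_map {S S' : Scheme.{u}} (σ : S' ⟶ S) {A B : Over S} (φ : A ⟶ B) :
    IsPullback ((Over.pullback σ).map φ).left (pullback.fst A.hom σ) (pullback.fst B.hom σ) φ.left := by
  have e1 : ((Over.pullback σ).map φ).left ≫ pullback.snd B.hom σ = pullback.snd A.hom σ := pullback.lift_snd _ _ _
  have e2 : ((Over.pullback σ).map φ).left ≫ pullback.fst B.hom σ = pullback.fst A.hom σ ≫ φ.left :=
    pullback.lift_fst _ _ _
  refine IsPullback.of_right (h₁₂ := pullback.snd B.hom σ) (h₂₂ := B.hom) (v₁₃ := σ) ?_ e2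
    (IsPullback.of_hasPullback B.hom σ).flip
  rw [e1, Over.w φ]
  exact (IsPullback.of_hasPullback A.hom σ).flip

variable {k : Type u} [Field k] {G X : Over (Spec (CommRingCat.of k))} [GrpObj G]

theorem surjective_map_word {K : Type u} [Field K] (σ : Spec (CommRingCat.of K) ⟶ Spec (CommRingCat.of k)) (f : X ⟶ G) :
    ∀ (l : List (PUnit.{1} × Bool)),
      ∃ m : src (fun _ : PUnit.{1} => Red.bc σ X) l ⟶ Red.bc σ (src (fun _ : PUnit.{1} => X) l),
      m ≫ (Over.pullback σ).map (word (one₁ f) l) = word (one₁ ((Over.pullback σ).map f)) l := by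
  intro l
  induction l with
  | nil =>
    refine ⟨Functor.LaxMonoidal.ε (Over.pullback σ), ?_⟩
    rfl
  | cons a l ih =>
    obtain ⟨m, hm⟩ := ih
    refine ⟨lift (fst _ _) (snd _ _ ≫ m) ≫ Functor.LaxMonoidal.μ (Over.pullback σ) X (src (fun _ : PUnit.{1} => X) l), ?_⟩
    rw [word_cons, word_cons, Functor.map_mul, MonObj.comp_mul, Functor.map_comp, Functor.map_comp]
    simp only [Category.assoc, Functor.Monoidal.μ_fst_assoc, Functor.Monoidal.μ_snd_assoc, lift_fst_assoc,
      lift_snd_assoc, hm]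
    congr 2
    unfold letter
    split
    · rfl
    · rw [Functor.map_inv']

variable [LocallyOfFiniteType G.hom] [LocallyOfFiniteType X.hom] [QuasiCompact X.hom]
  [GeometricallyReduced X.hom] [GeometricallyConnected X.hom]

set_option synthInstance.maxHeartbeats 200000 in
set_option maxHeartbeats 1000000 in
theorem bounded_of_min (f : X ⟶ G)
    (he : ∃ x : X.left, f.left x ∈ Set.range (η[G] : 𝟙_ (Over (Spec (CommRingCat.of k))) ⟶ G).left)
    (Γ : Over (Spec (CommRingCat.of k))) [GrpObj Γ] (i : Γ ⟶ G) [IsMonHom i] [IsClosedImmersion i.left]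
    (hf : ∃ f' : X ⟶ Γ, f' ≫ i = f)
    (hmin : ∀ (Γ' : Over (Spec (CommRingCat.of k))) (_ : GrpObj Γ') (i' : Γ' ⟶ G), IsMonHom i' →
      IsClosedImmersion i'.left → (∃ f'' : X ⟶ Γ', f'' ≫ i' = f) → ∃ j : Γ ⟶ Γ', j ≫ i' = i) :
    ∃ N : ℕ, Set.range i.left.base =
      {g : G.left | ∃ (T : Over (Spec (CommRingCat.of k))) (p : T.left) (x : Fin N → (T ⟶ X)) (ε : Fin N → Bool),
        ((List.ofFn fun j : Fin N => if ε j then x j ≫ f else (x j ≫ f)⁻¹).prod : T ⟶ G).left.base p = g} := by
  let K := AlgebraicClosure k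
  let σ : Spec (CommRingCat.of K) ⟶ Spec (CommRingCat.of k) := Spec.map (CommRingCat.ofHom (algebraMap k K))
  obtain ⟨f', hf'⟩ := hf
  let fK := (Over.pullback σ).map f
  let iK := (Over.pullback σ).map i
  haveI : IsClosedImmersion iK.left :=
    MorphismProperty.of_isPullback (isPullback_map σ i).flip ‹IsClosedImmersion i.left›
  haveI : LocallyOfFiniteType (Red.bc σ G).hom := MorphismProperty.pullback_snd _ _ (inferInstance : LocallyOfFiniteType G.hom)
  haveI : LocallyOfFiniteType (Red.bc σ X).hom := MorphismProperty.pullback_snd _ _ (inferInstance : LocallyOfFiniteType X.hom)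
  haveI : QuasiCompact (Red.bc σ X).hom := MorphismProperty.pullback_snd _ _ (inferInstance : QuasiCompact X.hom)
  haveI : GeometricallyReduced (Red.bc σ X).hom := MorphismProperty.pullback_snd _ _ (inferInstance : GeometricallyReduced X.hom)
  haveI : GeometricallyConnected (Red.bc σ X).hom :=
    MorphismProperty.pullback_snd _ _ (inferInstance : GeometricallyConnected X.hom)
  haveI : ConnectedSpace (Red.bc σ X).left := by
    haveI : Subsingleton ↥(Spec (CommRingCat.of K)) := inferInstanceAs (Subsingleton (PrimeSpectrum K))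
    haveI : Nonempty ↥(Spec (CommRingCat.of K)) := ⟨IsLocalRing.closedPoint K⟩
    exact GeometricallyConnected.connectedSpace_of_subsingleton (f := (Red.bc σ X).hom)
  have hminK : ∀ (Γ' : Over (Spec (CommRingCat.of K))) (_ : GrpObj Γ') (i' : Γ' ⟶ Red.bc σ G), IsMonHom i' →
      IsClosedImmersion i'.left → (∃ f'' : Red.bc σ X ⟶ Γ', f'' ≫ i' = fK) →
      ∃ j : Red.bc σ Γ ⟶ Γ', j ≫ i' = iK := by
    intro Γ' _ i' _ _ h
    exact universal_of_min σ (fun _ : PUnit.{1} => f) i (fun _ => ⟨f', hf'⟩)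
      (fun Γ₁ g₁ i₁ a₁ a₂ a₃ => hmin Γ₁ g₁ i₁ a₁ a₂ (a₃ PUnit.unit)) Γ' i' (fun _ => h)
  have hfK : (Over.pullback σ).map f' ≫ iK = fK := by rw [← Functor.map_comp, hf']
  -- a rational point over the unit
  obtain ⟨x₀, hx₀⟩ : ∃ x₀ : 𝟙_ (Over (Spec (CommRingCat.of K))) ⟶ Red.bc σ X, x₀ ≫ fK = η[Red.bc σ G] := by
    refine exists_pt_lift fK _ ?_
    obtain ⟨x, w, hw⟩ := he
    let q := η[Red.bc σ G].left (base₀ (k := K))
    have hq : pullback.fst G.hom σ q = η[G].left w := by
      have e : η[Red.bc σ G].left ≫ pullback.fst G.hom σ = σ ≫ (η[G]).left := by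
        have h1 : η[Red.bc σ G] = (1 : 𝟙_ _ ⟶ Red.bc σ G) := by rw [Hom.one_def, toUnit_unit, Category.id_comp]
        have h2 : (1 : 𝟙_ _ ⟶ Red.bc σ G) = Functor.LaxMonoidal.ε (Over.pullback σ) ≫ (Over.pullback σ).map η[G] := rfl
        rw [h1, h2, Over.comp_left, Category.assoc]
        refine (congrArg _ (pullback.lift_fst _ _ _)).trans ?_
        rw [← Category.assoc]
        congr 1
        exact (cancel_mono (𝟙 _)).1 (by simp)
      refine (congrArg (fun φ => φ (base₀ (k := K))) e).trans ?_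
      exact congrArg η[G].left (Subsingleton.elim (α := PrimeSpectrum k) _ _)
    have hpb : IsPullback fK.left (pullback.fst X.hom σ) (pullback.fst G.hom σ) f.left := isPullback_map σ f
    obtain ⟨z, hz, -⟩ := Scheme.exists_preimage_of_isPullback hpb q x (hq.trans hw)
    exact ⟨z, hz⟩
  haveI := connectedSpace_of_min fK x₀ hx₀ iK ⟨_, hfK⟩ hminK
  obtain ⟨-, -, hr, q, hq, hd⟩ := props_of_min₁ fK iK ⟨_, hfK⟩ hminK
  haveI : LocallyOfFiniteType (Red.bc σ Γ).hom := by rw [← Over.w iK]; infer_instance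
  haveI := GrpSchLib.irreducibleSpace_of_connectedSpace (G := Red.bc σ Γ)
  haveI : Mono iK := Over.mono_of_mono_left iK
  have hd' : Dense (wordSet (one₁ ((Over.pullback σ).map f'))) := by
    refine hd.mono ?_
    refine Set.iUnion_subset fun l => ?_
    rw [show q l = word (one₁ ((Over.pullback σ).map f')) l by
      rw [← cancel_mono iK, hq, word_comp iK (one₁ ((Over.pullback σ).map f')) (one₁ fK) (fun _ => hfK)]]
    exact Set.subset_iUnion (fun l => Set.range (word (one₁ ((Over.pullback σ).map f')) l).left) l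
  have hx₀' : x₀ ≫ (Over.pullback σ).map f' = 1 := by
    rw [← cancel_mono iK, Category.assoc, hfK, hx₀, MonObj.one_comp, Hom.one_def, toUnit_unit, Category.id_comp]
  obtain ⟨L, hL⟩ := exists_surjective_word₁ ((Over.pullback σ).map f') x₀ hx₀' hd'
  obtain ⟨m, hm⟩ := surjective_map_word σ f' L
  have hsurj : ∀ z : Γ.left, z ∈ Set.range (word (one₁ f') L).left := by
    intro z
    haveI : Surjective (pullback.fst Γ.hom σ) := inferInstance
    obtain ⟨zK, rfl⟩ := (pullback.fst Γ.hom σ).surjective z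
    obtain ⟨p, rfl⟩ := hL zK
    refine ⟨pullback.fst (src (fun _ : PUnit.{1} => X) L).hom σ (m.left p), ?_⟩
    rw [← hm]
    exact (congrArg (fun φ => φ (m.left p)) (isPullback_map σ (word (one₁ f') L)).w).symm
  haveI : ∀ _ : PUnit.{1}, GeometricallyReduced X.hom := fun _ => inferInstance
  obtain ⟨-, -, hrk, -⟩ := props_of_min₁ f i ⟨f', hf'⟩ hmin
  refine ⟨L.length, ?_⟩
  rw [wordSet_eq_prod f L.length]
  refine Set.Subset.antisymm ?_ ?_
  · rintro _ ⟨z, rfl⟩
    obtain ⟨p, rfl⟩ := hsurj z
    refine Set.mem_iUnion.2 ⟨⟨L, rfl⟩, p, ?_⟩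
    rw [← word_comp i (one₁ f') (fun _ => f) (fun _ => hf') L]
    rfl
  · refine Set.iUnion_subset fun l => ?_
    refine (subset_trans ?_ hrk.ge)
    exact subset_trans (Set.subset_iUnion (fun l => Set.range (word (one₁ f) l).left) l.1) subset_closure

end Groth.Agent.GenSubLib
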