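import Mathlib.AlgebraicGeometry.Group.Smooth
import Mathlib.AlgebraicGeometry.Morphisms.UniversallyOpen
import Mathlib.CategoryTheory.Monoidal.Cartesian.Over
import Mathlib.CategoryTheory.Monoidal.Cartesian.Grp
import Groth.Prelude.Def_AlgGrp

/-!
# Dense sets in products over a field, and products of two points of a dense open of a group scheme
-/

set_option autoImplicit false
set_option backward.isDefEq.respectTransparency false
set_option linter.style.haveILetI false
set_option linter.unusedSectionVars false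

universe u

open CategoryTheory CategoryTheory.Limits MonoidalCategory CartesianMonoidalCategory MonObj AlgebraicGeometry

noncomputable section

namespace Groth.Agent.GenSubLib

variable {k : Type u} [Field k]

instance subsingleton_Spec : Subsingleton ↥(Spec (CommRingCat.of k)) :=
  inferInstanceAs (Subsingleton (PrimeSpectrum k))

theorem universallyOpen_hom (T : Over (Spec (CommRingCat.of k))) : UniversallyOpen T.hom := inferInstance

theorem isOpenMap_fst (P Q : Over (Spec (CommRingCat.of k))) : IsOpenMap (fst P Q).left := by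
  haveI := universallyOpen_hom Q
  exact Scheme.Hom.isOpenMap (show _ from pullback.fst P.hom Q.hom)

theorem isOpenMap_snd (P Q : Over (Spec (CommRingCat.of k))) : IsOpenMap (snd P Q).left := by
  haveI := universallyOpen_hom P
  exact Scheme.Hom.isOpenMap (show _ from pullback.snd P.hom Q.hom)

theorem isPullback_whiskerRight (B : Over (Spec (CommRingCat.of k))) {A' A : Over (Spec (CommRingCat.of k))} (t : A' ⟶ A) :
    IsPullback (t ▷ B).left (fst A' B).left (fst A B).left t.left := by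
  refine IsPullback.of_right (h₁₂ := (snd A B).left) (v₁₃ := B.hom) (h₂₂ := A.hom) ?_ ?_
    (IsPullback.of_hasPullback A.hom B.hom).flip
  · rw [← Over.comp_left, whiskerRight_snd, Over.w t]
    exact (IsPullback.of_hasPullback A'.hom B.hom).flip
  · rw [← Over.comp_left, whiskerRight_fst, Over.comp_left]

theorem isPullback_whiskerLeft (A : Over (Spec (CommRingCat.of k))) {B' B : Over (Spec (CommRingCat.of k))} (t : B' ⟶ B) :
    IsPullback (A ◁ t).left (snd A B').left (snd A B).left t.left := by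
  refine IsPullback.of_right (h₁₂ := (fst A B).left) (v₁₃ := A.hom) (h₂₂ := B.hom) ?_ ?_
    (IsPullback.of_hasPullback A.hom B.hom)
  · rw [← Over.comp_left, whiskerLeft_fst, Over.w t]
    exact IsPullback.of_hasPullback A.hom B'.hom
  · rw [← Over.comp_left, whiskerLeft_snd, Over.comp_left]

/-- Products of dense families are dense. -/
theorem dense_tensor {P Q : Over (Spec (CommRingCat.of k))} {I J : Type*} {Y : I → Over (Spec (CommRingCat.of k))} {Z : J → Over (Spec (CommRingCat.of k))}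
    (f : ∀ i, Y i ⟶ P) (g : ∀ j, Z j ⟶ Q)
    (hf : Dense (⋃ i, Set.range (f i).left)) (hg : Dense (⋃ j, Set.range (g j).left)) :
    Dense (⋃ i, ⋃ j, Set.range (f i ⊗ₘ g j).left) := by
  rw [dense_iff_inter_open]
  intro U hU ⟨z, hz⟩
  obtain ⟨a, ha, ha'⟩ := hf.exists_mem_open (isOpenMap_fst P Q _ hU) ⟨_, z, hz, rfl⟩
  obtain ⟨i, y, rfl⟩ := Set.mem_iUnion.1 ha
  obtain ⟨w, hw, hwy⟩ := ha'
  obtain ⟨w', hw', -⟩ := Scheme.exists_preimage_of_isPullback (isPullback_whiskerRight Q (f i)) w y hwy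
  have hU1 : IsOpen ((f i ▷ Q).left ⁻¹' U) := hU.preimage (f i ▷ Q).left.continuous
  have hw'' : w' ∈ (f i ▷ Q).left ⁻¹' U := by show _ ∈ U; rw [hw']; exact hw
  obtain ⟨b, hb, hb'⟩ := hg.exists_mem_open (isOpenMap_snd (Y i) Q _ hU1) ⟨_, w', hw'', rfl⟩
  obtain ⟨j, x, rfl⟩ := Set.mem_iUnion.1 hb
  obtain ⟨v, hv, hvx⟩ := hb'
  obtain ⟨v', hv', -⟩ := Scheme.exists_preimage_of_isPullback (isPullback_whiskerLeft (Y i) (g j)) v x hvx
  refine ⟨(f i ⊗ₘ g j).left v', ?_, Set.mem_iUnion.2 ⟨i, Set.mem_iUnion.2 ⟨j, _, rfl⟩⟩⟩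
  rw [show f i ⊗ₘ g j = (Y i ◁ g j) ≫ (f i ▷ Q) by ext <;> simp, Over.comp_left, Scheme.Hom.comp_apply, hv']
  exact hv

theorem dense_range_id (P : Over (Spec (CommRingCat.of k))) : Dense (⋃ _ : PUnit.{1}, Set.range (𝟙 P : P ⟶ P).left) := by
  have : (⋃ _ : PUnit.{1}, Set.range (𝟙 P : P ⟶ P).left) = Set.univ :=
    Set.eq_univ_iff_forall.2 fun x => Set.mem_iUnion.2 ⟨PUnit.unit, x, rfl⟩
  rw [this]
  exact dense_univ

/-- A residue field as a scheme over the base. -/
abbrev pt (T : Over (Spec (CommRingCat.of k))) (t : T.left) : Over (Spec (CommRingCat.of k)) := Over.mk (T.left.fromSpecResidueField t ≫ T.hom)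

/-- Its inclusion. -/
abbrev ptι (T : Over (Spec (CommRingCat.of k))) (t : T.left) : pt T t ⟶ T := Over.homMk (T.left.fromSpecResidueField t) rfl

/-- The closed point. -/
abbrev pt₀ (T : Over (Spec (CommRingCat.of k))) (t : T.left) : (pt T t).left := IsLocalRing.closedPoint (T.left.residueField t)

theorem ptι_apply (T : Over (Spec (CommRingCat.of k))) (t : T.left) (p : (pt T t).left) : (ptι T t).left p = t :=
  Scheme.fromSpecResidueField_apply _ _

theorem isOpen_and_dense_iff {X : Type*} [TopologicalSpace X] {O : Set X} :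
    (IsOpen O ∧ Dense O) ↔ (IsOpen O ∧ ∀ U : Set X, IsOpen U → U.Nonempty → (U ∩ O).Nonempty) := by
  rw [dense_iff_inter_open]

variable {G : Over (Spec (CommRingCat.of k))} [GrpObj G]

/-- Translating by a point of the group, two points of a dense open differ by it. -/
theorem exists_pts_translate (O : Set G.left) (hO : IsOpen O) (hd : Dense O) {T₀ : Over (Spec (CommRingCat.of k))}
    (hne₀ : Nonempty ↥(G ⊗ T₀).left) (zt : T₀ ⟶ G) :
    ∃ (T : Over (Spec (CommRingCat.of k))) (p : T.left) (r : T ⟶ T₀) (x y : T ⟶ G),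
      x.left p ∈ O ∧ y.left p ∈ O ∧ x⁻¹ * y = r ≫ zt := by
  let τ : G ⊗ T₀ ⟶ G ⊗ T₀ := lift (fst G T₀ * (snd G T₀ ≫ zt)) (snd G T₀)
  let τ' : G ⊗ T₀ ⟶ G ⊗ T₀ := lift (fst G T₀ * (snd G T₀ ≫ zt)⁻¹) (snd G T₀)
  have h1 : τ' ≫ τ = 𝟙 _ := by
    apply CartesianMonoidalCategory.hom_ext <;>
      simp [τ, τ', MonObj.comp_mul]
  have hopen := hO.preimage (fst G T₀).left.continuous
  have hd0 : Dense ((fst G T₀).left ⁻¹' O) := hd.preimage (isOpenMap_fst G T₀)
  have hne : (τ.left ⁻¹' ((fst G T₀).left ⁻¹' O)).Nonempty := by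
    haveI := hne₀
    obtain ⟨w, hw⟩ := hd0.nonempty
    refine ⟨τ'.left w, Set.mem_preimage.2 ?_⟩
    have h2 : τ.left (τ'.left w) = w := by
      rw [← Scheme.Hom.comp_apply, ← Over.comp_left, h1, Over.id_left]
      simp
    rw [h2]
    exact hw
  obtain ⟨q, hq, hq'⟩ := hd0.exists_mem_open (hopen.preimage τ.left.continuous) hne
  refine ⟨pt (G ⊗ T₀) q, pt₀ _ q, ptι _ q ≫ snd G T₀, ptι _ q ≫ fst G T₀, ptι _ q ≫ τ ≫ fst G T₀, ?_, ?_, ?_⟩
  · rw [Over.comp_left, Scheme.Hom.comp_apply, ptι_apply]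
    exact hq
  · rw [Over.comp_left, Over.comp_left, Scheme.Hom.comp_apply, Scheme.Hom.comp_apply, ptι_apply]
    exact hq'
  · simp [τ, MonObj.comp_mul]

theorem nonempty_tensor {P Q : Over (Spec (CommRingCat.of k))} (a : P.left) (b : Q.left) :
    Nonempty ↥(P ⊗ Q).left := by
  obtain ⟨w, -, -⟩ := Scheme.exists_preimage_of_isPullback (IsPullback.of_hasPullback P.hom Q.hom) a b
    (Subsingleton.elim _ _)
  exact ⟨w⟩

/-- Every point of a group scheme over a field is a quotient of two points in any dense open. -/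
theorem exists_pts_of_dense_open (O : Set G.left) (hO : IsOpen O) (hd : Dense O) (z : G.left) :
    ∃ (T : Over (Spec (CommRingCat.of k))) (p : T.left) (x y : T ⟶ G),
      x.left p ∈ O ∧ y.left p ∈ O ∧ (x⁻¹ * y).left p = z := by
  obtain ⟨T, p, r, x, y, hx, hy, e⟩ :=
    exists_pts_translate O hO hd (nonempty_tensor (P := G) (Q := pt G z) z (pt₀ G z)) (ptι G z)
  refine ⟨T, p, x, y, hx, hy, ?_⟩
  rw [e, Over.comp_left, Scheme.Hom.comp_apply]
  exact ptι_apply G z _

end Groth.Agent.GenSubLib
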