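import Mathlib.AlgebraicGeometry.Group.Smooth
import Mathlib.CategoryTheory.Monoidal.Cartesian.Over
import Mathlib.CategoryTheory.Monoidal.Cartesian.Grp
import Groth.Prelude.Def_AlgGrp

/-!
# Word maps of a family of morphisms into a group scheme
-/

set_option autoImplicit false
set_option backward.isDefEq.respectTransparency false
set_option linter.style.haveILetI false
set_option linter.unusedSectionVars false

universe u v

open CategoryTheory MonoidalCategory CartesianMonoidalCategory MonObj AlgebraicGeometry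

noncomputable section

namespace Groth.Agent.GenSubLib

variable {S : Scheme.{u}} {G : Over S} [GrpObj G] {J : Type v} {X : J → Over S}

variable (X) in
/-- The source of a word map. -/
def src : List (J × Bool) → Over S
  | [] => 𝟙_ (Over S)
  | a :: l => X a.1 ⊗ src l

variable (f : ∀ j, X j ⟶ G)

/-- A letter. -/
def letter (a : J × Bool) : X a.1 ⟶ G := if a.2 then f a.1 else (f a.1)⁻¹

/-- The word map. -/
def word : ∀ l : List (J × Bool), src X l ⟶ G
  | [] => η[G]
  | a :: l => (fst (X a.1) (src X l) ≫ letter f a) * (snd (X a.1) (src X l) ≫ word l)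

theorem word_nil : word f [] = η[G] := rfl

theorem word_cons (a : J × Bool) (l : List (J × Bool)) :
    word f (a :: l) = (fst _ _ ≫ letter f a) * (snd _ _ ≫ word f l) := rfl

theorem comp_word_nil {T : Over S} (t : T ⟶ src X []) : t ≫ word f [] = 1 := by
  rw [word_nil, Hom.one_def]
  congr 1
  exact toUnit_unique _ _

theorem comp_word_cons {T : Over S} (a : J × Bool) (l : List (J × Bool)) (x : T ⟶ X a.1) (t : T ⟶ src X l) :
    lift x t ≫ word f (a :: l) = (x ≫ letter f a) * (t ≫ word f l) := by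
  rw [word_cons, MonObj.comp_mul, ← Category.assoc, ← Category.assoc, lift_fst, lift_snd]

theorem exists_append : ∀ l m : List (J × Bool), ∀ {T : Over S} (s : T ⟶ src X l) (t : T ⟶ src X m),
    ∃ r : T ⟶ src X (l ++ m), r ≫ word f (l ++ m) = (s ≫ word f l) * (t ≫ word f m)
  | [], m, T, s, t => ⟨t, by rw [comp_word_nil, _root_.one_mul]; rfl⟩
  | a :: l, m, T, s, t => by
    obtain ⟨r, hr⟩ := exists_append l m (s ≫ snd (X a.1) (src X l)) t
    refine ⟨lift (s ≫ fst (X a.1) (src X l)) r, ?_⟩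
    show lift _ r ≫ word f (a :: (l ++ m)) = _
    rw [comp_word_cons, hr, word_cons, MonObj.comp_mul, Category.assoc, Category.assoc, _root_.mul_assoc]

theorem exists_single (a : J × Bool) {T : Over S} (x : T ⟶ X a.1) :
    ∃ r : T ⟶ src X [a], r ≫ word f [a] = x ≫ letter f a :=
  ⟨lift x (show T ⟶ src X [] from toUnit T), (comp_word_cons f a [] x (show T ⟶ src X [] from toUnit T)).trans (by rw [comp_word_nil, _root_.mul_one])⟩

theorem letter_not (a : J × Bool) : letter f (a.1, !a.2) = (letter f a)⁻¹ := by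
  obtain ⟨j, b⟩ := a
  cases b <;> simp [letter]

theorem exists_inv : ∀ l : List (J × Bool), ∀ {T : Over S} (s : T ⟶ src X l),
    ∃ r : T ⟶ src X ((l.map fun a => (a.1, !a.2)).reverse),
      r ≫ word f ((l.map fun a => (a.1, !a.2)).reverse) = (s ≫ word f l)⁻¹
  | [], T, s => ⟨s, by rw [comp_word_nil, inv_one]; exact comp_word_nil f s⟩
  | a :: l, T, s => by
    obtain ⟨r, hr⟩ := exists_inv l (s ≫ snd (X a.1) (src X l))
    obtain ⟨r₁, h₁⟩ := exists_single f (a.1, !a.2) (s ≫ fst (X a.1) (src X l))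
    obtain ⟨r₂, h₂⟩ := exists_append f _ _ r r₁
    rw [List.map_cons, List.reverse_cons]
    refine ⟨r₂, ?_⟩
    rw [h₂, hr, h₁, letter_not, GrpObj.comp_inv, ← mul_inv_rev, word_cons, MonObj.comp_mul, Category.assoc,
      Category.assoc]

theorem exists_factor_word {Γ : Over S} [GrpObj Γ] (i : Γ ⟶ G) [IsMonHom i]
    (h : ∀ j, ∃ q : X j ⟶ Γ, q ≫ i = f j) : ∀ l : List (J × Bool), ∃ q : src X l ⟶ Γ, q ≫ i = word f l
  | [] => ⟨η[Γ], IsMonHom.one_hom i⟩
  | a :: l => by
    obtain ⟨q, hq⟩ := h a.1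
    obtain ⟨r, hr⟩ := exists_factor_word i h l
    obtain ⟨q', hq'⟩ : ∃ q' : X a.1 ⟶ Γ, q' ≫ i = letter f a := by
      rcases a with ⟨j, b⟩
      cases b
      · exact ⟨q⁻¹, by rw [GrpObj.inv_comp, hq]; rfl⟩
      · exact ⟨q, hq⟩
    exact ⟨(fst _ _ ≫ q') * (snd _ _ ≫ r), by rw [MonObj.mul_comp, Category.assoc, Category.assoc, hq', hr]; rfl⟩

/-- The underlying set of all words. -/
def wordSet : Set G.left := ⋃ l : List (J × Bool), Set.range (word f l).left

theorem range_subset_wordSet (j : J) : Set.range (f j).left ⊆ wordSet f := by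
  rintro _ ⟨p, rfl⟩
  obtain ⟨r, hr⟩ := exists_single f (j, true) (𝟙 (X j))
  refine Set.mem_iUnion.2 ⟨[(j, true)], r.left p, ?_⟩
  rw [← Scheme.Hom.comp_apply, ← Over.comp_left, hr, Category.id_comp]
  rfl

theorem one_mem_wordSet (p : (𝟙_ (Over S)).left) : (η[G] : 𝟙_ (Over S) ⟶ G).left p ∈ wordSet f :=
  Set.mem_iUnion.2 ⟨[], p, rfl⟩

section List

variable {X₀ : Over S} (f₀ : X₀ ⟶ G)

/-- Words of one morphism, as products of points. -/
theorem exists_word_of_prod {T : Over S} : ∀ (n : ℕ) (x : Fin n → (T ⟶ X₀)) (ε : Fin n → Bool),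
    ∃ (l : List (PUnit.{1} × Bool)) (t : T ⟶ src (fun _ => X₀) l), l.length = n ∧
      t ≫ word (fun _ => f₀) l = (List.ofFn fun j : Fin n => if ε j then x j ≫ f₀ else (x j ≫ f₀)⁻¹).prod
  | 0, x, ε => ⟨[], toUnit T, rfl, comp_word_nil _ _⟩
  | n + 1, x, ε => by
    obtain ⟨l, t, hl, ht⟩ := exists_word_of_prod n (fun j => x j.succ) (fun j => ε j.succ)
    refine ⟨(PUnit.unit, ε 0) :: l, lift (x 0) t, by rw [List.length_cons, hl], ?_⟩
    refine (comp_word_cons (fun _ : PUnit.{1} => f₀) (PUnit.unit, ε 0) l (x 0) t).trans ?_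
    rw [ht, List.ofFn_succ, List.prod_cons]
    congr 1
    unfold letter
    dsimp only
    split <;> simp [GrpObj.comp_inv]

theorem exists_prod_of_word {T : Over S} : ∀ (l : List (PUnit.{1} × Bool)) (t : T ⟶ src (fun _ => X₀) l),
    ∃ (x : Fin l.length → (T ⟶ X₀)) (ε : Fin l.length → Bool),
      (List.ofFn fun j => if ε j then x j ≫ f₀ else (x j ≫ f₀)⁻¹).prod = t ≫ word (fun _ => f₀) l
  | [], t => ⟨Fin.elim0, Fin.elim0, by rw [comp_word_nil]; rfl⟩
  | a :: l, t => by
    obtain ⟨x, ε, h⟩ := exists_prod_of_word l (t ≫ snd _ _)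
    refine ⟨Fin.cases (t ≫ fst X₀ _) x, Fin.cases a.2 ε, ?_⟩
    show (List.ofFn fun j : Fin (l.length + 1) => _).prod = _
    rw [List.ofFn_succ, List.prod_cons, word_cons, MonObj.comp_mul, ← Category.assoc t (snd _ _), ← h]
    congr 1
    simp only [Fin.cases_zero]
    unfold letter
    cases a.2 <;> simp [GrpObj.comp_inv]

/-- The set of values of words of a given length. -/
theorem wordSet_eq_prod (N : ℕ) :
    {g : G.left | ∃ (T : Over S) (p : T.left) (x : Fin N → (T ⟶ X₀)) (ε : Fin N → Bool),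
      ((List.ofFn fun j : Fin N => if ε j then x j ≫ f₀ else (x j ≫ f₀)⁻¹).prod : T ⟶ G).left.base p = g} =
    ⋃ l : {l : List (PUnit.{1} × Bool) // l.length = N}, Set.range (word (fun _ => f₀) l.1).left := by
  ext g
  constructor
  · rintro ⟨T, p, x, ε, rfl⟩
    obtain ⟨l, t, hl, ht⟩ := exists_word_of_prod f₀ N x ε
    refine Set.mem_iUnion.2 ⟨⟨l, hl⟩, t.left p, ?_⟩
    rw [← Scheme.Hom.comp_apply, ← Over.comp_left, ht]
  · intro hg
    obtain ⟨⟨l, rfl⟩, p, rfl⟩ := Set.mem_iUnion.1 hg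
    obtain ⟨x, ε, h⟩ := exists_prod_of_word f₀ l (𝟙 (src (fun _ => X₀) l))
    refine ⟨src (fun _ => X₀) l, p, x, ε, ?_⟩
    rw [h, Category.id_comp]

end List

end Groth.Agent.GenSubLib
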