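import Groth.Agent.GenSubLib.Dominant
import Groth.Agent.GenSubLib.Topo
import Groth.Agent.GenSubLib.Words
import Groth.Agent.DVRCrit.Local

/-!
# The subgroup generated by a family of morphisms from geometrically reduced schemes
-/

set_option autoImplicit false
set_option backward.isDefEq.respectTransparency false
set_option backward.isDefEq.respectTransparency.types false
set_option linter.style.haveILetI false
set_option linter.unusedSectionVars false

universe u v

open CategoryTheory CategoryTheory.Limits MonoidalCategory CartesianMonoidalCategory MonObj AlgebraicGeometry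

noncomputable section

namespace Groth.Agent.GenSubLib

section

variable {S : Scheme.{u}}

/-- A monomorphism which is closed under the operations is a subgroup. -/
theorem exists_grpObj_of_closed {H G : Over S} [GrpObj G] (j : H ⟶ G) [Mono j]
    (hmul : ∀ {T : Over S} (x y : T ⟶ H), ∃ z : T ⟶ H, z ≫ j = (x ≫ j) * (y ≫ j))
    (hinv : ∀ {T : Over S} (x : T ⟶ H), ∃ z : T ⟶ H, z ≫ j = (x ≫ j)⁻¹)
    (hone : ∃ e : 𝟙_ (Over S) ⟶ H, e ≫ j = 1) : ∃ _ : GrpObj H, IsMonHom j := by
  obtain ⟨m, hm⟩ := hmul (fst H H) (snd H H)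
  obtain ⟨ν, hν⟩ := hinv (𝟙 H)
  obtain ⟨e₀, he₀⟩ := hone
  rw [Category.id_comp] at hν
  have hmT : ∀ {T : Over S} (x y : T ⟶ H), lift x y ≫ m ≫ j = (x ≫ j) * (y ≫ j) := fun {T} x y => by
    rw [hm, MonObj.comp_mul, lift_fst_assoc, lift_snd_assoc]
  have heT : ∀ {T : Over S} (f : T ⟶ 𝟙_ (Over S)), f ≫ e₀ ≫ j = 1 := fun {T} f => by
    rw [he₀, MonObj.comp_one]
  let M : MonObj H :=
    { one := e₀
      mul := m
      one_mul := by
        rw [← cancel_mono j, Category.assoc]
        rw [show e₀ ▷ H = lift (fst _ _ ≫ e₀) (snd _ _) by ext <;> simp, hmT, Category.assoc, heT, _root_.one_mul]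
        simp only [leftUnitor_hom]
      mul_one := by
        rw [← cancel_mono j, Category.assoc]
        rw [show H ◁ e₀ = lift (fst _ _) (snd _ _ ≫ e₀) by ext <;> simp, hmT, Category.assoc, heT, _root_.mul_one]
        simp only [rightUnitor_hom]
      mul_assoc := by
        rw [← cancel_mono j, Category.assoc, Category.assoc]
        rw [show m ▷ H = lift (fst _ _ ≫ m) (snd _ _) by ext <;> simp, hmT,
          show H ◁ m = lift (fst _ _) (snd _ _ ≫ m) by ext <;> simp, Category.assoc (lift _ _), hmT]
        simp only [MonObj.comp_mul, Category.assoc, hm, _root_.mul_assoc]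
        simp }
  let G' : GrpObj H :=
    { toMonObj := M
      inv := ν
      left_inv := by
        rw [← cancel_mono j]
        change (lift ν (𝟙 H) ≫ m) ≫ j = (toUnit H ≫ e₀) ≫ j
        rw [Category.assoc, hmT, hν, Category.id_comp, _root_.inv_mul_cancel, Category.assoc, heT]
      right_inv := by
        rw [← cancel_mono j]
        change (lift (𝟙 H) ν ≫ m) ≫ j = (toUnit H ≫ e₀) ≫ j
        rw [Category.assoc, hmT, hν, Category.id_comp, _root_.mul_inv_cancel, Category.assoc, heT] }
  letI := G'
  refine ⟨G', ?_, ?_⟩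
  · show e₀ ≫ j = η[G]
    rw [he₀, MonObj.one_eq_one]
  · change m ≫ j = _
    rw [hm]
    change lift (fst H H ≫ j) (snd H H ≫ j) ≫ μ[G] = _
    congr 1

end

variable {k : Type u} [Field k]

/-- A morphism from a reduced scheme factors through a closed immersion containing its range. -/
theorem exists_lift_of_range {T H G : Over (Spec (CommRingCat.of k))} [IsReduced T.left] (i : H ⟶ G) [IsClosedImmersion i.left]
    (t : T ⟶ G) (h : Set.range t.left ⊆ Set.range i.left) : ∃ l : T ⟶ H, l ≫ i = t := by
  haveI : IsClosedImmersion (pullback.fst t.left i.left) := MorphismProperty.pullback_fst _ _ ‹_›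
  haveI : Surjective (pullback.fst t.left i.left) := ⟨fun z => by
    have : z ∈ Set.range (pullback.fst t.left i.left) := by
      rw [Scheme.Pullback.range_fst]; exact h ⟨z, rfl⟩
    exact this⟩
  haveI := isIso_of_isClosedImmersion_of_surjective (pullback.fst t.left i.left)
  have e : (inv (pullback.fst t.left i.left) ≫ pullback.snd t.left i.left) ≫ i.left = t.left := by
    rw [Category.assoc, ← pullback.condition, IsIso.inv_hom_id_assoc]
  exact ⟨Over.homMk (inv (pullback.fst t.left i.left) ≫ pullback.snd t.left i.left)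
    (by rw [← Over.w i, ← Category.assoc, e, Over.w t]), Over.OverMorphism.ext e⟩

/-- The product of a geometrically reduced scheme and a reduced scheme over a field is reduced. -/
theorem isReduced_pullback {P : Scheme.{u}} (p : P ⟶ (Spec (CommRingCat.of k))) [GeometricallyReduced p] {T : Scheme.{u}}
    [IsReduced T] (q : T ⟶ (Spec (CommRingCat.of k))) : IsReduced (pullback p q) := by
  haveI : IsReduced (pullback q p) := by
    refine isReduced_pullback_of_dense q p (fun t : T => T.fromSpecResidueField t) ?_ fun t => ?_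
    · have : (⋃ t : T, Set.range (T.fromSpecResidueField t)) = Set.univ :=
        Set.eq_univ_iff_forall.2 fun x => Set.mem_iUnion.2 ⟨x, IsLocalRing.closedPoint _,
          Scheme.fromSpecResidueField_apply _ _⟩
      rw [this]
      exact dense_univ
    · haveI : IsReduced (pullback p (T.fromSpecResidueField t ≫ q)) :=
        GeometricallyReduced.geometrically_isReduced _ _ _ (.of_hasPullback _ _)
      exact isReduced_of_isOpenImmersion (pullbackSymmetry (T.fromSpecResidueField t ≫ q) p).hom
  exact isReduced_of_isOpenImmersion (pullbackSymmetry p q).hom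

theorem isReduced_tensor (P Q : Over (Spec (CommRingCat.of k))) [GeometricallyReduced P.hom] [IsReduced Q.left] :
    IsReduced (P ⊗ Q).left := isReduced_pullback P.hom Q.hom

theorem geometricallyReduced_of_forall {P : Scheme.{u}} (p : P ⟶ (Spec (CommRingCat.of k)))
    (h : ∀ (K : Type u) [Field K] (y : Spec (CommRingCat.of K) ⟶ (Spec (CommRingCat.of k))), IsReduced (pullback p y)) :
    GeometricallyReduced p :=
  ⟨fun K _ y W a b hW => by
    haveI := h K y
    exact isReduced_of_isOpenImmersion hW.isoPullback.hom⟩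

theorem geometricallyReduced_tensor (P Q : Over (Spec (CommRingCat.of k))) [GeometricallyReduced P.hom] [GeometricallyReduced Q.hom] :
    GeometricallyReduced (P ⊗ Q).hom := by
  refine geometricallyReduced_of_forall _ fun K _ y => ?_
  haveI : IsReduced (pullback Q.hom y) := GeometricallyReduced.geometrically_isReduced _ _ _ (.of_hasPullback _ _)
  haveI := isReduced_pullback P.hom (pullback.fst Q.hom y ≫ Q.hom)
  haveI : IsReduced (pullback (pullback.snd P.hom Q.hom) (pullback.fst Q.hom y)) :=
    isReduced_of_isOpenImmersion (pullbackLeftPullbackSndIso P.hom Q.hom (pullback.fst Q.hom y)).hom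
  haveI : IsReduced (pullback (pullback.snd P.hom Q.hom ≫ Q.hom) y) :=
    isReduced_of_isOpenImmersion (pullbackRightPullbackFstIso Q.hom y (pullback.snd P.hom Q.hom)).inv
  exact isReduced_of_isOpenImmersion
    (pullback.congrHom (show (P ⊗ Q).hom = pullback.snd P.hom Q.hom ≫ Q.hom from (Over.w (snd P Q)).symm) rfl).hom

theorem geometricallyReduced_unit : GeometricallyReduced (𝟙_ (Over (Spec (CommRingCat.of k)))).hom := by
  refine geometricallyReduced_of_forall _ fun K _ y => ?_
  haveI : IsIso (pullback.snd (𝟙_ (Over (Spec (CommRingCat.of k)))).hom y) := by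
    show IsIso (pullback.snd (𝟙 _) y)
    infer_instance
  exact isReduced_of_isOpenImmersion (pullback.snd (𝟙_ (Over (Spec (CommRingCat.of k)))).hom y)

variable {G : Over (Spec (CommRingCat.of k))} [GrpObj G] {J : Type v} {X : J → Over (Spec (CommRingCat.of k))}

theorem geometricallyReduced_src [∀ j, GeometricallyReduced (X j).hom] :
    ∀ l : List (J × Bool), GeometricallyReduced (src X l).hom := fun l => by
  induction l with
  | nil => exact geometricallyReduced_unit (k := k)
  | cons a l ih =>
    haveI := ih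
    show GeometricallyReduced (X a.1 ⊗ src X l).hom
    exact @geometricallyReduced_tensor k _ (X a.1) (src X l) inferInstance ih

theorem isReduced_self (P : Over (Spec (CommRingCat.of k))) [GeometricallyReduced P.hom] : IsReduced P.left := by
  haveI := isReduced_pullback P.hom (𝟙 (Spec (CommRingCat.of k)))
  exact isReduced_of_isOpenImmersion (inv (pullback.fst P.hom (𝟙 (Spec (CommRingCat.of k)))))

variable (f : ∀ j, X j ⟶ G)

/-- The generated subgroup exists. -/
theorem exists_generated [∀ j, GeometricallyReduced (X j).hom] :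
    ∃ (Γ : Over (Spec (CommRingCat.of k))) (_ : GrpObj Γ) (i : Γ ⟶ G), IsMonHom i ∧ IsClosedImmersion i.left ∧ IsReduced Γ.left ∧
      GeometricallyReduced Γ.hom ∧ Set.range i.left = closure (wordSet f) ∧
      (∀ j, ∃ q : X j ⟶ Γ, q ≫ i = f j) ∧
      (∃ q : ∀ l, src X l ⟶ Γ, (∀ l, q l ≫ i = word f l) ∧ Dense (⋃ l, Set.range (q l).left)) ∧
      ∀ (Γ' : Over (Spec (CommRingCat.of k))) (_ : GrpObj Γ') (i' : Γ' ⟶ G), IsMonHom i' → IsClosedImmersion i'.left →
        (∀ j, ∃ q : X j ⟶ Γ', q ≫ i' = f j) → ∃ r : Γ ⟶ Γ', r ≫ i' = i := by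
  let C : TopologicalSpace.Closeds G.left := ⟨closure (wordSet f), isClosed_closure⟩
  let I := Scheme.IdealSheafData.vanishingIdeal C
  let Γ : Over (Spec (CommRingCat.of k)) := Over.mk (I.subschemeι ≫ G.hom)
  let i : Γ ⟶ G := Over.homMk I.subschemeι rfl
  haveI : IsClosedImmersion i.left := inferInstanceAs (IsClosedImmersion I.subschemeι)
  haveI : IsReduced Γ.left := DVRCrit.isReduced_vanishingIdeal C
  have hrange : Set.range i.left = closure (wordSet f) := by
    show Set.range I.subschemeι = _
    rw [I.range_subschemeι, Scheme.IdealSheafData.coe_support_vanishingIdeal]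
    rfl
  have hred : ∀ l, IsReduced (src X l).left := fun l => by
    haveI := geometricallyReduced_src (X := X) l
    exact isReduced_self _
  have hw : ∀ l, ∃ q : src X l ⟶ Γ, q ≫ i = word f l := fun l => by
    haveI := hred l
    refine exists_lift_of_range i _ ?_
    rw [hrange]
    exact (Set.subset_iUnion (fun l => Set.range (word f l).left) l).trans subset_closure
  choose q hq using hw
  have hd : Dense (⋃ l, Set.range (q l).left) := by
    rw [i.left.isClosedEmbedding.isInducing.dense_iff]
    intro x
    have hx : i.left x ∈ closure (wordSet f) := hrange ▸ Set.mem_range_self x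
    refine closure_mono ?_ hx
    rintro _ hy
    obtain ⟨l, p, rfl⟩ := Set.mem_iUnion.1 hy
    exact ⟨(q l).left p, Set.mem_iUnion.2 ⟨l, p, rfl⟩, by
      rw [← Scheme.Hom.comp_apply, ← Over.comp_left, hq]⟩
  haveI hgr : GeometricallyReduced Γ.hom := by
    refine geometricallyReduced_of_forall _ fun K _ y => ?_
    refine isReduced_pullback_of_dense Γ.hom y (fun l => (q l).left) hd fun l => ?_
    haveI := geometricallyReduced_src (X := X) l
    haveI : IsReduced (pullback (src X l).hom y) :=
      GeometricallyReduced.geometrically_isReduced _ _ _ (.of_hasPullback _ _)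
    exact isReduced_of_isOpenImmersion (pullback.congrHom (Over.w (q l)) rfl).hom
  haveI : IsReduced (Γ ⊗ Γ).left := isReduced_tensor Γ Γ
  haveI : Mono i := Over.mono_of_mono_left i
  obtain ⟨m, hm⟩ : ∃ m : Γ ⊗ Γ ⟶ Γ, m ≫ i = (fst Γ Γ ≫ i) * (snd Γ Γ ≫ i) := by
    refine exists_lift_of_range i _ ?_
    set z := (fst Γ Γ ≫ i) * (snd Γ Γ ≫ i)
    have hsub : (⋃ l, ⋃ l', Set.range (q l ⊗ₘ q l').left) ⊆ z.left ⁻¹' closure (wordSet f) := by
      rintro _ hy
      obtain ⟨l, hy⟩ := Set.mem_iUnion.1 hy
      obtain ⟨l', p, rfl⟩ := Set.mem_iUnion.1 hy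
      obtain ⟨r, hr⟩ := exists_append f l l' (fst (src X l) (src X l')) (snd _ _)
      have e : (q l ⊗ₘ q l') ≫ z = r ≫ word f (l ++ l') := by
        rw [hr, MonObj.comp_mul, ← Category.assoc, tensorHom_fst, ← Category.assoc, tensorHom_snd, Category.assoc,
          hq, Category.assoc, hq]
      refine subset_closure (Set.mem_iUnion.2 ⟨l ++ l', r.left p, ?_⟩)
      rw [← Scheme.Hom.comp_apply, ← Over.comp_left, ← e]
      rfl
    rw [hrange]
    rintro _ ⟨p, rfl⟩
    have hcl : IsClosed (z.left ⁻¹' closure (wordSet f)) := isClosed_closure.preimage z.left.continuous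
    exact hcl.closure_subset_iff.2 hsub (dense_tensor q q hd hd p)
  obtain ⟨ν, hν⟩ : ∃ ν : Γ ⟶ Γ, ν ≫ i = i⁻¹ := by
    refine exists_lift_of_range i _ ?_
    rw [hrange]
    rintro _ ⟨p, rfl⟩
    have hsub : (⋃ l, Set.range (q l).left) ⊆ i⁻¹.left ⁻¹' closure (wordSet f) := by
      rintro _ hy
      obtain ⟨l, p, rfl⟩ := Set.mem_iUnion.1 hy
      obtain ⟨r, hr⟩ := exists_inv f l (𝟙 _)
      have e : q l ≫ i⁻¹ = r ≫ word f _ := by rw [hr, GrpObj.comp_inv, hq, Category.id_comp]
      refine subset_closure (Set.mem_iUnion.2 ⟨_, r.left p, ?_⟩)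
      rw [← Scheme.Hom.comp_apply, ← Over.comp_left, ← e]
      rfl
    exact (isClosed_closure.preimage i⁻¹.left.continuous).closure_subset_iff.2 hsub (hd p)
  obtain ⟨hΓ, hi⟩ := exists_grpObj_of_closed i (fun {T} x y => ⟨lift x y ≫ m, by
      rw [Category.assoc, hm, MonObj.comp_mul, lift_fst_assoc, lift_snd_assoc]⟩)
    (fun {T} x => ⟨x ≫ ν, by rw [Category.assoc, hν, GrpObj.comp_inv]⟩)
    ⟨q [], by rw [hq, word_nil, Hom.one_def, toUnit_unit, Category.id_comp]⟩
  refine ⟨Γ, hΓ, i, hi, inferInstance, inferInstance, hgr, hrange, fun j => ?_, ⟨q, hq, hd⟩, ?_⟩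
  · haveI := isReduced_self (X j)
    refine exists_lift_of_range i _ ?_
    rw [hrange]
    exact (range_subset_wordSet f j).trans subset_closure
  · intro Γ' _ i' hi' hc' hf'
    refine exists_lift_of_range i' i ?_
    rw [hrange]
    refine i'.left.isClosedEmbedding.isClosed_range.closure_subset_iff.2 ?_
    rintro _ hy
    obtain ⟨l, p, rfl⟩ := Set.mem_iUnion.1 hy
    obtain ⟨r, hr⟩ := exists_factor_word f i' hf' l
    exact ⟨r.left p, by rw [← Scheme.Hom.comp_apply, ← Over.comp_left, hr]⟩

end Groth.Agent.GenSubLib
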