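import Groth.Agent.GenSubLib.BorelQuot
import Groth.Agent.ChevAffine.Finite
import Groth.Agent.GenIrredLib.EquidimQF
import Groth.Agent.DimFormulaLib.Closed
import Groth.Agent.AVLib.IdSub

/-!
# Solvable subgroups and finite surjective homomorphisms
-/

set_option autoImplicit false
set_option backward.isDefEq.respectTransparency false
set_option backward.isDefEq.respectTransparency.types false
set_option linter.style.haveILetI false
set_option linter.unusedSectionVars false

universe u

open CategoryTheory CategoryTheory.Limits MonoidalCategory CartesianMonoidalCategory MonObj AlgebraicGeometry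
open scoped commutatorElement

noncomputable section

namespace Groth.Agent.GenSubLib

variable {k : Type u} [Field k]

/-- A finite surjection of irreducible schemes preserves the dimension. -/
theorem topologicalKrullDim_eq_of_finite_surjective {X Y : Scheme.{u}} (f : X ⟶ Y) [IsFinite f] [Surjective f]
    [IsLocallyNoetherian Y] [IrreducibleSpace X] [IrreducibleSpace Y] :
    topologicalKrullDim X = topologicalKrullDim Y := by
  have h := (DimFormulaLib.topologicalKrullDim_eq_add_of_isClosedMap f f.surjective.denseRange 0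
    (by rw [GenIrredLib.resTrdegAt_locallyQuasiFinite, Nat.cast_zero])).2 f.isClosedMap
  simpa using h

theorem eq_one_of_isIso_unit {G T : Over (Spec (CommRingCat.of k))} [GrpObj G] [IsIso η[G]] (g : T ⟶ G) : g = 1 := by
  rw [Hom.one_def, ← Category.comp_id g, ← IsIso.inv_hom_id η[G], ← Category.assoc]
  congr 1
  exact toUnit_unique _ _

/-- The derived subgroup scheme, through which commutators of all points factor. -/
theorem exists_derived_full [IsAlgClosed k] (G : Over (Spec (CommRingCat.of k))) [GrpObj G] [Smooth G.hom]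
    [ConnectedSpace G.left] :
    ∃ (D : Over (Spec (CommRingCat.of k))) (_ : GrpObj D) (i : D ⟶ G) (_ : IsMonHom i),
      IsClosedImmersion i.left ∧ Smooth D.hom ∧ ConnectedSpace D.left ∧
      (ptsHom i).range = commutator (𝟙_ (Over (Spec (CommRingCat.of k))) ⟶ G) ∧
      ∀ (T : Over (Spec (CommRingCat.of k))) (u v : T ⟶ G), ∃ d : T ⟶ D, d ≫ i = ⁅u, v⁆ := by
  haveI := GrpSchLib.irreducibleSpace_of_connectedSpace (G := G)
  haveI := GrpSchLib.compactSpace_of_irreducibleSpace (G := G)
  haveI : QuasiCompact G.hom := (quasiCompact_iff_compactSpace G.hom).2 inferInstance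
  haveI : GeometricallyReduced G.hom := AVLib.geometricallyReduced_of_smooth G.hom
  haveI := geometricallyReduced_tensor G G
  haveI : IsClosedImmersion (𝟙 G : G ⟶ G).left := inferInstanceAs (IsClosedImmersion (𝟙 G.left))
  obtain ⟨D, hD, i, hi, hci, -, hgr, -, hfac, -, hmin⟩ :=
    exists_generated (X := fun _ : PUnit.{1} => G ⊗ G) (fun _ : PUnit.{1} => commMap (𝟙 G) (𝟙 G))
  letI := hD
  haveI := hi
  haveI := hci
  haveI := hgr
  haveI : Mono i := Over.mono_of_mono_left i
  haveI : LocallyOfFiniteType D.hom := by rw [← Over.w i]; infer_instance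
  have hmin' := fun Γ' h' i' h1 h2 h3 => hmin Γ' h' i' h1 h2 fun _ : PUnit.{1} => h3
  refine ⟨D, hD, i, hi, hci, @smooth_of_grpObj _ _ _ D.hom ‹LocallyOfFiniteType D.hom› hD hgr,
    (commutator_props (𝟙 G) (𝟙 G) D i (hfac PUnit.unit) hmin' (Or.inr ‹_›)).2 ‹_›, ?_, fun T u v => ?_⟩
  · apply SetLike.coe_injective
    rw [MonoidHom.coe_range]
    show Set.range (fun z : 𝟙_ (Over (Spec (CommRingCat.of k))) ⟶ D => z ≫ i) = _
    rw [range_pts_of_min (𝟙 G) (𝟙 G) (Or.inr ‹_›) D i (hfac PUnit.unit) hmin']
    simp only [Category.comp_id, Set.range_id', Subgroup.closure_univ, commutator_def]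
  · obtain ⟨c, hc⟩ := hfac PUnit.unit
    refine ⟨lift u v ≫ c, ?_⟩
    rw [Category.assoc, hc]
    simp only [commMap, commutatorElement_def, MonObj.comp_mul, GrpObj.comp_inv, Category.comp_id, lift_fst, lift_snd]

variable [IsAlgClosed k]

/-- Finitely many rational points force a smooth connected group to be trivial. -/
theorem isIso_unit_of_finite_pts {G : Over (Spec (CommRingCat.of k))} [GrpObj G] [Smooth G.hom] [ConnectedSpace G.left]
    (h : Finite (𝟙_ (Over (Spec (CommRingCat.of k))) ⟶ G)) : IsIso η[G] := by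
  haveI : LocallyOfFiniteType G.hom := inferInstance
  haveI : JacobsonSpace G.left := LocallyOfFiniteType.jacobsonSpace G.hom
  have hfin : (closedPoints G.left).Finite :=
    (Set.finite_range fun g : 𝟙_ (Over (Spec (CommRingCat.of k))) ⟶ G => g.left base₀).subset fun z hz =>
      exists_pt hz
  have huniv : closedPoints G.left = Set.univ := by
    rw [← closure_closedPoints (X := G.left)]
    refine (IsClosed.closure_eq ?_).symm
    rw [← Set.biUnion_of_singleton (closedPoints G.left)]
    exact hfin.isClosed_biUnion fun z hz => hz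
  haveI : Finite G.left := Set.finite_univ_iff.1 (huniv ▸ hfin)
  haveI : T1Space G.left := ⟨fun z => (huniv ▸ Set.mem_univ z : z ∈ closedPoints G.left)⟩
  haveI : Subsingleton G.left := PreconnectedSpace.trivial_of_discrete
  exact isIso_unit_of_subsingleton fun z => ⟨base₀, Subsingleton.elim _ _⟩

/-- A smooth connected group with finite iterated derived group of rational points has a trivial one. -/
theorem derivedSeries_eq_bot_of_finite : ∀ (n : ℕ) (G : Over (Spec (CommRingCat.of k))) [GrpObj G] [Smooth G.hom]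
    [ConnectedSpace G.left],
    ((derivedSeries (𝟙_ (Over (Spec (CommRingCat.of k))) ⟶ G) n : Subgroup _) :
      Set (𝟙_ (Over (Spec (CommRingCat.of k))) ⟶ G)).Finite →
    derivedSeries (𝟙_ (Over (Spec (CommRingCat.of k))) ⟶ G) n = ⊥
  | 0, G, _, _, _, h => by
    rw [derivedSeries_zero, Subgroup.coe_top, Set.finite_univ_iff] at h
    haveI := isIso_unit_of_finite_pts h
    exact (Subgroup.eq_bot_iff_forall _).2 fun g _ => eq_one_of_isIso_unit g
  | n + 1, G, _, _, _, h => by
    obtain ⟨D, hD, i, hi, hci, hDs, hDc, hrange, -⟩ := exists_derived_full G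
    letI := hD
    haveI := hi
    haveI := hci
    haveI := hDs
    haveI := hDc
    haveI : Mono i := Over.mono_of_mono_left i
    have e := map_derivedSeries_succ (ptsHom i) hrange n
    have hn : ((derivedSeries (𝟙_ (Over (Spec (CommRingCat.of k))) ⟶ D) n : Subgroup _) :
        Set (𝟙_ (Over (Spec (CommRingCat.of k))) ⟶ D)).Finite := by
      refine Set.Finite.of_finite_image (h.subset ?_) (fun u _ v _ huv => (cancel_mono i).1 huv : Set.InjOn (ptsHom i) _)
      rw [← e, Subgroup.coe_map]
    rw [← e, derivedSeries_eq_bot_of_finite n D hn, Subgroup.map_bot]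

/-- Solvability of a smooth connected group may be tested on rational points. -/
theorem derivedSeries_pts_eq_bot : ∀ (n : ℕ) (G : Over (Spec (CommRingCat.of k))) [GrpObj G] [Smooth G.hom]
    [ConnectedSpace G.left], derivedSeries (𝟙_ (Over (Spec (CommRingCat.of k))) ⟶ G) n = ⊥ →
    ∀ T : Over (Spec (CommRingCat.of k)), derivedSeries (T ⟶ G) n = ⊥
  | 0, G, _, _, _, h, T => by
    haveI := isIso_unit_of_finite_pts (G := G) (Set.finite_univ_iff.1 (by
      rw [← Subgroup.coe_top, ← derivedSeries_zero, h]; simp))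
    exact (Subgroup.eq_bot_iff_forall _).2 fun g _ => eq_one_of_isIso_unit g
  | n + 1, G, _, _, _, h, T => by
    obtain ⟨D, hD, i, hi, hci, hDs, hDc, hrange, hcomm⟩ := exists_derived_full G
    letI := hD
    haveI := hi
    haveI := hci
    haveI := hDs
    haveI := hDc
    haveI : Mono i := Over.mono_of_mono_left i
    have e := map_derivedSeries_succ (ptsHom i) hrange n
    rw [h, Subgroup.map_eq_bot_iff_of_injective _ fun u v huv => (cancel_mono i).1 huv] at e
    have ih := derivedSeries_pts_eq_bot n D e T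
    let f : (T ⟶ D) →* (T ⟶ G) := MonoidHom.mk' (fun d => d ≫ i) fun x y => MonObj.mul_comp x y i
    have key : ∀ m, derivedSeries (T ⟶ G) (m + 1) ≤ (derivedSeries (T ⟶ D) m).map f := by
      intro m
      induction m with
      | zero =>
        rw [derivedSeries_one, derivedSeries_zero, commutator_def, Subgroup.commutator_le]
        intro u _ v _
        obtain ⟨d, hd⟩ := hcomm T u v
        exact ⟨d, trivial, hd⟩
      | succ m ihm =>
        rw [derivedSeries_succ, derivedSeries_succ (T ⟶ D), Subgroup.map_commutator]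
        exact Subgroup.commutator_mono ihm ihm
    refine le_bot_iff.1 ((key n).trans ?_)
    rw [ih, Subgroup.map_bot]

theorem isSolvableGrp_of_pts {G : Over (Spec (CommRingCat.of k))} [GrpObj G] [Smooth G.hom] [ConnectedSpace G.left]
    {n : ℕ} (h : derivedSeries (𝟙_ (Over (Spec (CommRingCat.of k))) ⟶ G) n = ⊥) : Red.IsSolvableGrp G :=
  ⟨n, derivedSeries_pts_eq_bot n G h⟩

/-- The image of a smooth connected group under a finite homomorphism. -/
theorem exists_image {A H : Over (Spec (CommRingCat.of k))} [GrpObj A] [GrpObj H] [LocallyOfFiniteType H.hom]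
    [Smooth A.hom] [ConnectedSpace A.left] (f : A ⟶ H) [IsMonHom f] (hfin : IsFinite f.left) :
    ∃ (U : Over (Spec (CommRingCat.of k))) (_ : GrpObj U) (i : U ⟶ H) (q : A ⟶ U),
      IsMonHom i ∧ IsClosedImmersion i.left ∧ Smooth U.hom ∧ ConnectedSpace U.left ∧ IsMonHom q ∧ q ≫ i = f ∧
      IsFinite q.left ∧ Surjective q.left := by
  haveI := GrpSchLib.irreducibleSpace_of_connectedSpace (G := A)
  haveI := GrpSchLib.compactSpace_of_irreducibleSpace (G := A)
  haveI : QuasiCompact A.hom := (quasiCompact_iff_compactSpace A.hom).2 inferInstance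
  haveI : GeometricallyReduced A.hom := AVLib.geometricallyReduced_of_smooth A.hom
  obtain ⟨U, hU, i, hi, hci, -, hgr, hr, hfac, -, -⟩ :=
    exists_generated (X := fun _ : PUnit.{1} => A) (fun _ : PUnit.{1} => f)
  letI := hU
  haveI := hi
  haveI := hci
  haveI := hgr
  haveI : Mono i := Over.mono_of_mono_left i
  haveI : LocallyOfFiniteType U.hom := by rw [← Over.w i]; infer_instance
  haveI : JacobsonSpace U.left := LocallyOfFiniteType.jacobsonSpace U.hom
  obtain ⟨q, hq⟩ := hfac PUnit.unit
  haveI : IsMonHom q :=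
    ⟨by rw [← cancel_mono i, Category.assoc, hq, IsMonHom.one_hom f, IsMonHom.one_hom i],
      by rw [← cancel_mono i, Category.assoc, hq, IsMonHom.mul_hom f, Category.assoc, IsMonHom.mul_hom i,
        MonoidalCategory.tensorHom_comp_tensorHom_assoc, hq]⟩
  haveI : IsFinite q.left := by
    haveI : IsFinite (q.left ≫ i.left) := by rw [← Over.comp_left, hq]; exact hfin
    exact IsFinite.of_comp q.left i.left
  haveI : Surjective q.left := by
    refine ⟨fun z => ?_⟩
    have hcl : IsClosed (Set.range q.left) := q.left.isClosedMap.isClosed_range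
    refine hcl.closure_subset_iff.2 ?_ (closure_closedPoints (X := U.left) ▸ Set.mem_univ z)
    intro w hw
    obtain ⟨t, rfl⟩ := exists_pt (P := U) hw
    have h1 : (t ≫ i).left base₀ ∈ closure (wordSet fun _ : PUnit.{1} => f) := by
      rw [← hr]; exact ⟨t.left base₀, rfl⟩
    have h2 : t ≫ i ∈ (ptsHom f).range := by
      refine Subgroup.closure_le _ |>.2 ?_ (pts_closure_wordSet (fun _ : PUnit.{1} => f) (fun _ => η[A])
        (fun _ => by rw [IsMonHom.one_hom f, Hom.one_def, toUnit_unit, Category.id_comp]) (t ≫ i) h1)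
      rintro _ ⟨-, ⟨-, rfl⟩, a, rfl⟩
      exact ⟨a, rfl⟩
    obtain ⟨a, ha⟩ := h2
    refine ⟨a.left base₀, ?_⟩
    have : a ≫ q = t := by rw [← cancel_mono i, Category.assoc, hq]; exact ha
    rw [← this]; rfl
  refine ⟨U, hU, i, q, hi, hci, @smooth_of_grpObj _ _ _ U.hom ‹LocallyOfFiniteType U.hom› hU hgr, ?_,
    ‹_›, hq, ‹_›, ‹_›⟩
  exact q.left.surjective.connectedSpace q.left.continuous

/-- The smooth connected preimage of a smooth connected subgroup under a finite surjective homomorphism. -/
theorem exists_preimage {G H W : Over (Spec (CommRingCat.of k))} [GrpObj G] [GrpObj H] [GrpObj W]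
    [LocallyOfFiniteType G.hom] [QuasiCompact G.hom] [LocallyOfFiniteType H.hom] (f : G ⟶ H) [IsMonHom f] [IsFinite f.left] [Surjective f.left]
    (j : W ⟶ H) [IsMonHom j] [IsClosedImmersion j.left] [ConnectedSpace W.left] :
    ∃ (U : Over (Spec (CommRingCat.of k))) (_ : GrpObj U) (i : U ⟶ G) (q : U ⟶ W),
      IsMonHom i ∧ IsClosedImmersion i.left ∧ Smooth U.hom ∧ ConnectedSpace U.left ∧ IsMonHom q ∧
      q ≫ j = i ≫ f ∧ IsFinite q.left ∧ Surjective q.left := by
  haveI : Mono j := Over.mono_of_mono_left j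
  let P := pullback f j
  let n₀ : P ⟶ G := pullback.fst f j
  let p : P ⟶ W := pullback.snd f j
  have hnp : n₀ ≫ f = p ≫ j := pullback.condition
  have sq := GrpQuotLib.isPullback_left (IsPullback.of_hasPullback f j)
  haveI : IsClosedImmersion n₀.left := MorphismProperty.of_isPullback sq.flip ‹IsClosedImmersion j.left›
  haveI : IsFinite p.left := MorphismProperty.of_isPullback sq ‹IsFinite f.left›
  haveI : Surjective p.left := MorphismProperty.of_isPullback sq ‹Surjective f.left›
  haveI : Mono n₀ := Over.mono_of_mono_left n₀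
  obtain ⟨hP, hn₀⟩ := exists_grpObj_of_closed n₀
    (fun {T} x y => ⟨pullback.lift ((x ≫ n₀) * (y ≫ n₀)) ((x ≫ p) * (y ≫ p)) (by
      simp only [MonObj.mul_comp, Category.assoc, hnp]), pullback.lift_fst _ _ _⟩)
    (fun {T} x => ⟨pullback.lift (x ≫ n₀)⁻¹ (x ≫ p)⁻¹ (by
      simp only [GrpObj.inv_comp, Category.assoc, hnp]), pullback.lift_fst _ _ _⟩)
    ⟨pullback.lift 1 1 (by rw [MonObj.one_comp, MonObj.one_comp]), pullback.lift_fst _ _ _⟩
  letI := hP
  haveI := hn₀
  haveI : IsMonHom p :=
    ⟨by rw [← cancel_mono j, Category.assoc, ← hnp, ← Category.assoc, IsMonHom.one_hom n₀, IsMonHom.one_hom f,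
        IsMonHom.one_hom j],
      by rw [← cancel_mono j, Category.assoc, ← hnp, ← Category.assoc, IsMonHom.mul_hom n₀, Category.assoc,
        IsMonHom.mul_hom f, MonoidalCategory.tensorHom_comp_tensorHom_assoc, hnp, Category.assoc, IsMonHom.mul_hom j,
        MonoidalCategory.tensorHom_comp_tensorHom_assoc]⟩
  haveI : LocallyOfFiniteType P.hom := by rw [← Over.w n₀]; infer_instance
  haveI : QuasiCompact P.hom := by rw [← Over.w n₀]; infer_instance
  let ι₀ : GrpSchLib.idObj P ⟶ P := GrpSchLib.idIncl P
  haveI : IsReduced (GrpSchLib.idObj P).left :=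
    DVRCrit.isReduced_vanishingIdeal (X := P.left) ⟨GrpSchLib.idComp P, isClosed_irreducibleComponent⟩
  haveI : GeometricallyReduced (GrpSchLib.idObj P).hom := AVLib.geometricallyReduced_of_perfect _
  obtain ⟨U, hU, e, he, hce, -, hgr, hr, hfac, -, -⟩ :=
    exists_generated (X := fun _ : PUnit.{1} => GrpSchLib.idObj P) (fun _ : PUnit.{1} => ι₀)
  letI := hU
  haveI := he
  haveI := hce
  haveI := hgr
  haveI : LocallyOfFiniteType U.hom := by rw [← Over.w e]; infer_instance
  have hsub : GrpSchLib.idComp P ⊆ Set.range e.left := by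
    obtain ⟨q₀, hq₀⟩ := hfac PUnit.unit
    rw [← GrpSchLib.range_idIncl]
    rintro _ ⟨z, rfl⟩
    exact ⟨q₀.left z, by rw [← Scheme.Hom.comp_apply, ← Over.comp_left, hq₀]⟩
  haveI : IsReduced (𝟙_ (Over (Spec (CommRingCat.of k)))).left := inferInstanceAs (IsReduced (Spec (CommRingCat.of k)))
  obtain ⟨x₀, hx₀⟩ := exists_lift_of_range ι₀ η[P] (by
    rw [GrpSchLib.range_idIncl]
    rintro _ ⟨z, rfl⟩
    rw [show η[P].left z = GrpSchLib.unitPt P from GrpSchLib.range_unit.le ⟨z, rfl⟩]
    exact mem_irreducibleComponent)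
  haveI : ConnectedSpace (GrpSchLib.idObj P).left := inferInstance
  haveI := geometricallyConnected_of_rational x₀
  haveI : ConnectedSpace U.left := by
    have h := (isConnected_wordSet (fun _ : PUnit.{1} => ι₀) (fun _ => x₀) fun _ => hx₀).closure
    rw [← hr, ← Set.image_univ] at h
    rw [connectedSpace_iff_univ]
    exact ⟨⟨η[U].left base₀, trivial⟩, e.left.isClosedEmbedding.isInducing.isPreconnected_image.1 h.isPreconnected⟩
  haveI : IsClosedImmersion (e ≫ n₀).left := by rw [Over.comp_left]; infer_instance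
  haveI : IsFinite (e ≫ p).left := by rw [Over.comp_left]; infer_instance
  haveI : LocallyOfFiniteType W.hom := by
    rw [← Over.w j]; infer_instance
  haveI := GrpSchLib.irreducibleSpace_of_connectedSpace (G := W)
  haveI : Surjective (e ≫ p).left := by
    obtain ⟨F, hF, hFc⟩ := exists_reps (A := P)
    haveI : JacobsonSpace W.left := LocallyOfFiniteType.jacobsonSpace W.hom
    let R : Set W.left := Set.range (e ≫ p).left
    have hR : IsClosed R := (e ≫ p).left.isClosedMap.isClosed_range
    let θ := fun r : 𝟙_ (Over (Spec (CommRingCat.of k))) ⟶ P => leftT (r ≫ p)⁻¹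
    have hθ : ∀ (y x : 𝟙_ (Over (Spec (CommRingCat.of k))) ⟶ W),
        (leftT y).left (x.left base₀) = (y * x).left base₀ := fun y x => by
      rw [← Scheme.Hom.comp_apply, ← Over.comp_left, comp_leftT, toUnit_unit, Category.id_comp]
    have hcov : (Set.univ : Set W.left) ⊆ ⋃ r ∈ F, (θ r).left ⁻¹' R := by
      rw [← closure_closedPoints (X := W.left)]
      refine closure_minimal ?_ ?_
      · intro w hw
        obtain ⟨t, rfl⟩ := exists_pt (P := W) hw
        obtain ⟨x, hx⟩ := exists_pt_lift p t (p.left.surjective _)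
        obtain ⟨r, hr, hrx⟩ := hFc x
        refine Set.mem_biUnion hr ?_
        show (leftT (r ≫ p)⁻¹).left (t.left base₀) ∈ R
        obtain ⟨u, hu⟩ := hsub hrx
        refine ⟨u, ?_⟩
        rw [hθ, ← hx, ← GrpObj.inv_comp, ← MonObj.mul_comp, Over.comp_left, Over.comp_left,
          Scheme.Hom.comp_apply, Scheme.Hom.comp_apply, hu]
      · exact hF.isClosed_biUnion fun r _ => hR.preimage (θ r).left.continuous
    obtain ⟨r, -, hr⟩ := Set.mem_iUnion₂.1 (hcov (Set.mem_univ (genericPoint W.left)))
    refine ⟨fun z => ?_⟩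
    obtain ⟨z', hz'⟩ : ∃ z', (θ r).left z' = z := by
      refine ⟨(leftT (r ≫ p)).left z, ?_⟩
      have e : leftT (r ≫ p) ≫ θ r = 𝟙 W := by
        rw [← Category.id_comp (leftT (r ≫ p)), comp_leftT, comp_leftT, GrpObj.comp_inv, inv_mul_cancel_left]
      rw [← Scheme.Hom.comp_apply, ← Over.comp_left, e, Over.id_left]; rfl
    exact hz' ▸ (((genericPoint_spec W.left).specializes (Set.mem_univ z')).mem_closed
      (hR.preimage (θ r).left.continuous) hr)
  refine ⟨U, hU, e ≫ n₀, e ≫ p, inferInstance, ‹_›, @smooth_of_grpObj _ _ _ U.hom ‹LocallyOfFiniteType U.hom› hU hgr,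
    ‹_›, inferInstance, by rw [Category.assoc, Category.assoc, hnp], ‹_›, ‹_›⟩

/-- Solvability passes to images under finite surjective homomorphisms. -/
theorem isSolvableGrp_of_surjective {U W : Over (Spec (CommRingCat.of k))} [GrpObj U] [GrpObj W] [Smooth W.hom]
    [ConnectedSpace W.left] [LocallyOfFiniteType U.hom] (q : U ⟶ W) [IsMonHom q] [Surjective q.left]
    (h : Red.IsSolvableGrp U) : Red.IsSolvableGrp W := by
  obtain ⟨n, hn⟩ := h
  refine isSolvableGrp_of_pts (n := n) ?_
  rw [← map_derivedSeries_eq (f := ptsHom q) fun w => exists_pt_lift q w (q.left.surjective _), hn,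
    Subgroup.map_bot]

/-- A smooth connected group finite over a solvable group is solvable. -/
theorem isSolvableGrp_of_finite {U W : Over (Spec (CommRingCat.of k))} [GrpObj U] [GrpObj W] [Smooth U.hom]
    [ConnectedSpace U.left] (q : U ⟶ W) [IsMonHom q] [IsFinite q.left]
    (h : Red.IsSolvableGrp W) : Red.IsSolvableGrp U := by
  obtain ⟨n, hn⟩ := h
  haveI : LocallyOfFiniteType U.hom := inferInstance
  refine isSolvableGrp_of_pts (n := n) (derivedSeries_eq_bot_of_finite n U ?_)
  refine Set.Finite.of_finite_image (f := fun x : 𝟙_ (Over (Spec (CommRingCat.of k))) ⟶ U => x.left base₀)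
    ((IsFinite.finite_preimage_singleton q.left (GrpSchLib.unitPt W)).subset ?_)
    (fun x _ y _ e => pt_ext e)
  rintro _ ⟨x, hx, rfl⟩
  have : ptsHom q x ∈ derivedSeries (𝟙_ (Over (Spec (CommRingCat.of k))) ⟶ W) n :=
    map_derivedSeries_le_derivedSeries (ptsHom q) n ⟨x, hx, rfl⟩
  rw [hn, Subgroup.mem_bot] at this
  show q.left (x.left base₀) = _
  rw [← Scheme.Hom.comp_apply, ← Over.comp_left, show x ≫ q = 1 from this, GrpSchLib.one_apply]

/-- Solvable subgroups of dimension at least `d` along a finite surjective homomorphism, forward direction. -/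
theorem exists_solvable_image {A H : Over (Spec (CommRingCat.of k))} [GrpObj A] [GrpObj H]
    [LocallyOfFiniteType H.hom] (f : A ⟶ H) [IsMonHom f] (hfin : IsFinite f.left) [Smooth A.hom]
    [ConnectedSpace A.left] (hs : Red.IsSolvableGrp A) :
    ∃ (U : Over (Spec (CommRingCat.of k))) (_ : GrpObj U) (i : U ⟶ H), IsMonHom i ∧ IsClosedImmersion i.left ∧
      Smooth U.hom ∧ ConnectedSpace U.left ∧ Red.IsSolvableGrp U ∧ (IsAffine A.left → IsAffine U.left) ∧
      topologicalKrullDim U.left = topologicalKrullDim A.left := by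
  obtain ⟨U, hU, i, q, hi, hci, hUs, hUc, hq, -, hqf, hqs⟩ := exists_image f hfin
  letI := hU
  haveI := hq
  haveI := hqf
  haveI := hqs
  haveI := hUc
  haveI : LocallyOfFiniteType U.hom := inferInstance
  haveI := GrpSchLib.irreducibleSpace_of_connectedSpace (G := U)
  haveI := GrpSchLib.compactSpace_of_irreducibleSpace (G := U)
  haveI := GrpSchLib.irreducibleSpace_of_connectedSpace (G := A)
  haveI := GrpSchLib.quasiSeparatedSpace (G := U)
  haveI : IsLocallyNoetherian U.left := LocallyOfFiniteType.isLocallyNoetherian U.hom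
  refine ⟨U, hU, i, hi, hci, hUs, hUc, isSolvableGrp_of_surjective q hs, fun _ => ?_,
    (topologicalKrullDim_eq_of_finite_surjective q.left).symm⟩
  exact ChevAffine.isAffine_of_finite_surjective q.left

/-- Solvable subgroups of dimension at least `d` along a finite surjective homomorphism, backward direction. -/
theorem exists_solvable_preimage {G H W : Over (Spec (CommRingCat.of k))} [GrpObj G] [GrpObj H] [GrpObj W]
    [LocallyOfFiniteType G.hom] [QuasiCompact G.hom] [LocallyOfFiniteType H.hom] (f : G ⟶ H) [IsMonHom f]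
    [IsFinite f.left] [Surjective f.left] (j : W ⟶ H) [IsMonHom j] [IsClosedImmersion j.left] [ConnectedSpace W.left]
    (hs : Red.IsSolvableGrp W) :
    ∃ (U : Over (Spec (CommRingCat.of k))) (_ : GrpObj U) (i : U ⟶ G), IsMonHom i ∧ IsClosedImmersion i.left ∧
      Smooth U.hom ∧ ConnectedSpace U.left ∧ Red.IsSolvableGrp U ∧ (IsAffine W.left → IsAffine U.left) ∧
      topologicalKrullDim U.left = topologicalKrullDim W.left := by
  obtain ⟨U, hU, i, q, hi, hci, hUs, hUc, hq, -, hqf, hqs⟩ := exists_preimage f j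
  letI := hU
  haveI := hq
  haveI := hqf
  haveI := hqs
  haveI := hUc
  haveI : LocallyOfFiniteType W.hom := by rw [← Over.w j]; infer_instance
  haveI := GrpSchLib.irreducibleSpace_of_connectedSpace (G := U)
  haveI := GrpSchLib.irreducibleSpace_of_connectedSpace (G := W)
  haveI : IsLocallyNoetherian W.left := LocallyOfFiniteType.isLocallyNoetherian W.hom
  exact ⟨U, hU, i, hi, hci, hUs, hUc, isSolvableGrp_of_finite q hs, fun _ => isAffine_of_isAffineHom q.left,
    topologicalKrullDim_eq_of_finite_surjective q.left⟩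

end Groth.Agent.GenSubLib
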