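import Groth.Agent.GenSubLib.Torus
import Groth.Prelude.Def_AGF

/-!
# Nilpotence and finite surjective homomorphisms; series of points and field extensions
-/

set_option autoImplicit false
set_option backward.isDefEq.respectTransparency false
set_option backward.isDefEq.respectTransparency.types false
set_option linter.style.haveILetI false
set_option linter.unusedSectionVars false

universe u

open CategoryTheory CategoryTheory.Limits MonoidalCategory CartesianMonoidalCategory MonObj AlgebraicGeometry
open scoped commutatorElement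

noncomputable section

namespace Groth.Agent.GenSubLib

variable {k : Type u} [Field k]

/-- Base change of points. -/
def bcPts {K : Type u} [Field K] [Algebra k K] (G : Over (Spec (CommRingCat.of k))) [GrpObj G]
    (T : Over (Spec (CommRingCat.of k))) :
    (T ⟶ G) →* (Red.bc (Spec.map (CommRingCat.ofHom (algebraMap k K))) T ⟶
      Red.bc (Spec.map (CommRingCat.ofHom (algebraMap k K))) G) where
  toFun a := (Over.pullback (Spec.map (CommRingCat.ofHom (algebraMap k K)))).map a
  map_one' := Functor.map_one _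
  map_mul' a b := Functor.map_mul _ a b

theorem bcPts_injective {K : Type u} [Field K] [Algebra k K] (G : Over (Spec (CommRingCat.of k))) [GrpObj G]
    (T : Over (Spec (CommRingCat.of k))) : Function.Injective (bcPts (K := K) G T) := by
  intro a b h
  let σ := Spec.map (CommRingCat.ofHom (algebraMap k K))
  haveI : Surjective σ := ⟨fun x => ⟨IsLocalRing.closedPoint K, Subsingleton.elim (α := PrimeSpectrum k) _ _⟩⟩
  haveI : Flat σ := by
    rw [HasRingHomProperty.Spec_iff (P := @Flat)]
    exact RingHom.flat_algebraMap_iff.2 inferInstance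
  haveI : Epi (pullback.fst T.hom σ) := Flat.epi_of_flat_of_surjective _
  apply Over.OverMorphism.ext
  rw [← cancel_epi (pullback.fst T.hom σ)]
  have e := congrArg (fun m : Red.bc σ T ⟶ Red.bc σ G => m.left ≫ pullback.fst G.hom σ) h
  simpa [bcPts, σ] using e

/-- Points of a base change are points over the base. -/
def adjPts {K : Type u} [Field K] [Algebra k K] (G : Over (Spec (CommRingCat.of k))) [GrpObj G]
    (T : Over (Spec (CommRingCat.of K))) :
    ((Over.map (Spec.map (CommRingCat.ofHom (algebraMap k K)))).obj T ⟶ G) ≃*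
      (T ⟶ Red.bc (Spec.map (CommRingCat.ofHom (algebraMap k K))) G) where
  toEquiv := (Over.mapPullbackAdj (Spec.map (CommRingCat.ofHom (algebraMap k K)))).homEquiv T G
  map_mul' a b := by
    show (Over.mapPullbackAdj _).homEquiv _ _ (a * b) = _
    rw [Adjunction.homEquiv_unit, Functor.map_mul, MonObj.comp_mul]
    rfl

theorem isSolvableGrp_bc_iff (K : Type u) [Field K] [Algebra k K] (G : Over (Spec (CommRingCat.of k))) [GrpObj G] :
    Red.IsSolvableGrp (Red.bc (Spec.map (CommRingCat.ofHom (algebraMap k K))) G) ↔ Red.IsSolvableGrp G := by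
  constructor
  · rintro ⟨n, hn⟩
    refine ⟨n, fun T => (Subgroup.map_eq_bot_iff_of_injective _ (bcPts_injective (K := K) G T)).1 ?_⟩
    exact le_bot_iff.1 ((map_derivedSeries_le_derivedSeries (bcPts (K := K) G T) n).trans (hn _).le)
  · rintro ⟨n, hn⟩
    refine ⟨n, fun T => ?_⟩
    rw [← map_derivedSeries_eq (f := (adjPts (K := K) G T).toMonoidHom) (adjPts (K := K) G T).surjective, hn,
      Subgroup.map_bot]

theorem isNilpotentGrp_iff {S : Scheme.{u}} (G : Over S) [GrpObj G] :
    AGF.IsNilpotentGrp G ↔ ∃ n : ℕ, ∀ X : Over S, (⊤ : Subgroup (X ⟶ G)).lowerCentralSeries n = ⊥ :=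
  exists_congr fun _ => forall_congr' fun _ => Subgroup.lowerCentralSeries_eq_bot_iff_upperCentralSeries_eq_top.symm

theorem isNilpotentGrp_bc_iff (K : Type u) [Field K] [Algebra k K] (G : Over (Spec (CommRingCat.of k))) [GrpObj G] :
    AGF.IsNilpotentGrp (Red.bc (Spec.map (CommRingCat.ofHom (algebraMap k K))) G) ↔ AGF.IsNilpotentGrp G := by
  rw [isNilpotentGrp_iff, isNilpotentGrp_iff]
  constructor
  · rintro ⟨n, hn⟩
    refine ⟨n, fun T => (Subgroup.map_eq_bot_iff_of_injective _ (bcPts_injective (K := K) G T)).1 ?_⟩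
    rw [Subgroup.map_lowerCentralSeries]
    exact le_bot_iff.1 ((Subgroup.lowerCentralSeries_mono n le_top).trans (hn _).le)
  · rintro ⟨n, hn⟩
    refine ⟨n, fun T => ?_⟩
    rw [← Subgroup.map_top_of_surjective (adjPts (K := K) G T).toMonoidHom (adjPts (K := K) G T).surjective,
      ← Subgroup.map_lowerCentralSeries, hn, Subgroup.map_bot]

theorem isCommMonObj_iff {S : Scheme.{u}} (G : Over S) [GrpObj G] :
    IsCommMonObj G ↔ ∀ (T : Over S) (a b : T ⟶ G), a * b = b * a := by
  constructor
  · intro h T a b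
    exact mul_comm a b
  · intro h
    refine ⟨?_⟩
    have hμ : μ[G] = fst G G * snd G G := by rw [Hom.mul_def, lift_fst_snd, Category.id_comp]
    rw [hμ, MonObj.comp_mul, braiding_hom_fst, braiding_hom_snd]
    exact h _ _ _

theorem isCommMonObj_bc_iff (K : Type u) [Field K] [Algebra k K] (G : Over (Spec (CommRingCat.of k))) [GrpObj G] :
    IsCommMonObj (Red.bc (Spec.map (CommRingCat.ofHom (algebraMap k K))) G) ↔ IsCommMonObj G := by
  rw [isCommMonObj_iff, isCommMonObj_iff]
  constructor
  · intro h T a b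
    exact bcPts_injective (K := K) G T (by rw [map_mul, map_mul, h])
  · intro h T a b
    obtain ⟨a, rfl⟩ := (adjPts (K := K) G T).surjective a
    obtain ⟨b, rfl⟩ := (adjPts (K := K) G T).surjective b
    rw [← map_mul, ← map_mul, h]

variable [IsAlgClosed k]

/-- The lower central series as subgroup schemes. -/
theorem exists_lcs (G : Over (Spec (CommRingCat.of k))) [GrpObj G] [Smooth G.hom] [ConnectedSpace G.left] :
    ∀ n : ℕ, ∃ (C : Over (Spec (CommRingCat.of k))) (_ : GrpObj C) (i : C ⟶ G) (_ : IsMonHom i),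
      IsClosedImmersion i.left ∧ Smooth C.hom ∧ ConnectedSpace C.left ∧
      (ptsHom i).range = (⊤ : Subgroup (𝟙_ (Over (Spec (CommRingCat.of k))) ⟶ G)).lowerCentralSeries n ∧
      ∀ (T : Over (Spec (CommRingCat.of k))), ∀ g ∈ (⊤ : Subgroup (T ⟶ G)).lowerCentralSeries n,
        ∃ c : T ⟶ C, c ≫ i = g
  | 0 => ⟨G, inferInstance, 𝟙 G, inferInstance, inferInstanceAs (IsClosedImmersion (𝟙 G.left)), ‹_›, ‹_›,
      MonoidHom.range_eq_top.2 fun g => ⟨g, Category.comp_id g⟩, fun _ g _ => ⟨g, Category.comp_id g⟩⟩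
  | n + 1 => by
    obtain ⟨C, hC, a, ha, hca, hCs, hCc, hrange, hT⟩ := exists_lcs G n
    letI := hC
    haveI := ha
    haveI := hca
    haveI := hCs
    haveI := hCc
    haveI := GrpSchLib.irreducibleSpace_of_connectedSpace (G := G)
    haveI := GrpSchLib.compactSpace_of_irreducibleSpace (G := G)
    haveI : QuasiCompact G.hom := (quasiCompact_iff_compactSpace G.hom).2 inferInstance
    haveI : GeometricallyReduced G.hom := AVLib.geometricallyReduced_of_smooth G.hom
    haveI : GeometricallyReduced C.hom := AVLib.geometricallyReduced_of_smooth C.hom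
    haveI := geometricallyReduced_tensor C G
    haveI : IsClosedImmersion (𝟙 G : G ⟶ G).left := inferInstanceAs (IsClosedImmersion (𝟙 G.left))
    obtain ⟨D, hD, i, hi, hci, -, hgr, -, hfac, -, hmin⟩ :=
      exists_generated (X := fun _ : PUnit.{1} => C ⊗ G) (fun _ : PUnit.{1} => commMap a (𝟙 G))
    letI := hD
    haveI := hi
    haveI := hci
    haveI := hgr
    haveI : LocallyOfFiniteType D.hom := by rw [← Over.w i]; infer_instance
    have hmin' := fun Γ' h' i' h1 h2 h3 => hmin Γ' h' i' h1 h2 fun _ : PUnit.{1} => h3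
    refine ⟨D, hD, i, hi, hci, @smooth_of_grpObj _ _ _ D.hom ‹LocallyOfFiniteType D.hom› hD hgr,
      (commutator_props a (𝟙 G) D i (hfac PUnit.unit) hmin' (Or.inr ‹_›)).2 ‹_›, ?_, fun T g hg => ?_⟩
    · apply SetLike.coe_injective
      rw [MonoidHom.coe_range]
      show Set.range (fun z : 𝟙_ (Over (Spec (CommRingCat.of k))) ⟶ D => z ≫ i) = _
      rw [range_pts_of_min a (𝟙 G) (Or.inr ‹_›) D i (hfac PUnit.unit) hmin', Subgroup.lowerCentralSeries_succ, ← hrange,
        show Subgroup.closure (Set.range (fun x : 𝟙_ (Over (Spec (CommRingCat.of k))) ⟶ C => x ≫ a)) = (ptsHom a).range from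
          (congrArg Subgroup.closure (MonoidHom.coe_range (ptsHom a)).symm).trans (Subgroup.closure_eq _)]
      simp only [Category.comp_id, Set.range_id', Subgroup.closure_univ]
    · obtain ⟨c, hc⟩ := hfac PUnit.unit
      let f : (T ⟶ D) →* (T ⟶ G) := MonoidHom.mk' (fun d => d ≫ i) fun x y => MonObj.mul_comp x y i
      suffices h : (⊤ : Subgroup (T ⟶ G)).lowerCentralSeries (n + 1) ≤ f.range from h hg
      rw [Subgroup.lowerCentralSeries_succ, Subgroup.commutator_le]
      intro u hu v _
      obtain ⟨u', rfl⟩ := hT T u hu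
      refine ⟨lift u' v ≫ c, ?_⟩
      show (lift u' v ≫ c) ≫ i = _
      rw [Category.assoc, hc]
      simp only [commMap, commutatorElement_def, MonObj.comp_mul, GrpObj.comp_inv, Category.comp_id, ← Category.assoc,
        lift_fst, lift_snd]

/-- Nilpotence of a smooth connected group is tested on rational points, up to finite subgroups. -/
theorem isNilpotentGrp_of_finite {G : Over (Spec (CommRingCat.of k))} [GrpObj G] [Smooth G.hom] [ConnectedSpace G.left]
    {n : ℕ} (h : (((⊤ : Subgroup (𝟙_ (Over (Spec (CommRingCat.of k))) ⟶ G)).lowerCentralSeries n : Subgroup _) :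
      Set (𝟙_ (Over (Spec (CommRingCat.of k))) ⟶ G)).Finite) : AGF.IsNilpotentGrp G := by
  obtain ⟨C, hC, a, ha, hca, hCs, hCc, hrange, hT⟩ := exists_lcs G n
  letI := hC
  haveI := ha
  haveI := hca
  haveI := hCs
  haveI := hCc
  haveI : Mono a := Over.mono_of_mono_left a
  haveI := isIso_unit_of_finite_pts (G := C) (by
    rw [← hrange, MonoidHom.coe_range] at h
    exact Set.finite_univ_iff.1 (Set.Finite.of_finite_image (f := fun x : 𝟙_ (Over (Spec (CommRingCat.of k))) ⟶ C => x ≫ a)
      (h.subset fun _ ⟨x, _, hx⟩ => ⟨x, hx⟩) fun x _ y _ e => (cancel_mono a).1 e))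
  refine (isNilpotentGrp_iff G).2 ⟨n, fun T => (Subgroup.eq_bot_iff_forall _).2 fun g hg => ?_⟩
  obtain ⟨c, rfl⟩ := hT T g hg
  rw [eq_one_of_isIso_unit c, MonObj.one_comp]

theorem isNilpotentGrp_iff_of_finite_surjective {U W : Over (Spec (CommRingCat.of k))} [GrpObj U] [GrpObj W]
    [Smooth U.hom] [ConnectedSpace U.left] [Smooth W.hom] [ConnectedSpace W.left] (q : U ⟶ W) [IsMonHom q]
    [IsFinite q.left] [Surjective q.left] : AGF.IsNilpotentGrp U ↔ AGF.IsNilpotentGrp W := by
  haveI : LocallyOfFiniteType U.hom := inferInstance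
  constructor
  · intro h
    obtain ⟨n, hn⟩ := (isNilpotentGrp_iff U).1 h
    refine isNilpotentGrp_of_finite (n := n) ?_
    rw [← Subgroup.map_top_of_surjective (ptsHom q) (fun w => exists_pt_lift q w (q.left.surjective _)),
      ← Subgroup.map_lowerCentralSeries, hn, Subgroup.map_bot, Subgroup.coe_bot]
    exact Set.finite_singleton _
  · intro h
    obtain ⟨n, hn⟩ := (isNilpotentGrp_iff W).1 h
    refine isNilpotentGrp_of_finite (n := n) ?_
    refine Set.Finite.of_finite_image (f := fun x : 𝟙_ (Over (Spec (CommRingCat.of k))) ⟶ U => x.left base₀)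
      ((IsFinite.finite_preimage_singleton q.left (GrpSchLib.unitPt W)).subset ?_) (fun x _ y _ e => pt_ext e)
    rintro _ ⟨x, hx, rfl⟩
    have : ptsHom q x ∈ (⊤ : Subgroup (𝟙_ (Over (Spec (CommRingCat.of k))) ⟶ W)).lowerCentralSeries n :=
      Subgroup.lowerCentralSeries_mono n le_top ((Subgroup.map_lowerCentralSeries ⊤ (ptsHom q) n).le ⟨x, hx, rfl⟩)
    rw [hn, Subgroup.mem_bot] at this
    show q.left (x.left base₀) = _
    rw [← Scheme.Hom.comp_apply, ← Over.comp_left, show x ≫ q = 1 from this, GrpSchLib.one_apply]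

theorem isCommMonObj_iff_of_finite_surjective {U W : Over (Spec (CommRingCat.of k))} [GrpObj U] [GrpObj W]
    [Smooth U.hom] [ConnectedSpace U.left] [Smooth W.hom] [ConnectedSpace W.left] (q : U ⟶ W) [IsMonHom q]
    [IsFinite q.left] [Surjective q.left] : IsCommMonObj U ↔ IsCommMonObj W := by
  haveI : LocallyOfFiniteType U.hom := inferInstance
  have key : ∀ {P : Over (Spec (CommRingCat.of k))} [GrpObj P], IsCommMonObj P →
      ∀ T : Over (Spec (CommRingCat.of k)), derivedSeries (T ⟶ P) 1 = ⊥ := fun {P} _ h T => by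
    rw [derivedSeries_one, commutator_def, Subgroup.commutator_eq_bot_iff_le_centralizer]
    intro a _
    exact Subgroup.mem_centralizer_iff.2 fun b _ => (isCommMonObj_iff P).1 h T b a
  constructor
  · intro h
    refine isCommMonObj_of_derivedSeries (derivedSeries_pts_eq_bot 1 W ?_)
    rw [← map_derivedSeries_eq (f := ptsHom q) (fun w => exists_pt_lift q w (q.left.surjective _)), key h,
      Subgroup.map_bot]
  · intro h
    refine isCommMonObj_of_derivedSeries (derivedSeries_pts_eq_bot 1 U (derivedSeries_eq_bot_of_finite 1 U ?_))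
    refine Set.Finite.of_finite_image (f := fun x : 𝟙_ (Over (Spec (CommRingCat.of k))) ⟶ U => x.left base₀)
      ((IsFinite.finite_preimage_singleton q.left (GrpSchLib.unitPt W)).subset ?_) (fun x _ y _ e => pt_ext e)
    rintro _ ⟨x, hx, rfl⟩
    have : ptsHom q x ∈ derivedSeries (𝟙_ (Over (Spec (CommRingCat.of k))) ⟶ W) 1 :=
      map_derivedSeries_le_derivedSeries (ptsHom q) 1 ⟨x, hx, rfl⟩
    rw [key h, Subgroup.mem_bot] at this
    show q.left (x.left base₀) = _
    rw [← Scheme.Hom.comp_apply, ← Over.comp_left, show x ≫ q = 1 from this, GrpSchLib.one_apply]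

end Groth.Agent.GenSubLib
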