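import Groth.Agent.GenSubLib.Apps

/-!
# Factoring a morphism on a product through a closed subscheme, tested on a dense family
-/

set_option autoImplicit false
set_option backward.isDefEq.respectTransparency false
set_option backward.isDefEq.respectTransparency.types false
set_option linter.style.haveILetI false
set_option linter.unusedSectionVars false

universe u v

open CategoryTheory CategoryTheory.Limits MonoidalCategory CartesianMonoidalCategory MonObj AlgebraicGeometry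

noncomputable section

namespace Groth.Agent.GenSubLib

variable {k : Type u} [Field k]

/-- `isIso_of_dense_factor` for products over the base. -/
theorem isIso_of_dense_tensor {Γ T : Over (Spec (CommRingCat.of k))} [IsReduced Γ.left] {J : Type*}
    {Y : J → Over (Spec (CommRingCat.of k))} (q : ∀ j, Y j ⟶ Γ) (hd : Dense (⋃ j, Set.range (q j).left))
    {Z : Scheme.{u}} (c : Z ⟶ (Γ ⊗ T).left) [IsClosedImmersion c]
    (hfac : ∀ j, ∃ m : (Y j ⊗ T).left ⟶ Z, m ≫ c = (q j ▷ T).left) : IsIso c := by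
  let c' : Z ⟶ pullback Γ.hom T.hom := c
  haveI : IsClosedImmersion c' := ‹_›
  refine isIso_of_dense_factor Γ.hom T.hom (fun j => (q j).left) hd c' fun j => ?_
  obtain ⟨m, hm⟩ := hfac j
  let e : pullback ((q j).left ≫ Γ.hom) T.hom ≅ pullback (Y j).hom T.hom := pullback.congrHom (Over.w (q j)) rfl
  refine ⟨e.hom ≫ m, ?_⟩
  show (e.hom ≫ m) ≫ c = _
  rw [Category.assoc, hm]
  apply pullback.hom_ext
  · show (e.hom ≫ (q j ▷ T).left) ≫ (fst Γ T).left = _
    rw [Category.assoc, ← Over.comp_left, whiskerRight_fst, Over.comp_left, pullback.lift_fst]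
    show e.hom ≫ pullback.fst (Y j).hom T.hom ≫ (q j).left = _
    simp [e]
  · show (e.hom ≫ (q j ▷ T).left) ≫ (snd Γ T).left = _
    rw [Category.assoc, ← Over.comp_left, whiskerRight_snd, pullback.lift_snd, Category.comp_id]
    show e.hom ≫ pullback.snd (Y j).hom T.hom = _
    simp [e]

/-- A morphism out of a product lands in a closed subscheme once it does so on a dense family. -/
theorem exists_lift_tensor {Γ T G H : Over (Spec (CommRingCat.of k))} [IsReduced Γ.left] {J : Type*}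
    {Y : J → Over (Spec (CommRingCat.of k))} (q : ∀ j, Y j ⟶ Γ) (hd : Dense (⋃ j, Set.range (q j).left))
    (φ : Γ ⊗ T ⟶ G) (i : H ⟶ G) [IsClosedImmersion i.left]
    (h : ∀ j, ∃ z : Y j ⊗ T ⟶ H, z ≫ i = (q j ▷ T) ≫ φ) : ∃ Φ : Γ ⊗ T ⟶ H, Φ ≫ i = φ := by
  haveI : IsClosedImmersion (pullback.fst φ.left i.left) := MorphismProperty.pullback_fst _ _ ‹_›
  haveI : IsIso (pullback.fst φ.left i.left) := isIso_of_dense_tensor q hd _ fun j => by
    obtain ⟨z, hz⟩ := h j
    exact ⟨pullback.lift (q j ▷ T).left z.left (by rw [← Over.comp_left, ← Over.comp_left, hz]), pullback.lift_fst _ _ _⟩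
  have e : (inv (pullback.fst φ.left i.left) ≫ pullback.snd φ.left i.left) ≫ i.left = φ.left := by
    rw [Category.assoc, ← pullback.condition, IsIso.inv_hom_id_assoc]
  exact ⟨Over.homMk (inv (pullback.fst φ.left i.left) ≫ pullback.snd φ.left i.left)
    (by rw [← Over.w i, ← Category.assoc, e, Over.w φ]), Over.OverMorphism.ext e⟩

variable {G : Over (Spec (CommRingCat.of k))} [GrpObj G]

/-- The subgroup generated by a family stable under conjugation is normal. -/
theorem isNormalHom_of_min {J : Type v} {X : J → Over (Spec (CommRingCat.of k))} (f : ∀ j, X j ⟶ G)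
    [∀ j, GeometricallyReduced (X j).hom] {Γ : Over (Spec (CommRingCat.of k))} [GrpObj Γ]
    (i : Γ ⟶ G) [IsMonHom i] [IsClosedImmersion i.left] (hf : ∀ j, ∃ q : X j ⟶ Γ, q ≫ i = f j)
    (hmin : ∀ (Γ' : Over (Spec (CommRingCat.of k))) (_ : GrpObj Γ') (i' : Γ' ⟶ G), IsMonHom i' →
      IsClosedImmersion i'.left → (∀ j, ∃ q : X j ⟶ Γ', q ≫ i' = f j) → ∃ r : Γ ⟶ Γ', r ≫ i' = i)
    (hconj : ∀ (T : Over (Spec (CommRingCat.of k))) (g : T ⟶ G) (j : J) (x : T ⟶ X j),
      ∃ x' : T ⟶ X j, g * (x ≫ f j) * g⁻¹ = x' ≫ f j) :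
    AlgGrp.IsNormalHom i := by
  obtain ⟨hred, -, -, q, hq, hd⟩ := props_of_min f i hf hmin
  have key : ∀ (l : List (J × Bool)) (T : Over (Spec (CommRingCat.of k))) (g : T ⟶ G) (t : T ⟶ src X l),
      ∃ z : T ⟶ Γ, z ≫ i = g * (t ≫ word f l) * g⁻¹ := by
    intro l T g
    induction l with
    | nil =>
      intro t
      exact ⟨1, by rw [comp_word_nil, MonObj.one_comp, _root_.mul_one, mul_inv_cancel]⟩
    | cons a l ih =>
      intro t
      obtain ⟨z, hz⟩ := ih (t ≫ snd _ _)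
      obtain ⟨x', hx'⟩ := hconj T g a.1 (t ≫ fst _ _)
      obtain ⟨q₀, hq₀⟩ := hf a.1
      have hl : ∃ z₀ : T ⟶ Γ, z₀ ≫ i = g * ((t ≫ fst _ _) ≫ letter f a) * g⁻¹ := by
        unfold letter
        split
        · exact ⟨x' ≫ q₀, by rw [Category.assoc, hq₀, hx']⟩
        · refine ⟨(x' ≫ q₀)⁻¹, ?_⟩
          rw [GrpObj.inv_comp, Category.assoc, hq₀, ← hx', GrpObj.comp_inv]
          group
      obtain ⟨z₀, hz₀⟩ := hl
      refine ⟨z₀ * z, ?_⟩
      rw [MonObj.mul_comp, hz₀, hz, word_cons, MonObj.comp_mul, ← Category.assoc, ← Category.assoc]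
      group
  obtain ⟨Φ, hΦ⟩ := exists_lift_tensor q hd (snd Γ G * (fst Γ G ≫ i) * (snd Γ G)⁻¹) i fun l => by
    obtain ⟨z, hz⟩ := key l _ (snd (src X l) G) (fst (src X l) G)
    refine ⟨z, hz.trans ?_⟩
    rw [MonObj.comp_mul, MonObj.comp_mul, GrpObj.comp_inv, whiskerRight_snd, ← Category.assoc (q l ▷ G),
      whiskerRight_fst, Category.assoc, hq]
  intro T g n
  refine ⟨lift n g ≫ Φ, ?_⟩
  rw [Category.assoc, hΦ, MonObj.comp_mul, MonObj.comp_mul, GrpObj.comp_inv, lift_snd, lift_fst_assoc]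

variable {A B : Over (Spec (CommRingCat.of k))} [GrpObj A] [GrpObj B]

theorem isNormalHom_commutator (a : A ⟶ G) [IsMonHom a] (b : B ⟶ G) [IsMonHom b]
    [GeometricallyReduced A.hom] [GeometricallyReduced B.hom] (hA : AlgGrp.IsNormalHom a) (hB : AlgGrp.IsNormalHom b)
    (f : A ⊗ B ⟶ G) (hfdef : f = (fst A B ≫ a) * (snd A B ≫ b) * (fst A B ≫ a)⁻¹ * (snd A B ≫ b)⁻¹)
    (Γ : Over (Spec (CommRingCat.of k))) [GrpObj Γ] (i : Γ ⟶ G) [IsMonHom i] [IsClosedImmersion i.left]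
    (hf : ∃ f' : A ⊗ B ⟶ Γ, f' ≫ i = f)
    (hmin : ∀ (Γ' : Over (Spec (CommRingCat.of k))) (_ : GrpObj Γ') (i' : Γ' ⟶ G), IsMonHom i' →
      IsClosedImmersion i'.left → (∃ f'' : A ⊗ B ⟶ Γ', f'' ≫ i' = f) → ∃ j : Γ ⟶ Γ', j ≫ i' = i) :
    AlgGrp.IsNormalHom i := by
  haveI : GeometricallyReduced (A ⊗ B).hom := geometricallyReduced_tensor A B
  refine isNormalHom_of_min (fun _ : PUnit.{1} => f) i (fun _ => hf)
    (fun Γ' h' i' h1 h2 h3 => hmin Γ' h' i' h1 h2 (h3 PUnit.unit)) fun T g _ x => ?_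
  obtain ⟨x₁, hx₁⟩ := hA T g (x ≫ fst A B)
  obtain ⟨x₂, hx₂⟩ := hB T g (x ≫ snd A B)
  refine ⟨lift x₁ x₂, ?_⟩
  subst hfdef
  simp only [MonObj.comp_mul, GrpObj.comp_inv, lift_fst_assoc, lift_snd_assoc, ← hx₁, ← hx₂, Category.assoc]
  group

end Groth.Agent.GenSubLib
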