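import Groth.Agent.GenSubLib.Normal
import Groth.Agent.GenSubLib.Conj
import Groth.Agent.DimFormulaLib.Field
import Groth.Agent.MonoFibre.HomFlat
import Groth.Agent.MonoFibre.KernelFibre
import Groth.Agent.GrpQuotLib.FieldQuot
import Groth.Agent.GrpPtsLib.Basic
import Groth.Agent.ASp.PropDescend
import Groth.Agent.FpqcDesc.Stalk
import Mathlib.AlgebraicGeometry.Morphisms.LocalFlatDescent

/-!
# Largest smooth connected normal subgroup with a property stable under extensions and quotients
-/

set_option autoImplicit false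
set_option backward.isDefEq.respectTransparency false
set_option backward.isDefEq.respectTransparency.types false
set_option linter.style.haveILetI false
set_option linter.unusedSectionVars false

universe u

open CategoryTheory CategoryTheory.Limits MonoidalCategory CartesianMonoidalCategory MonObj AlgebraicGeometry

noncomputable section

namespace Groth.Agent.GenSubLib

variable {k : Type u} [Field k] {G : Over (Spec (CommRingCat.of k))} [GrpObj G] [LocallyOfFiniteType G.hom]
  [QuasiCompact G.hom]

/-- A product of two smooth connected normal subgroups. -/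
theorem exists_product {A B : Over (Spec (CommRingCat.of k))} [GrpObj A] [GrpObj B] (a : A ⟶ G) [IsMonHom a]
    [IsClosedImmersion a.left] (b : B ⟶ G) [IsMonHom b] [IsClosedImmersion b.left] [Smooth A.hom] [Smooth B.hom]
    [ConnectedSpace A.left] [ConnectedSpace B.left] (hA : AlgGrp.IsNormalHom a) (hB : AlgGrp.IsNormalHom b) :
    ∃ (M : Over (Spec (CommRingCat.of k))) (_ : GrpObj M) (m : M ⟶ G) (a' : A ⟶ M) (b' : B ⟶ M),
      IsMonHom m ∧ IsClosedImmersion m.left ∧ Smooth M.hom ∧ ConnectedSpace M.left ∧ AlgGrp.IsNormalHom m ∧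
      a' ≫ m = a ∧ b' ≫ m = b ∧
      Set.range m.left = Set.range ((a ⊗ₘ b) ≫ μ[G]).left := by
  haveI : QuasiCompact A.hom := by rw [← Over.w a]; infer_instance
  haveI : QuasiCompact B.hom := by rw [← Over.w b]; infer_instance
  haveI : ∀ j, GeometricallyReduced (pairSrc A B j).hom := by
    rintro ⟨⟩
    · exact AVLib.geometricallyReduced_of_smooth B.hom
    · exact AVLib.geometricallyReduced_of_smooth A.hom
  haveI : ∀ j, GeometricallyConnected (pairSrc A B j).hom := by
    rintro ⟨⟩
    · exact geometricallyConnected_of_rational η[B]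
    · exact geometricallyConnected_of_rational η[A]
  obtain ⟨M, hM, m, hm, hmc, -, hgr, hrange, hf, -, hmin⟩ := exists_generated (pairMap a b)
  letI := hM
  haveI := hm
  haveI := hmc
  haveI := hgr
  obtain ⟨a', ha'⟩ := hf true
  obtain ⟨b', hb'⟩ := hf false
  haveI : LocallyOfFiniteType M.hom := by rw [← Over.w m]; infer_instance
  refine ⟨M, hM, m, a', b', hm, hmc, @smooth_of_grpObj _ _ _ M.hom ‹LocallyOfFiniteType M.hom› hM hgr, ?_, ?_, ha', hb', ?_⟩
  · let x : ∀ j, 𝟙_ (Over (Spec (CommRingCat.of k))) ⟶ pairSrc A B j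
      | true => η[A]
      | false => η[B]
    have h := (isConnected_wordSet (pairMap a b) x (by rintro ⟨⟩; exacts [IsMonHom.one_hom b, IsMonHom.one_hom a])).closure
    rw [← hrange, ← Set.image_univ] at h
    rw [connectedSpace_iff_univ]
    exact ⟨⟨η[M].left (IsLocalRing.closedPoint k), trivial⟩,
      m.left.isClosedEmbedding.isInducing.isPreconnected_image.1 h.isPreconnected⟩
  · refine isNormalHom_of_min (pairMap a b) m hf (fun Γ' h' i' h1 h2 h3 => hmin Γ' h' i' h1 h2 h3) ?_
    intro T g j x
    cases j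
    · exact hB T g x
    · exact hA T g x
  · exact (range_of_min a b (fun T y x => hA T (y ≫ b) x) M m ⟨a', ha'⟩ ⟨b', hb'⟩
      fun Γ' h' i' h1 h2 h3 h4 => hmin Γ' h' i' h1 h2 (by rintro ⟨⟩; exacts [h4, h3])).2

theorem exists_max {I₀ : Type*} (p : I₀ → Prop) (hp : ∃ a, p a) (R : I₀ → Set G.left)
    (hR : ∀ a, p a → IsClosed (R a) ∧ IsIrreducible (R a)) :
    ∃ a, p a ∧ ∀ b, p b → R a ⊆ R b → R b ⊆ R a := by
  classical
  choose g hg using fun (a : {a // p a}) => QuasiSober.sober (hR a.1 a.2).2 (hR a.1 a.2).1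
  have ht : ∀ z : G.left, ∃ t : ℕ, Order.height z = t := fun z => by
    obtain ⟨-, t, -, -, -, h⟩ := DimFormulaLib.field_dims G.hom z
    exact ⟨t, h⟩
  choose t htz using ht
  haveI : CompactSpace G.left := (quasiCompact_iff_compactSpace G.hom).1 ‹_›
  haveI : IsLocallyNoetherian G.left := LocallyOfFiniteType.isLocallyNoetherian G.hom
  haveI : IsNoetherian G.left := { }
  have hfinC : (irreducibleComponents (G.left : Type u)).Finite :=
    TopologicalSpace.NoetherianSpace.finite_irreducibleComponents
  have hb : BddAbove (Set.range fun a : {a // p a} => t (g a)) := by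
    choose gc hgc using fun (c : irreducibleComponents (G.left : Type u)) =>
      QuasiSober.sober c.2.1 (isClosed_of_mem_irreducibleComponents c.1 c.2)
    haveI := hfinC.to_subtype
    obtain ⟨n, hn⟩ := (Set.finite_range fun c => t (gc c)).bddAbove
    refine ⟨n, ?_⟩
    rintro _ ⟨a, rfl⟩
    let c : irreducibleComponents (G.left : Type u) :=
      ⟨irreducibleComponent (g a), irreducibleComponent_mem_irreducibleComponents _⟩
    refine le_trans ?_ (hn ⟨c, rfl⟩)
    have h := Order.height_mono (Scheme.le_iff_specializes.2 ((hgc c).specializes (mem_irreducibleComponent (x := g a))))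
    rw [htz, htz] at h
    exact_mod_cast h
  haveI : Nonempty {a // p a} := ⟨⟨hp.choose, hp.choose_spec⟩⟩
  obtain ⟨a, ha⟩ := Nat.sSup_mem (Set.range_nonempty fun a : {a // p a} => t (g a)) hb
  refine ⟨a.1, a.2, fun b hb' hab => ?_⟩
  have hsp : g ⟨b, hb'⟩ ⤳ g a := (hg ⟨b, hb'⟩).specializes (hab (hg a).mem)
  have hsp' : g a ⤳ g ⟨b, hb'⟩ := by
    by_contra hne
    have hlt : g a < g ⟨b, hb'⟩ :=
      lt_of_le_not_ge (Scheme.le_iff_specializes.2 hsp) fun h => hne (Scheme.le_iff_specializes.1 h)
    have h := Order.height_strictMono hlt (by rw [htz]; exact ENat.coe_lt_top _)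
    rw [htz, htz] at h
    have h2 : t (g ⟨b, hb'⟩) ≤ t (g a) := by
      have := le_csSup hb ⟨⟨b, hb'⟩, rfl⟩
      rwa [← ha] at this
    exact absurd h2 (not_le.2 (by exact_mod_cast h))
  rw [← (hg ⟨b, hb'⟩).def, ← (hg a).def]
  exact specializes_iff_closure_subset.1 hsp'

theorem isIso_unit_of_subsingleton {H : Over (Spec (CommRingCat.of k))} [GrpObj H] [Smooth H.hom]
    (h : ∀ z : H.left, z ∈ Set.range η[H].left) : IsIso η[H] := by
  haveI : IsClosedImmersion η[H].left := GrpSchLib.isClosedImmersion_unit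
  haveI : IsReduced H.left := ASp.isReduced_of_smooth H.hom
  haveI : Surjective η[H].left := ⟨h⟩
  haveI : IsIso η[H].left := isIso_of_isClosedImmersion_of_surjective _
  haveI : IsIso ((Over.forget _).map η[H]) := ‹IsIso η[H].left›
  exact isIso_of_reflects_iso η[H] (Over.forget _)

/-- The largest smooth connected normal subgroup with the property. -/
theorem exists_largest (P : ∀ (E : Over (Spec (CommRingCat.of k))) [GrpObj E], Prop)
    (hPa : ∀ (N E Q : Over (Spec (CommRingCat.of k))) [GrpObj N] [GrpObj E] [GrpObj Q]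
      [LocallyOfFiniteType N.hom] [QuasiCompact N.hom] [LocallyOfFiniteType E.hom] [QuasiCompact E.hom]
      [LocallyOfFiniteType Q.hom] [QuasiCompact Q.hom] [Smooth N.hom] [Smooth E.hom] [Smooth Q.hom]
      (i : N ⟶ E) (q : E ⟶ Q) [IsMonHom i] [IsMonHom q] [Flat q.left] [Surjective q.left],
      AlgGrp.IsKernel i q → IsClosedImmersion i.left → P N → P Q → P E)
    (hPb : ∀ (E Q : Over (Spec (CommRingCat.of k))) [GrpObj E] [GrpObj Q] [LocallyOfFiniteType E.hom]
      [QuasiCompact E.hom] [LocallyOfFiniteType Q.hom] [QuasiCompact Q.hom] [Smooth E.hom] [Smooth Q.hom]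
      (q : E ⟶ Q) [IsMonHom q] [Flat q.left] [Surjective q.left], P E → P Q)
    (h0 : ∃ (E : Over (Spec (CommRingCat.of k))) (_ : GrpObj E) (j : E ⟶ G), IsMonHom j ∧ IsClosedImmersion j.left ∧
      Smooth E.hom ∧ ConnectedSpace E.left ∧ AlgGrp.IsNormalHom j ∧ P E) :
    ∃ (H : Over (Spec (CommRingCat.of k))) (_ : GrpObj H) (j : H ⟶ G), IsMonHom j ∧ IsClosedImmersion j.left ∧
      Smooth H.hom ∧ ConnectedSpace H.left ∧ AlgGrp.IsNormalHom j ∧ P H ∧
      (∀ (H' : Over (Spec (CommRingCat.of k))) [GrpObj H'] (j' : H' ⟶ G) [IsMonHom j'],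
        IsClosedImmersion j'.left → Smooth H'.hom → ConnectedSpace H'.left → AlgGrp.IsNormalHom j' → P H' →
        ∃ f : H' ⟶ H, f ≫ j = j') ∧
      (∀ (Q : Over (Spec (CommRingCat.of k))) [GrpObj Q] [LocallyOfFiniteType Q.hom] [QuasiCompact Q.hom] (q : G ⟶ Q)
        [IsMonHom q] [Flat q.left] [Surjective q.left], AlgGrp.IsKernel j q →
        ∀ (H'' : Over (Spec (CommRingCat.of k))) [GrpObj H''] (j'' : H'' ⟶ Q) [IsMonHom j''],
          IsClosedImmersion j''.left → Smooth H''.hom → ConnectedSpace H''.left → AlgGrp.IsNormalHom j'' → P H'' →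
          IsIso η[H'']) := by
  haveI : LocallyOfFiniteType G.hom := ‹_›
  let I₀ := Σ (H : Over (Spec (CommRingCat.of k))) (_ : GrpObj H), H ⟶ G
  let p : I₀ → Prop := fun c => letI := c.2.1; IsMonHom c.2.2 ∧ IsClosedImmersion c.2.2.left ∧ Smooth c.1.hom ∧
    ConnectedSpace c.1.left ∧ AlgGrp.IsNormalHom c.2.2 ∧ P c.1
  obtain ⟨⟨H, hH, j⟩, ⟨hj, hjc, hjs, hjconn, hjn, hPH⟩, hmax⟩ := exists_max (G := G) p
    (by
      obtain ⟨E, hE, j, h⟩ := h0
      exact ⟨⟨E, hE, j⟩, h⟩)
    (fun c => Set.range c.2.2.left) (by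
      rintro ⟨H, hH, j⟩ ⟨hj, hjc, hjs, hjconn, -, -⟩
      letI := hH
      haveI : IsClosedImmersion j.left := hjc
      haveI : ConnectedSpace H.left := hjconn
      haveI : LocallyOfFiniteType H.hom := by rw [← Over.w j]; infer_instance
      haveI := GrpSchLib.irreducibleSpace_of_connectedSpace (G := H)
      refine ⟨j.left.isClosedEmbedding.isClosed_range, ?_⟩
      show IsIrreducible (Set.range j.left)
      rw [← Set.image_univ]
      exact (IrreducibleSpace.isIrreducible_univ _).image _ j.left.continuous.continuousOn)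
  letI := hH
  haveI : IsMonHom j := hj
  haveI : IsClosedImmersion j.left := hjc
  haveI : Smooth H.hom := hjs
  haveI : ConnectedSpace H.left := hjconn
  haveI : LocallyOfFiniteType H.hom := inferInstance
  haveI : QuasiCompact H.hom := by rw [← Over.w j]; infer_instance
  haveI : Mono j := Over.mono_of_mono_left j
  have hbig : ∀ (M : Over (Spec (CommRingCat.of k))) [GrpObj M] (m : M ⟶ G) [IsMonHom m],
      IsClosedImmersion m.left → Smooth M.hom → ConnectedSpace M.left → AlgGrp.IsNormalHom m → P M →
      Set.range j.left ⊆ Set.range m.left → ∃ f : M ⟶ H, f ≫ j = m := by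
    intro M hM m hm hmc hms hmconn hmn hPM hsub
    haveI : IsReduced M.left := ASp.isReduced_of_smooth M.hom
    exact exists_lift_of_range j m (hmax ⟨M, hM, m⟩ ⟨hm, hmc, hms, hmconn, hmn, hPM⟩ hsub)
  refine ⟨H, hH, j, hj, hjc, hjs, hjconn, hjn, hPH, ?_, ?_⟩
  · intro H' _ j' _ hc' hs' hconn' hn' hP'
    haveI : LocallyOfFiniteType H'.hom := inferInstance
    haveI : QuasiCompact H'.hom := by rw [← Over.w j']; infer_instance
    obtain ⟨M, hM, m, a', b', hm, hmc, hms, hmconn, hmn, ha', hb', hrange⟩ := exists_product j j' hjn hn'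
    letI := hM
    haveI := hm
    haveI := hmc
    haveI := hms
    haveI : LocallyOfFiniteType M.hom := inferInstance
    haveI : QuasiCompact M.hom := by rw [← Over.w m]; infer_instance
    haveI : Mono m := Over.mono_of_mono_left m
    haveI : IsClosedImmersion (a'.left ≫ m.left) := by rw [← Over.comp_left, ha']; infer_instance
    haveI : IsClosedImmersion a'.left := IsClosedImmersion.of_comp a'.left m.left
    have hmon : ∀ {E : Over (Spec (CommRingCat.of k))} [GrpObj E] (e : E ⟶ G) [IsMonHom e] (e' : E ⟶ M),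
        e' ≫ m = e → IsMonHom e' := by
      intro E _ e _ e' he
      refine { one_hom := ?_, mul_hom := ?_ }
      · rw [← cancel_mono m, Category.assoc, he, IsMonHom.one_hom e, IsMonHom.one_hom m]
      · rw [← cancel_mono m, Category.assoc, he, IsMonHom.mul_hom e, Category.assoc, IsMonHom.mul_hom m,
          ← Category.assoc, tensorHom_comp_tensorHom, he]
    haveI := hmon j a' ha'
    haveI := hmon j' b' hb'
    have ha'n : AlgGrp.IsNormalHom a' := by
      intro T g x
      obtain ⟨x', hx'⟩ := hjn T (g ≫ m) x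
      refine ⟨x', ?_⟩
      rw [← cancel_mono m, MonObj.mul_comp, MonObj.mul_comp, GrpObj.inv_comp, Category.assoc x' a', ha',
        Category.assoc x a', ha', hx']
    obtain ⟨Q, hQ, r, hr, -, hQl, hQq, hrs, hrf, -, hker⟩ := GrpQuotLib.exists_quotientGrp_field H M a' ha'n
    letI := hQ
    haveI := hr
    haveI := hQl
    haveI := hQq
    haveI := hrs
    haveI := hrf
    haveI : Smooth r.left := MonoFibre.KernelFibre.of_kernel r a' @Smooth hker ‹_›
    haveI : Smooth Q.hom := by
      haveI : IsReduced M.left := ASp.isReduced_of_smooth M.hom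
      haveI : GeometricallyReduced M.hom := AVLib.geometricallyReduced_of_smooth M.hom
      haveI : GeometricallyReduced Q.hom := by
        refine geometricallyReduced_of_forall _ fun K _ y => ?_
        haveI : IsReduced (pullback M.hom y) :=
          GeometricallyReduced.geometrically_isReduced _ _ _ (.of_hasPullback _ _)
        let v : pullback M.hom y ⟶ pullback Q.hom y := pullback.map M.hom y Q.hom y r.left (𝟙 _) (𝟙 _)
          (by rw [Category.comp_id, Over.w]) (by rw [Category.comp_id, Category.id_comp])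
        have hpb : IsPullback v (pullback.fst M.hom y) (pullback.fst Q.hom y) r.left := by
          refine IsPullback.of_right (h₁₂ := pullback.snd Q.hom y) (h₂₂ := Q.hom) (v₁₃ := y) ?_
            (pullback.lift_fst _ _ _) (IsPullback.of_hasPullback Q.hom y).flip
          rw [pullback.lift_snd, Category.comp_id, Over.w]
          exact (IsPullback.of_hasPullback M.hom y).flip
        haveI : Flat v := MorphismProperty.of_isPullback hpb.flip ‹Flat r.left›
        haveI : Surjective v := MorphismProperty.of_isPullback hpb.flip ‹Surjective r.left›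
        exact FlatDescStalk.isReduced_of_flat_surjective v
      exact @smooth_of_grpObj _ _ _ Q.hom hQl hQ ‹_›
    have hsurj : Surjective (b' ≫ r).left := by
      refine ⟨fun z => ?_⟩
      obtain ⟨w, rfl⟩ := r.left.surjective z
      obtain ⟨u, hu⟩ : m.left w ∈ Set.range ((j ⊗ₘ j') ≫ μ[G]).left := hrange ▸ ⟨w, rfl⟩
      let c : H ⊗ H' ⟶ M := (fst H H' ≫ a') * (snd H H' ≫ b')
      have hc : c ≫ m = (j ⊗ₘ j') ≫ μ[G] := by
        rw [MonObj.mul_comp, Category.assoc, Category.assoc, ha', hb', Hom.mul_def]
        congr 1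
      have hw : c.left u = w := m.left.isClosedEmbedding.injective (by
        rw [← Scheme.Hom.comp_apply, ← Over.comp_left, hc]; exact hu)
      have hcr : c ≫ r = snd H H' ≫ b' ≫ r := by
        rw [MonObj.mul_comp, Category.assoc, Category.assoc, GrpPtsLib.comp_eq_one_of_isKernel hker, _root_.one_mul]
      refine ⟨(snd H H').left u, ?_⟩
      rw [← hw, ← Scheme.Hom.comp_apply, ← Scheme.Hom.comp_apply, ← Over.comp_left, ← Over.comp_left, hcr]
    haveI := hsurj
    haveI : IsReduced Q.left := ASp.isReduced_of_smooth Q.hom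
    haveI : Flat (b' ≫ r).left := MonoFibre.flat_of_surjective (b' ≫ r)
    obtain ⟨f, hf⟩ := hbig M m hmc hms hmconn hmn (hPa H M Q a' r hker ‹_› hPH (hPb H' Q (b' ≫ r) hP')) (by
      rintro _ ⟨x, rfl⟩
      exact ⟨a'.left x, by rw [← Scheme.Hom.comp_apply, ← Over.comp_left, ha']⟩)
    exact ⟨b' ≫ f, by rw [Category.assoc, hf, hb']⟩
  · intro Q _ _ _ q _ _ _ hker H'' _ j'' _ hc'' hs'' hconn'' hn'' hP''
    haveI : LocallyOfFiniteType H''.hom := inferInstance
    haveI : QuasiCompact H''.hom := by rw [← Over.w j'']; infer_instance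
    haveI : Mono j'' := Over.mono_of_mono_left j''
    haveI : IsClosedImmersion (pullback.fst q.left j''.left) := MorphismProperty.pullback_fst _ _ hc''
    let E : Over (Spec (CommRingCat.of k)) := Over.mk (pullback.fst q.left j''.left ≫ G.hom)
    let e : E ⟶ G := Over.homMk (pullback.fst q.left j''.left) rfl
    let v : E ⟶ H'' := Over.homMk (pullback.snd q.left j''.left) (by
      show pullback.snd q.left j''.left ≫ H''.hom = pullback.fst q.left j''.left ≫ G.hom
      rw [← Over.w j'', ← Category.assoc, ← pullback.condition, Category.assoc, Over.w q])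
    haveI hec : IsClosedImmersion e.left := ‹IsClosedImmersion (pullback.fst q.left j''.left)›
    haveI : Mono e := Over.mono_of_mono_left e
    have hev : e ≫ q = v ≫ j'' := Over.OverMorphism.ext pullback.condition
    have hlift : ∀ {T : Over (Spec (CommRingCat.of k))} (x : T ⟶ G) (y : T ⟶ H''), x ≫ q = y ≫ j'' →
        ∃ z : T ⟶ E, z ≫ e = x ∧ z ≫ v = y := by
      intro T x y h
      have h' : x.left ≫ q.left = y.left ≫ j''.left := by rw [← Over.comp_left, ← Over.comp_left, h]
      refine ⟨Over.homMk (pullback.lift x.left y.left h') (by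
        show pullback.lift x.left y.left h' ≫ pullback.fst q.left j''.left ≫ G.hom = T.hom
        rw [pullback.lift_fst_assoc, Over.w x]), Over.OverMorphism.ext (pullback.lift_fst _ _ _),
        Over.OverMorphism.ext (pullback.lift_snd _ _ _)⟩
    obtain ⟨hEg, he⟩ := exists_grpObj_of_closed e
      (fun {T} x y => (hlift ((x ≫ e) * (y ≫ e)) ((x ≫ v) * (y ≫ v)) (by
        simp only [MonObj.mul_comp, Category.assoc, hev])).imp fun _ h => h.1)
      (fun {T} x => (hlift (x ≫ e)⁻¹ (x ≫ v)⁻¹ (by
        simp only [GrpObj.inv_comp, Category.assoc, hev])).imp fun _ h => h.1)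
      ((hlift 1 1 (by rw [MonObj.one_comp, MonObj.one_comp])).imp fun _ h => h.1)
    letI := hEg
    haveI := he
    haveI hv : IsMonHom v := by
      refine { one_hom := ?_, mul_hom := ?_ }
      · rw [← cancel_mono j'', Category.assoc, ← hev, ← Category.assoc, IsMonHom.one_hom e, IsMonHom.one_hom q,
          IsMonHom.one_hom j'']
      · rw [← cancel_mono j'', Category.assoc, ← hev, ← Category.assoc, IsMonHom.mul_hom e, Category.assoc,
          IsMonHom.mul_hom q, ← Category.assoc, tensorHom_comp_tensorHom, Category.assoc, IsMonHom.mul_hom j'',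
          ← Category.assoc, tensorHom_comp_tensorHom, hev]
    haveI : LocallyOfFiniteType E.hom := by rw [← Over.w e]; infer_instance
    haveI : QuasiCompact E.hom := by rw [← Over.w e]; infer_instance
    obtain ⟨iE, hiE, hiEv⟩ := hlift j 1 (by
      have := GrpPtsLib.comp_eq_one_of_isKernel hker (𝟙 H)
      rw [Category.id_comp] at this
      rw [this, MonObj.one_comp])
    haveI : IsClosedImmersion (iE.left ≫ e.left) := by rw [← Over.comp_left, hiE]; infer_instance
    haveI : IsClosedImmersion iE.left := IsClosedImmersion.of_comp iE.left e.left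
    haveI : IsMonHom iE := by
      refine { one_hom := ?_, mul_hom := ?_ }
      · rw [← cancel_mono e, Category.assoc, hiE, IsMonHom.one_hom j, IsMonHom.one_hom e]
      · rw [← cancel_mono e, Category.assoc, hiE, IsMonHom.mul_hom j, Category.assoc, IsMonHom.mul_hom e,
          ← Category.assoc, tensorHom_comp_tensorHom, hiE]
    have hkerE : AlgGrp.IsKernel iE v := by
      have hw : iE ≫ v = toUnit H ≫ η[H''] := hiEv.trans Hom.one_def
      have hl : ∀ s : PullbackCone v η[H''], ∃ n : s.pt ⟶ H, n ≫ iE = s.fst := fun s => by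
        have h1 : (s.fst ≫ e) ≫ q = s.snd ≫ η[Q] := by
          rw [Category.assoc, hev, ← Category.assoc, s.condition, Category.assoc, IsMonHom.one_hom j'']
        refine ⟨hker.lift _ s.snd h1, ?_⟩
        rw [← cancel_mono e, Category.assoc, hiE]
        exact hker.lift_fst _ _ _
      choose n hn using hl
      haveI : Mono iE := Over.mono_of_mono_left iE
      exact IsPullback.of_isLimit' ⟨hw⟩ (PullbackCone.IsLimit.mk _ n hn (fun s => toUnit_unique _ _)
        (fun s m hm _ => (cancel_mono iE).1 (hm.trans (hn s).symm)))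
    haveI : Flat v.left := MorphismProperty.pullback_snd _ _ (inferInstance : Flat q.left)
    haveI : Surjective v.left := MorphismProperty.pullback_snd _ _ (inferInstance : Surjective q.left)
    haveI : Smooth v.left := MonoFibre.KernelFibre.of_kernel v iE @Smooth hkerE ‹_›
    haveI : Smooth E.hom := by rw [← Over.w v]; infer_instance
    haveI := MonoFibre.KernelFibre.connectedSpace v iE hkerE
    have hEn : AlgGrp.IsNormalHom e := by
      intro T g x
      obtain ⟨y, hy⟩ := hn'' T (g ≫ q) (x ≫ v)
      obtain ⟨z, hz, -⟩ := hlift (g * (x ≫ e) * g⁻¹) y (by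
        rw [MonObj.mul_comp, MonObj.mul_comp, GrpObj.inv_comp, Category.assoc, hev, ← Category.assoc, hy])
      exact ⟨z, hz.symm⟩
    obtain ⟨f, hf⟩ := hbig E e hec ‹_› ‹_› hEn (hPa H E H'' iE v hkerE ‹_› hPH hP'') (by
      rintro _ ⟨x, rfl⟩
      exact ⟨iE.left x, by rw [← Scheme.Hom.comp_apply, ← Over.comp_left, hiE]⟩)
    have hv1 : v = 1 := by
      rw [← cancel_mono j'', ← hev, ← hf, Category.assoc, GrpPtsLib.comp_eq_one_of_isKernel hker, MonObj.one_comp]
    refine isIso_unit_of_subsingleton fun z => ?_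
    obtain ⟨w, rfl⟩ := v.left.surjective z
    refine ⟨(toUnit E).left w, ?_⟩
    rw [← Scheme.Hom.comp_apply, ← Over.comp_left, ← Hom.one_def, hv1]

end Groth.Agent.GenSubLib
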