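import Groth.Agent.GenSubLib.Derived
import Groth.Agent.GenSubLib.Largest
import Groth.Agent.GrpQuotLib.Orbit
import Groth.Agent.GrpQuotLib.Descend
import Groth.Agent.MonoFibre.FlatOrbit
import Groth.Agent.S7978
import Groth.Agent.S14586
import Groth.Agent.S3278

/-!
# Borel's fixed point theorem
-/

set_option autoImplicit false
set_option backward.isDefEq.respectTransparency false
set_option backward.isDefEq.respectTransparency.types false
set_option linter.style.haveILetI false
set_option linter.unusedSectionVars false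

universe u

open CategoryTheory CategoryTheory.Limits MonoidalCategory CartesianMonoidalCategory MonObj AlgebraicGeometry
open scoped commutatorElement

noncomputable section

namespace Groth.Agent.GenSubLib

variable {k : Type u} [Field k]

/-- The restriction of an action to a stable subobject. -/
theorem exists_action_restrict {S : Scheme.{u}} {G X Z : Over S} [GrpObj G] (a : AlgGrp.Action G X) (j : Z ⟶ X) [Mono j]
    (act' : G ⊗ Z ⟶ Z) (hact : act' ≫ j = (G ◁ j) ≫ a.act) :
    ∃ b : AlgGrp.Action G Z, b.act = act' ∧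
      ∀ {T : Over S} (g : T ⟶ G) (z : T ⟶ Z), (lift g z ≫ b.act) ≫ j = lift g (z ≫ j) ≫ a.act := by
  refine ⟨⟨act', ?_, ?_⟩, rfl, fun {T} g z => ?_⟩
  · rw [← cancel_mono j, Category.assoc, hact, ← Category.assoc, ← whisker_exchange, Category.assoc,
      a.one_act, MonoidalCategory.leftUnitor_naturality]
  · rw [← cancel_mono j]
    simp only [Category.assoc]
    rw [hact, ← MonoidalCategory.whiskerLeft_comp_assoc, hact, MonoidalCategory.whiskerLeft_comp_assoc,
      ← Category.assoc (μ[G] ▷ Z), ← whisker_exchange, Category.assoc, a.mul_act,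
      ← associator_naturality_right_assoc]
  · rw [Category.assoc, hact, lift_whiskerLeft_assoc]

/-- The orbit map onto a closed orbit is faithfully flat. -/
theorem exists_flat_closed_orbit {G X : Over (Spec (CommRingCat.of k))} [GrpObj G] [Smooth G.hom]
    [LocallyOfFiniteType X.hom] (a : AlgGrp.Action G X) (x : 𝟙_ (Over (Spec (CommRingCat.of k))) ⟶ X)
    (hcl : IsClosed (Set.range (a.orbitMap x).left)) :
    ∃ (O : Over (Spec (CommRingCat.of k))) (j : O ⟶ X) (φ : G ⟶ O), IsClosedImmersion j.left ∧ IsReduced O.left ∧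
      φ ≫ j = a.orbitMap x ∧ Flat φ.left ∧ Surjective φ.left ∧ LocallyOfFinitePresentation φ.left := by
  haveI : IsReduced G.left := ASp.isReduced_of_smooth G.hom
  let C : TopologicalSpace.Closeds X.left := ⟨_, hcl⟩
  let O : Over (Spec (CommRingCat.of k)) := Over.mk ((Scheme.IdealSheafData.vanishingIdeal C).subschemeι ≫ X.hom)
  let j : O ⟶ X := Over.homMk (Scheme.IdealSheafData.vanishingIdeal C).subschemeι rfl
  haveI : IsClosedImmersion j.left := inferInstanceAs (IsClosedImmersion (Scheme.IdealSheafData.vanishingIdeal C).subschemeι)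
  haveI : IsReduced O.left := DVRCrit.isReduced_vanishingIdeal C
  haveI : Mono j := Over.mono_of_mono_left j
  have hrange : Set.range j.left = Set.range (a.orbitMap x).left := by
    show Set.range (Scheme.IdealSheafData.vanishingIdeal C).subschemeι = _
    rw [Scheme.IdealSheafData.range_subschemeι, Scheme.IdealSheafData.coe_support_vanishingIdeal]
    rfl
  haveI : IsReduced (G ⊗ O).left := by
    haveI : Smooth (snd G O).left := MorphismProperty.of_isPullback (P := @Smooth)
      (IsPullback.of_hasPullback G.hom O.hom) ‹_›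
    exact ASp.isReduced_of_smooth (snd G O).left
  obtain ⟨φ, hφ⟩ := exists_lift_of_range j (a.orbitMap x) hrange.ge
  obtain ⟨act', hact⟩ := exists_lift_of_range j ((G ◁ j) ≫ a.act) (by
    rintro _ ⟨p, rfl⟩
    rw [hrange]
    obtain ⟨g₁, hg₁⟩ : j.left ((snd G O).left p) ∈ Set.range (a.orbitMap x).left := hrange.le ⟨_, rfl⟩
    obtain ⟨T, u, v, t, ht, hu⟩ := GrpSchLib.exists_lift (snd G O ≫ j) (a.orbitMap x) p ⟨g₁, hg₁⟩
    refine ⟨((u ≫ fst G O) * v).left t, ?_⟩
    rw [← ht, ← Scheme.Hom.comp_apply, ← Scheme.Hom.comp_apply, ← Over.comp_left, ← Over.comp_left,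
      MonoFibre.orbitMap_apply, MonoFibre.act_mul, ← MonoFibre.orbitMap_apply, ← hu]
    rw [show lift (u ≫ fst G O) (u ≫ snd G O ≫ j) = u ≫ (G ◁ j) by
      apply CartesianMonoidalCategory.hom_ext <;> simp, Category.assoc])
  obtain ⟨b, -, hb⟩ := exists_action_restrict a j act' hact
  let x₁ : 𝟙_ (Over (Spec (CommRingCat.of k))) ⟶ O := η[G] ≫ φ
  have hx₁ : x₁ ≫ j = x := by
    rw [Category.assoc, hφ, GrpQuotLib.comp_orbitMap,
      show η[G] = (1 : 𝟙_ (Over (Spec (CommRingCat.of k))) ⟶ G) by rw [Hom.one_def, toUnit_unit, Category.id_comp],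
      GrpQuotLib.one_smul, toUnit_unit, Category.id_comp]
  have hφb : b.orbitMap x₁ = φ := by
    rw [← cancel_mono j, ← Category.id_comp (b.orbitMap x₁), GrpQuotLib.comp_orbitMap, hb, Category.assoc, hx₁,
      ← GrpQuotLib.comp_orbitMap, Category.id_comp, hφ]
  haveI : Surjective φ.left := ⟨fun y => by
    obtain ⟨g, hg⟩ : j.left y ∈ Set.range (a.orbitMap x).left := hrange.le ⟨y, rfl⟩
    refine ⟨g, j.left.isEmbedding.injective ?_⟩
    rw [← hg, ← hφ]
    rfl⟩
  haveI : Subsingleton ↥(Spec (CommRingCat.of k)) := inferInstanceAs (Subsingleton (PrimeSpectrum k))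
  obtain ⟨ξ, -, hξ⟩ := MonoFibre.exists_isMaxPt (x₁.left (IsLocalRing.closedPoint k))
  obtain ⟨γ₀, hγ₀⟩ := φ.left.surjective ξ
  haveI : Flat φ.left := by
    have h : Flat (b.orbitMap x₁).left := MonoFibre.flat_orbitMap_of_flat_at b x₁ ⟨γ₀, by
      rw [hφb]
      exact MonoFibre.flat_stalkMap_of_isPullback_maxPt (IsPullback.of_horiz_isIso (fst := 𝟙 G.left)
        (snd := φ.left) (f := φ.left) (g := 𝟙 O.left) ⟨by simp⟩) γ₀ (hγ₀ ▸ hξ)⟩
    rwa [hφb] at h
  haveI : LocallyOfFiniteType O.hom := by rw [← Over.w j]; infer_instance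
  haveI : IsLocallyNoetherian O.left := LocallyOfFiniteType.isLocallyNoetherian O.hom
  haveI : LocallyOfFiniteType (φ.left ≫ O.hom) := by rw [Over.w]; infer_instance
  haveI : LocallyOfFiniteType φ.left := locallyOfFiniteType_of_comp φ.left O.hom
  exact ⟨O, j, φ, ‹_›, ‹_›, hφ, ‹_›, ‹_›, inferInstance⟩

/-- A connected reduced scheme with a rational point which is affine and proper over a field is a point. -/
theorem isIso_pt_of_isAffine_isProper [IsAlgClosed k] {O : Over (Spec (CommRingCat.of k))} [IsAffine O.left]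
    [IsProper O.hom] [IsReduced O.left] [ConnectedSpace O.left] (x : 𝟙_ (Over (Spec (CommRingCat.of k))) ⟶ O) :
    IsIso x.left := by
  haveI : IsAffineHom O.hom := inferInstance
  haveI : IsFinite O.hom := IsFinite.iff_isProper_and_isAffineHom.2 ⟨‹_›, ‹_›⟩
  haveI : IsClosedImmersion x.left := by
    haveI : IsImmersion (x.left ≫ O.hom) := by
      rw [Over.w x]; exact inferInstanceAs (IsImmersion (𝟙 (Spec (CommRingCat.of k))))
    haveI : IsImmersion x.left := IsImmersion.of_comp x.left O.hom
    refine IsClosedImmersion.of_isPreimmersion _ ?_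
    have e : Set.range x.left = {x.left base₀} := by
      ext z
      exact ⟨fun ⟨w, hw⟩ => hw ▸ congrArg x.left (Subsingleton.elim (α := PrimeSpectrum k) _ _),
        fun hz => ⟨_, (Set.mem_singleton_iff.1 hz).symm⟩⟩
    rw [e]
    exact isClosed_pt x
  haveI : Surjective x.left := by
    haveI : DiscreteTopology ↥O.left := by
      haveI : Finite ↥O.left := Set.finite_univ_iff.1 (((IsFinite.finite_preimage_singleton O.hom (IsLocalRing.closedPoint k))).subset
        fun z _ => Subsingleton.elim (α := PrimeSpectrum k) _ _)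
      haveI : JacobsonSpace ↥O.left := LocallyOfFiniteType.jacobsonSpace O.hom
      infer_instance
    haveI : Subsingleton ↥O.left := PreconnectedSpace.trivial_of_discrete
    exact ⟨fun z => ⟨base₀, Subsingleton.elim _ _⟩⟩
  exact isIso_of_isClosedImmersion_of_surjective _

variable [IsAlgClosed k]

theorem map_derivedSeries_succ {H Q : Type*} [Group H] [Group Q] (f : H →* Q) (hf : f.range = commutator Q) :
    ∀ n, (derivedSeries H n).map f = derivedSeries Q (n + 1)
  | 0 => by
    rw [derivedSeries_zero, ← MonoidHom.range_eq_map, hf, derivedSeries_one]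
  | n + 1 => by
    rw [derivedSeries_succ, Subgroup.map_commutator, map_derivedSeries_succ f hf n, ← derivedSeries_succ]

theorem borel_aux : ∀ (n : ℕ) (G : Over (Spec (CommRingCat.of k))) [GrpObj G] [IsAffine G.left] [Smooth G.hom]
    [ConnectedSpace G.left], derivedSeries (𝟙_ (Over (Spec (CommRingCat.of k))) ⟶ G) n = ⊥ →
    ∀ (X : Over (Spec (CommRingCat.of k))) [IsProper X.hom] [Nonempty X.left] (a : AlgGrp.Action G X),
    ∃ x : 𝟙_ (Over (Spec (CommRingCat.of k))) ⟶ X, a.IsFixedPt x
  | 0, G, _, _, _, _, h, X, _, _, a => by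
    rw [derivedSeries_zero] at h
    haveI : LocallyOfFiniteType X.hom := inferInstance
    haveI : JacobsonSpace X.left := LocallyOfFiniteType.jacobsonSpace X.hom
    haveI : JacobsonSpace G.left := LocallyOfFiniteType.jacobsonSpace G.hom
    obtain ⟨z, -, hz⟩ := nonempty_inter_closedPoints (Z := (Set.univ : Set X.left)) Set.univ_nonempty
      isClosed_univ.isLocallyClosed
    obtain ⟨x, -⟩ := exists_pt (P := X) hz
    haveI : IsIso η[G] := isIso_unit_of_subsingleton fun w => by
      have hcl : IsClosed (Set.range η[G].left) := by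
        haveI : IsClosedImmersion η[G].left := GrpSchLib.isClosedImmersion_unit
        exact η[G].left.isClosedEmbedding.isClosed_range
      refine hcl.closure_subset_iff.2 ?_ (closure_closedPoints (X := G.left) ▸ Set.mem_univ w)
      intro v hv
      obtain ⟨g, rfl⟩ := exists_pt (P := G) hv
      have hg : g = 1 := (Subgroup.mem_bot).1 (h ▸ Subgroup.mem_top g)
      refine ⟨base₀, ?_⟩
      rw [hg, Hom.one_def, toUnit_unit, Category.id_comp]
    refine ⟨x, fun T g => ?_⟩
    have hg : g = 1 := by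
      rw [Hom.one_def, ← Category.comp_id g, ← IsIso.inv_hom_id η[G], ← Category.assoc]
      congr 1
      exact toUnit_unique _ _
    rw [hg, GrpQuotLib.one_smul]
  | n + 1, G, _, _, _, _, h, X, _, _, a => by
    haveI : LocallyOfFiniteType G.hom := inferInstance
    haveI : CompactSpace G.left := inferInstance
    haveI : QuasiCompact G.hom := (quasiCompact_iff_compactSpace G.hom).2 inferInstance
    haveI : GeometricallyReduced G.hom := AVLib.geometricallyReduced_of_smooth G.hom
    haveI := geometricallyReduced_tensor G G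
    haveI : IsClosedImmersion (𝟙 G : G ⟶ G).left := inferInstanceAs (IsClosedImmersion (𝟙 G.left))
    obtain ⟨D, hD, i, hi, hci, -, hgr, -, hfac, -, hmin⟩ :=
      exists_generated (X := fun _ : PUnit.{1} => G ⊗ G) (fun _ : PUnit.{1} => commMap (𝟙 G) (𝟙 G))
    letI := hD
    haveI := hi
    haveI := hci
    haveI := hgr
    haveI : Mono i := Over.mono_of_mono_left i
    haveI : LocallyOfFiniteType D.hom := by rw [← Over.w i]; infer_instance
    haveI : Smooth D.hom := @smooth_of_grpObj _ _ _ D.hom ‹LocallyOfFiniteType D.hom› hD hgr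
    haveI : IsAffine D.left := isAffine_of_isAffineHom i.left
    have hmin' := fun Γ' h' i' h1 h2 h3 => hmin Γ' h' i' h1 h2 fun _ : PUnit.{1} => h3
    haveI : ConnectedSpace D.left := (commutator_props (𝟙 G) (𝟙 G) D i (hfac PUnit.unit) hmin' (Or.inr ‹_›)).2 ‹_›
    have hnorm : AlgGrp.IsNormalHom i := isNormalHom_commutator (𝟙 G) (𝟙 G)
      (fun T g n => ⟨g * n * g⁻¹, by simp⟩) (fun T g n => ⟨g * n * g⁻¹, by simp⟩) _ rfl D i (hfac PUnit.unit) hmin'
    have hrange : (ptsHom i).range = commutator (𝟙_ (Over (Spec (CommRingCat.of k))) ⟶ G) := by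
      apply SetLike.coe_injective
      rw [MonoidHom.coe_range]
      show Set.range (fun z : 𝟙_ (Over (Spec (CommRingCat.of k))) ⟶ D => z ≫ i) = _
      rw [range_pts_of_min (𝟙 G) (𝟙 G) (Or.inr ‹_›) D i (hfac PUnit.unit) hmin']
      simp only [Category.comp_id, Set.range_id', Subgroup.closure_univ, commutator_def]
    have hDn : derivedSeries (𝟙_ (Over (Spec (CommRingCat.of k))) ⟶ D) n = ⊥ := by
      have e := map_derivedSeries_succ (ptsHom i) hrange n
      rw [h, Subgroup.map_eq_bot_iff_of_injective] at e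
      · exact e
      · intro u v huv; exact (cancel_mono i).1 huv
    let aD : AlgGrp.Action D X :=
      { act := (i ▷ X) ≫ a.act
        one_act := by rw [← comp_whiskerRight_assoc, IsMonHom.one_hom i, a.one_act]
        mul_act := by
          have key : ∀ {T : Over (Spec (CommRingCat.of k))} (d : T ⟶ D) (v : T ⟶ X),
              lift d v ≫ (i ▷ X) ≫ a.act = lift (d ≫ i) v ≫ a.act := fun {T} d v => by
            rw [lift_whiskerRight_assoc]
          let p₁ : (D ⊗ D) ⊗ X ⟶ D := fst _ _ ≫ fst _ _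
          let p₂ : (D ⊗ D) ⊗ X ⟶ D := fst _ _ ≫ snd _ _
          have e1 : μ[D] ▷ X = lift (p₁ * p₂) (snd _ _) := by
            apply CartesianMonoidalCategory.hom_ext
            · rw [whiskerRight_fst, lift_fst, Hom.mul_def, ← comp_lift_assoc, lift_fst_snd, Category.id_comp]
            · simp
          have e2 : (α_ D D X).hom ≫ D ◁ ((i ▷ X) ≫ a.act) =
              lift p₁ (lift p₂ (snd _ _) ≫ (i ▷ X) ≫ a.act) := by
            apply CartesianMonoidalCategory.hom_ext
            · simp [p₁]
            · rw [Category.assoc, whiskerLeft_snd, lift_snd, ← Category.assoc]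
              congr 1
              apply CartesianMonoidalCategory.hom_ext <;> simp [p₂]
          conv_lhs => rw [e1]
          rw [← Category.assoc (α_ D D X).hom, e2, key, key, key, MonObj.mul_comp, GrpQuotLib.mul_smul] }
    obtain ⟨x₀, hx₀⟩ := borel_aux n D hDn X aD
    obtain ⟨Z, incl, hinc, hZ⟩ := S7978.result k D X aD
    haveI := hinc
    haveI : Mono incl := Over.mono_of_mono_left incl
    have hDact : ∀ {T : Over (Spec (CommRingCat.of k))} (d : T ⟶ D) (v : T ⟶ X),
        lift d v ≫ aD.act = lift (d ≫ i) v ≫ a.act := fun {T} d v => by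
      show lift d v ≫ (i ▷ X) ≫ a.act = _
      rw [lift_whiskerRight_assoc]
    have hfix : ∀ {T : Over (Spec (CommRingCat.of k))} (d : T ⟶ D) (z : T ⟶ Z),
        lift (d ≫ i) (z ≫ incl) ≫ a.act = z ≫ incl := fun {T} d z => by
      have := ((hZ T (z ≫ incl)).2 ⟨z, rfl⟩) T (𝟙 T) d
      rwa [Category.id_comp, hDact] at this
    obtain ⟨z₀, hz₀⟩ := (hZ _ x₀).1 fun T' t g => by
      rw [toUnit_unique t (toUnit T')]
      exact hx₀ T' g
    haveI : IsProper Z.hom := by rw [← Over.w incl]; infer_instance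
    haveI : Nonempty Z.left := ⟨z₀.left base₀⟩
    obtain ⟨actZ, hactZ⟩ := (hZ (G ⊗ Z) ((G ◁ incl) ≫ a.act)).1 fun T' t d => by
      have e : t ≫ (G ◁ incl) ≫ a.act = lift (t ≫ fst G Z) ((t ≫ snd G Z) ≫ incl) ≫ a.act := by
        rw [← Category.assoc]
        congr 1
        apply CartesianMonoidalCategory.hom_ext <;> simp
      rw [hDact, e, ← GrpQuotLib.mul_smul]
      obtain ⟨d', hd'⟩ := hnorm T' (t ≫ fst G Z)⁻¹ d
      rw [inv_inv] at hd'
      have e2 : (d ≫ i) * (t ≫ fst G Z) = (t ≫ fst G Z) * (d' ≫ i) := by rw [← hd']; group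
      rw [e2, GrpQuotLib.mul_smul, hfix]
    obtain ⟨aZ, -, haZ⟩ := exists_action_restrict a incl actZ hactZ
    haveI : IsSeparated Z.hom := inferInstance
    obtain ⟨x, hx⟩ := S14586.result k G Z aZ
    obtain ⟨O, j, φ, hjc, hOr, hφj, hφf, hφs, hφp⟩ := exists_flat_closed_orbit aZ x hx
    haveI := hjc
    haveI := hOr
    haveI := hφf
    haveI := hφs
    haveI := hφp
    haveI : Mono j := Over.mono_of_mono_left j
    -- the stabiliser
    haveI : Mono x := SplitMono.mono ⟨toUnit Z, toUnit_unique _ _⟩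
    let N := pullback (aZ.orbitMap x) x
    let n₀ : N ⟶ G := pullback.fst (aZ.orbitMap x) x
    have hN : ∀ {T : Over (Spec (CommRingCat.of k))} (g : T ⟶ G),
        (∃ m : T ⟶ N, m ≫ n₀ = g) ↔ lift g (toUnit T ≫ x) ≫ aZ.act = toUnit T ≫ x := fun {T} g => by
      rw [← GrpQuotLib.comp_orbitMap]
      constructor
      · rintro ⟨m, rfl⟩
        rw [Category.assoc, pullback.condition, ← Category.assoc]
        exact congrArg (· ≫ x) (toUnit_unique _ _)
      · intro h
        exact ⟨pullback.lift g (toUnit T) h, pullback.lift_fst _ _ _⟩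
    haveI : IsClosedImmersion n₀.left := by
      haveI : IsClosedImmersion x.left := by
        haveI : IsImmersion (x.left ≫ Z.hom) := by
          rw [Over.w x]; exact inferInstanceAs (IsImmersion (𝟙 (Spec (CommRingCat.of k))))
        haveI : IsImmersion x.left := IsImmersion.of_comp x.left Z.hom
        refine IsClosedImmersion.of_isPreimmersion _ ?_
        have e : Set.range x.left = {x.left base₀} := by
          ext z
          exact ⟨fun ⟨w, hw⟩ => hw ▸ congrArg x.left (Subsingleton.elim (α := PrimeSpectrum k) _ _),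
            fun hz => ⟨_, (Set.mem_singleton_iff.1 hz).symm⟩⟩
        rw [e]
        exact isClosed_pt x
      exact MorphismProperty.of_isPullback
        (GrpQuotLib.isPullback_left (IsPullback.of_hasPullback (aZ.orbitMap x) x)).flip ‹IsClosedImmersion x.left›
    haveI : Mono n₀ := Over.mono_of_mono_left n₀
    obtain ⟨hNg, hn₀⟩ := exists_grpObj_of_closed n₀
      (fun {T} u v => (hN ((u ≫ n₀) * (v ≫ n₀))).2 (by
        rw [GrpQuotLib.mul_smul, (hN (v ≫ n₀)).1 ⟨v, rfl⟩, (hN (u ≫ n₀)).1 ⟨u, rfl⟩]))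
      (fun {T} u => (hN (u ≫ n₀)⁻¹).2 (by
        conv_lhs => rw [← (hN (u ≫ n₀)).1 ⟨u, rfl⟩]
        rw [← GrpQuotLib.mul_smul, inv_mul_cancel, GrpQuotLib.one_smul]))
      ((hN 1).2 (by rw [GrpQuotLib.one_smul]))
    letI := hNg
    haveI := hn₀
    obtain ⟨c, hc⟩ := hfac PUnit.unit
    have hn₀n : AlgGrp.IsNormalHom n₀ := by
      intro T g m
      obtain ⟨m', hm'⟩ := (hN (g * (m ≫ n₀) * g⁻¹)).2 (by
        have e : g * (m ≫ n₀) * g⁻¹ = ((lift g (m ≫ n₀) ≫ c) ≫ i) * (m ≫ n₀) := by
          rw [Category.assoc, hc]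
          simp only [commMap, MonObj.comp_mul, GrpObj.comp_inv, Category.comp_id, lift_fst, lift_snd]
          group
        rw [e, GrpQuotLib.mul_smul, (hN (m ≫ n₀)).1 ⟨m, rfl⟩, ← cancel_mono incl, haZ]
        exact hfix _ _)
      exact ⟨m', hm'.symm⟩
    obtain ⟨Q, hQ, q, hq, hQa, hQl, hqf, hqs, hker⟩ := S3278.result k G N n₀ hn₀n
    letI := hQ
    haveI := hq
    haveI := hqf
    haveI := hqs
    haveI := hQa
    haveI : SchDesc.IsFpqc q.left := by
      haveI : LocallyOfFinitePresentation q.left := by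
        haveI : LocallyOfFiniteType Q.hom := hQl
        exact MonoFibre.KernelFibre.locallyOfFinitePresentation_left q
      exact SchDesc.IsFpqc.of_locallyOfFinitePresentation _
    haveI : SchDesc.IsFpqc φ.left := SchDesc.IsFpqc.of_locallyOfFinitePresentation _
    have hq_iff : ∀ {T : Over (Spec (CommRingCat.of k))} (u v : T ⟶ G), u ≫ q = v ≫ q ↔ u ≫ φ = v ≫ φ := by
      intro T u v
      rw [← cancel_mono j (g := u ≫ φ), Category.assoc, Category.assoc, hφj]
      constructor
      · intro e
        obtain ⟨m, hm, -⟩ := hker.exists_lift (v⁻¹ * u) (toUnit T) (by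
          rw [MonObj.mul_comp, GrpObj.inv_comp, e, inv_mul_cancel, Hom.one_def])
        rw [GrpQuotLib.comp_orbitMap, GrpQuotLib.comp_orbitMap, ← mul_inv_cancel_left v u, GrpQuotLib.mul_smul,
          (hN _).1 ⟨m, hm⟩]
      · intro e
        obtain ⟨m, hm⟩ := (hN (v⁻¹ * u)).2 (by
          rw [GrpQuotLib.mul_smul, ← GrpQuotLib.comp_orbitMap aZ x u, e, GrpQuotLib.comp_orbitMap, ← GrpQuotLib.mul_smul,
            inv_mul_cancel, GrpQuotLib.one_smul])
        have h1 : (v⁻¹ * u) ≫ q = 1 := by
          rw [← hm, Category.assoc, GrpPtsLib.comp_eq_one_of_isKernel hker]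
        rw [MonObj.mul_comp, GrpObj.inv_comp, inv_mul_eq_one] at h1
        exact h1.symm
    obtain ⟨ψ, hψ⟩ := GrpQuotLib.exists_desc q φ (fun T u v e => (hq_iff u v).1 e)
    obtain ⟨ψ', hψ'⟩ := GrpQuotLib.exists_desc φ q (fun T u v e => (hq_iff u v).2 e)
    haveI : Epi q := GrpQuotLib.epi_of_isFpqc q
    haveI : Epi φ := GrpQuotLib.epi_of_isFpqc φ
    haveI : IsIso ψ := ⟨ψ', by rw [← cancel_epi q, ← Category.assoc, hψ, hψ', Category.comp_id],
      by rw [← cancel_epi φ, ← Category.assoc, hψ', hψ, Category.comp_id]⟩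
    haveI : IsIso ψ.left := inferInstanceAs (IsIso ((Over.forget _).map ψ))
    haveI : IsAffine O.left := IsAffine.of_isIso (inv ψ.left)
    haveI : IsProper O.hom := by rw [← Over.w j]; infer_instance
    haveI : ConnectedSpace O.left := φ.left.surjective.connectedSpace φ.left.continuous
    haveI := isIso_pt_of_isAffine_isProper (η[G] ≫ φ)
    haveI : IsIso ((Over.forget _).map (η[G] ≫ φ)) := ‹IsIso (η[G] ≫ φ).left›
    haveI : IsIso (η[G] ≫ φ) := isIso_of_reflects_iso _ (Over.forget _)
    have hconst : ∀ {T : Over (Spec (CommRingCat.of k))} (g : T ⟶ G), lift g (toUnit T ≫ x) ≫ aZ.act = toUnit T ≫ x := by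
      intro T g
      have h1 : g ≫ φ = (1 : T ⟶ G) ≫ φ := by
        rw [← cancel_mono (inv (η[G] ≫ φ))]
        exact toUnit_unique _ _
      rw [← GrpQuotLib.comp_orbitMap, ← hφj, ← Category.assoc, h1, Category.assoc, hφj, GrpQuotLib.comp_orbitMap,
        GrpQuotLib.one_smul]
    refine ⟨x ≫ incl, fun T g => ?_⟩
    rw [← Category.assoc, ← haZ, hconst g]

end Groth.Agent.GenSubLib
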