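import Groth.Agent.GenSubLib.Borel
import Groth.Prelude.Def_AGF

/-!
# A solvable subgroup with proper quotient is a Borel subgroup
-/

set_option autoImplicit false
set_option backward.isDefEq.respectTransparency false
set_option backward.isDefEq.respectTransparency.types false
set_option linter.style.haveILetI false
set_option linter.unusedSectionVars false

universe u

open CategoryTheory CategoryTheory.Limits MonoidalCategory CartesianMonoidalCategory MonObj AlgebraicGeometry

noncomputable section

namespace Groth.Agent.GenSubLib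

/-- An action restricted along a homomorphism. -/
def resAction {S : Scheme.{u}} {D G X : Over S} [GrpObj D] [GrpObj G] (a : AlgGrp.Action G X) (i : D ⟶ G)
    [IsMonHom i] : AlgGrp.Action D X where
  act := (i ▷ X) ≫ a.act
  one_act := by rw [← comp_whiskerRight_assoc, IsMonHom.one_hom i, a.one_act]
  mul_act := by
    let p₁ : (D ⊗ D) ⊗ X ⟶ D := fst _ _ ≫ fst _ _
    let p₂ : (D ⊗ D) ⊗ X ⟶ D := fst _ _ ≫ snd _ _
    have e1 : μ[D] ▷ X = lift (p₁ * p₂) (snd _ _) := by
      apply CartesianMonoidalCategory.hom_ext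
      · rw [whiskerRight_fst, lift_fst, Hom.mul_def, ← comp_lift_assoc, lift_fst_snd, Category.id_comp]
      · simp
    have e2 : (α_ D D X).hom ≫ D ◁ ((i ▷ X) ≫ a.act) =
        lift p₁ (lift p₂ (snd _ _) ≫ (i ▷ X) ≫ a.act) := by
      apply CartesianMonoidalCategory.hom_ext
      · simp [p₁]
      · rw [Category.assoc, whiskerLeft_snd, lift_snd, ← Category.assoc]
        congr 1
        apply CartesianMonoidalCategory.hom_ext <;> simp [p₂]
    conv_lhs => rw [e1]
    rw [← Category.assoc (α_ D D X).hom, e2, lift_whiskerRight_assoc, lift_whiskerRight_assoc,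
      lift_whiskerRight_assoc, MonObj.mul_comp, GrpQuotLib.mul_smul]

theorem resAction_apply {S : Scheme.{u}} {D G X : Over S} [GrpObj D] [GrpObj G] (a : AlgGrp.Action G X) (i : D ⟶ G)
    [IsMonHom i] {T : Over S} (d : T ⟶ D) (v : T ⟶ X) :
    lift d v ≫ (resAction a i).act = lift (d ≫ i) v ≫ a.act := by
  show lift d v ≫ (i ▷ X) ≫ a.act = _
  rw [lift_whiskerRight_assoc]

/-- A closed immersion of an irreducible Noetherian reduced scheme into itself is an isomorphism. -/
theorem isIso_of_isClosedImmersion_endo {X : Scheme.{u}} [TopologicalSpace.NoetherianSpace X] [IsReduced X]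
    (e : X ⟶ X) [IsClosedImmersion e] : IsIso e := by
  have he : ∀ n : ℕ, Topology.IsClosedEmbedding (e.base : X → X)^[n] := fun n => by
    induction n with
    | zero => exact Topology.IsClosedEmbedding.id
    | succ n ih => rw [Function.iterate_succ]; exact ih.comp e.isClosedEmbedding
  let C : ℕ → TopologicalSpace.Closeds X := fun n => ⟨_, (he n).isClosed_range⟩
  obtain ⟨_, ⟨n, rfl⟩, hn⟩ := wellFounded_lt.has_min (Set.range C) ⟨_, ⟨0, rfl⟩⟩
  haveI : Surjective e := ⟨fun y => by
    by_contra hy
    refine hn (C (n + 1)) ⟨_, rfl⟩ (lt_of_le_of_ne ?_ fun h => hy ?_)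
    · rintro _ ⟨z, rfl⟩
      exact ⟨e z, (Function.iterate_succ_apply _ n z).symm⟩
    · obtain ⟨z, hz⟩ := (h.symm ▸ ⟨y, rfl⟩ : (e.base : X → X)^[n] y ∈ C (n + 1))
      rw [Function.iterate_succ_apply] at hz
      exact ⟨z, (he n).injective hz⟩⟩
  exact isIso_of_isClosedImmersion_of_surjective e

variable {k : Type u} [Field k] [IsAlgClosed k]

/-- A smooth connected solvable closed subgroup with proper quotient is a Borel subgroup. -/
theorem isBorelOver_of_isProper_quotient {G H : Over (Spec (CommRingCat.of k))} [GrpObj G] [IsAffine G.left]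
    [Smooth G.hom] [GrpObj H] (iH : H ⟶ G) [IsMonHom iH] (hcl : IsClosedImmersion iH.left) [Smooth H.hom]
    [ConnectedSpace H.left] (hsolv : Red.IsSolvableGrp H)
    (X : Over (Spec (CommRingCat.of k))) (a : AlgGrp.Action G X) (o : 𝟙_ (Over (Spec (CommRingCat.of k))) ⟶ X)
    (hX : AGF.IsQuotient iH X a o) (hp : IsProper X.hom) : Red.IsBorelOver k iH := by
  refine ⟨‹_›, hcl, ‹_›, ‹_›, hsolv, fun B _ iB _ f hiB _ _ hBs hf => ?_⟩
  haveI := hiB
  haveI := hp
  obtain ⟨n, hn⟩ := hBs
  obtain ⟨-, -, hsurj, hpb⟩ := hX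
  haveI := hsurj
  haveI : Nonempty X.left := ⟨o.left base₀⟩
  haveI : IsAffine B.left := isAffine_of_isAffineHom iB.left
  obtain ⟨x, hx⟩ := borel_aux n B (hn _) X (resAction a iB)
  obtain ⟨g, hg⟩ := exists_pt_lift (a.orbitMap o) x ((a.orbitMap o).left.surjective _)
  let gB : B ⟶ G := toUnit B ≫ g
  obtain ⟨c, hc⟩ : ∃ c : B ⟶ H, c ≫ iH = gB⁻¹ * (iB * gB) := by
    have e : gB ≫ a.orbitMap o = (iB * gB) ≫ a.orbitMap o := by
      have h1 := hx B (𝟙 B)
      rw [resAction_apply, Category.id_comp] at h1
      have h2 : lift gB (toUnit B ≫ o) ≫ a.act = toUnit B ≫ x := by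
        rw [← GrpQuotLib.comp_orbitMap, Category.assoc, hg]
      rw [GrpQuotLib.comp_orbitMap, GrpQuotLib.comp_orbitMap, GrpQuotLib.mul_smul, h2, h1]
    refine ⟨hpb.lift gB (iB * gB) e ≫ snd G H, ?_⟩
    have e1 := hpb.lift_fst gB (iB * gB) e
    have e2 := hpb.lift_snd gB (iB * gB) e
    generalize hpb.lift gB (iB * gB) e = l at e1 e2 ⊢
    rw [show G ◁ iH = lift (fst G H) (snd G H ≫ iH) from by
      apply CartesianMonoidalCategory.hom_ext <;> simp, comp_lift_assoc, e1, ← Hom.mul_def] at e2
    rw [Category.assoc, ← e2, inv_mul_cancel_left]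
  have hcc : IsClosedImmersion c.left := by
    let cg : G ⟶ G := toUnit G ≫ g
    let θ : G ⟶ G := cg⁻¹ * (𝟙 G * cg)
    have hcg : ∀ {Y : Over (Spec (CommRingCat.of k))} (m : Y ⟶ G), m ≫ cg = toUnit Y ≫ g := fun m => by
      simp [cg]
    haveI : IsIso θ := by
      refine ⟨cg * (𝟙 G * cg⁻¹), ?_, ?_⟩
      · rw [MonObj.comp_mul, MonObj.comp_mul, GrpObj.comp_inv, hcg, Category.comp_id]
        show cg * (cg⁻¹ * (𝟙 G * cg) * cg⁻¹) = 𝟙 G
        group
      · rw [MonObj.comp_mul, MonObj.comp_mul, GrpObj.comp_inv, hcg, Category.comp_id]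
        show cg⁻¹ * (cg * (𝟙 G * cg⁻¹) * cg) = 𝟙 G
        group
    have h1 : c ≫ iH = iB ≫ θ := by
      rw [hc, MonObj.comp_mul, MonObj.comp_mul, GrpObj.comp_inv, hcg, Category.comp_id]
    haveI : IsIso θ.left := inferInstanceAs (IsIso ((Over.forget _).map θ))
    haveI : IsClosedImmersion (c.left ≫ iH.left) := by
      rw [← Over.comp_left, h1, Over.comp_left]; infer_instance
    exact IsClosedImmersion.of_comp c.left iH.left
  haveI : IsClosedImmersion f.left := by
    haveI : IsClosedImmersion (f.left ≫ iB.left) := by rw [← Over.comp_left, hf]; exact hcl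
    exact IsClosedImmersion.of_comp f.left iB.left
  haveI := hcc
  haveI : IsClosedImmersion (f ≫ c).left := by rw [Over.comp_left]; infer_instance
  haveI : IsReduced H.left := ASp.isReduced_of_smooth H.hom
  haveI : LocallyOfFiniteType H.hom := inferInstance
  haveI : QuasiCompact H.hom := by rw [← Over.w iH]; infer_instance
  haveI : IsNoetherian H.left := by
    haveI : IsLocallyNoetherian H.left := LocallyOfFiniteType.isLocallyNoetherian H.hom
    haveI : CompactSpace H.left := (quasiCompact_iff_compactSpace H.hom).1 inferInstance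
    exact ⟨⟩
  haveI : IsIso (f ≫ c).left := isIso_of_isClosedImmersion_endo _
  haveI : IsReduced B.left := ASp.isReduced_of_smooth B.hom
  haveI : Surjective c.left := by
    haveI : Surjective (f.left ≫ c.left) := by rw [← Over.comp_left]; infer_instance
    exact Surjective.of_comp f.left c.left
  haveI : IsIso c.left := isIso_of_isClosedImmersion_of_surjective _
  haveI : IsIso f.left := by
    have : IsIso (f.left ≫ c.left) := by rw [← Over.comp_left]; infer_instance
    exact IsIso.of_isIso_comp_right f.left c.left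
  haveI : IsIso ((Over.forget _).map f) := ‹IsIso f.left›
  exact isIso_of_reflects_iso f (Over.forget _)

end Groth.Agent.GenSubLib
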