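import Groth.Agent.GenSubLib.CommutatorPts
import Mathlib.AlgebraicGeometry.Group.Smooth

/-!
# The derived subgroup of a connected smooth group
-/

set_option autoImplicit false
set_option backward.isDefEq.respectTransparency false
set_option backward.isDefEq.respectTransparency.types false
set_option linter.style.haveILetI false
set_option linter.unusedSectionVars false

universe u

open CategoryTheory CategoryTheory.Limits MonoidalCategory CartesianMonoidalCategory MonObj AlgebraicGeometry
open scoped commutatorElement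

noncomputable section

namespace Groth.Agent.GenSubLib

variable {k : Type u} [Field k] [IsAlgClosed k] {G : Over (Spec (CommRingCat.of k))} [GrpObj G]
  [LocallyOfFiniteType G.hom]

/-- Reduced closed subgroups with the same rational points are equal. -/
theorem exists_iso_of_pts_eq {D D' : Over (Spec (CommRingCat.of k))} (i : D ⟶ G) (i' : D' ⟶ G)
    [IsClosedImmersion i.left] [IsClosedImmersion i'.left] [IsReduced D.left] [IsReduced D'.left]
    (h : Set.range (fun d : 𝟙_ (Over (Spec (CommRingCat.of k))) ⟶ D => d ≫ i) =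
      Set.range (fun d : 𝟙_ (Over (Spec (CommRingCat.of k))) ⟶ D' => d ≫ i')) :
    ∃ φ : D ≅ D', φ.hom ≫ i' = i := by
  haveI : Mono i := Over.mono_of_mono_left i
  haveI : Mono i' := Over.mono_of_mono_left i'
  haveI : LocallyOfFiniteType D.hom := by rw [← Over.w i]; infer_instance
  haveI : LocallyOfFiniteType D'.hom := by rw [← Over.w i']; infer_instance
  haveI : JacobsonSpace D.left := LocallyOfFiniteType.jacobsonSpace D.hom
  haveI : JacobsonSpace D'.left := LocallyOfFiniteType.jacobsonSpace D'.hom
  have key : ∀ {E E' : Over (Spec (CommRingCat.of k))} (j : E ⟶ G) (j' : E' ⟶ G) [IsClosedImmersion j'.left]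
      [JacobsonSpace E.left] [LocallyOfFiniteType E.hom],
      Set.range (fun d : 𝟙_ (Over (Spec (CommRingCat.of k))) ⟶ E => d ≫ j) ⊆
        Set.range (fun d : 𝟙_ (Over (Spec (CommRingCat.of k))) ⟶ E' => d ≫ j') →
      Set.range j.left ⊆ Set.range j'.left := by
    intro E E' j j' _ _ _ hsub
    rintro _ ⟨x, rfl⟩
    have hcl : IsClosed (j.left ⁻¹' Set.range j'.left) :=
      j'.left.isClosedEmbedding.isClosed_range.preimage j.left.continuous
    refine (hcl.closure_subset_iff.2 ?_) (closure_closedPoints (X := E.left) ▸ Set.mem_univ x)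
    intro w hw
    obtain ⟨t, rfl⟩ := exists_pt (P := E) hw
    obtain ⟨t', ht'⟩ := hsub ⟨t, rfl⟩
    exact ⟨t'.left base₀, congrArg (fun g => g.left base₀) ht'⟩
  obtain ⟨f, hf⟩ := exists_lift_of_range i' i (key i i' h.le)
  obtain ⟨f', hf'⟩ := exists_lift_of_range i i' (key i' i h.ge)
  exact ⟨⟨f, f', by rw [← cancel_mono i, Category.assoc, hf', hf, Category.id_comp],
    by rw [← cancel_mono i', Category.assoc, hf, hf', Category.id_comp]⟩, hf⟩

theorem exists_derived [Smooth G.hom] [QuasiCompact G.hom] [ConnectedSpace G.left] :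
    ∃ (D : Over (Spec (CommRingCat.of k))) (_ : GrpObj D) (i : D ⟶ G), IsMonHom i ∧ IsClosedImmersion i.left ∧
      Smooth D.hom ∧
      Set.range (fun d : 𝟙_ (Over (Spec (CommRingCat.of k))) ⟶ D => d ≫ i) =
        ((commutator (𝟙_ (Over (Spec (CommRingCat.of k))) ⟶ G) : Subgroup (𝟙_ (Over (Spec (CommRingCat.of k))) ⟶ G)) :
          Set (𝟙_ (Over (Spec (CommRingCat.of k))) ⟶ G)) := by
  haveI : GeometricallyReduced G.hom := AVLib.geometricallyReduced_of_smooth G.hom
  haveI := geometricallyReduced_tensor G G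
  obtain ⟨D, hD, i, hi, hci, -, hgr, -, hfac, -, hmin⟩ :=
    exists_generated (X := fun _ : PUnit.{1} => G ⊗ G) (fun _ : PUnit.{1} => commMap (𝟙 G) (𝟙 G))
  haveI := hci
  haveI := hi
  haveI := hgr
  letI := hD
  haveI : LocallyOfFiniteType D.hom := by rw [← Over.w i]; infer_instance
  haveI : IsClosedImmersion (𝟙 G : G ⟶ G).left := inferInstanceAs (IsClosedImmersion (𝟙 G.left))
  refine ⟨D, hD, i, hi, hci, @smooth_of_grpObj _ _ _ D.hom ‹LocallyOfFiniteType D.hom› hD hgr, ?_⟩
  rw [range_pts_of_min (𝟙 G) (𝟙 G) (Or.inr ‹_›) D i (hfac PUnit.unit)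
    fun Γ' h' i' h1 h2 h3 => hmin Γ' h' i' h1 h2 fun _ => h3]
  simp only [Category.comp_id, Set.range_id', Subgroup.closure_univ, commutator_def]

end Groth.Agent.GenSubLib
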