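import Mathlib

/-!
# Dense families into reduced schemes over a field stay schematically dominant after any base change

For a reduced scheme over a field and a family of morphisms into it with dense union of images,
base change along any scheme over the field keeps the family jointly schematically dominant.
-/

set_option autoImplicit false
set_option backward.isDefEq.respectTransparency false
set_option linter.style.haveILetI false

universe u

open CategoryTheory CategoryTheory.Limits AlgebraicGeometry TensorProduct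

noncomputable section

namespace Groth.Agent.GenSubLib

/-- Tensoring with a vector space keeps separated elements separated. -/
theorem exists_map_ne_zero {k R B : Type u} [Field k] [CommRing R] [CommRing B] [Algebra k R] [Algebra k B]
    {x : R ⊗[k] B} (hx : x ≠ 0) : ∃ r : R, r ≠ 0 ∧ ∀ (A : Type u) [CommRing A] [Algebra k A] (φ : R →ₐ[k] A),
      φ r ≠ 0 → Algebra.TensorProduct.map φ (AlgHom.id k B) x ≠ 0 := by
  let c := Module.Free.chooseBasis k B
  let E := TensorProduct.equivFinsuppOfBasisRight (M := R) c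
  have : ∃ i, E x i ≠ 0 := by
    by_contra h
    push Not at h
    exact hx (E.injective (by rw [map_zero]; exact Finsupp.ext h))
  obtain ⟨i, hi⟩ := this
  refine ⟨E x i, hi, fun A _ _ φ hφ h => hφ ?_⟩
  have key : ∀ y : R ⊗[k] B, TensorProduct.equivFinsuppOfBasisRight (M := A) c
      (Algebra.TensorProduct.map φ (AlgHom.id k B) y) i = φ (E y i) := fun y => by
    induction y using TensorProduct.induction_on with
    | zero => simp
    | tmul a b => simp [E]
    | add a b ha hb => simp [ha, hb]
  rw [← key, h, map_zero, Finsupp.zero_apply]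

variable {k : Type u} [Field k]

/-- Algebra structures on affine opens. -/
theorem exists_algebra {R : CommRingCat.{u}} (p : Spec R ⟶ Spec (CommRingCat.of k)) :
    ∃ _ : Algebra k R, Spec.map (CommRingCat.ofHom (algebraMap k R)) = p :=
  ⟨(Spec.preimage p).hom.toAlgebra, Spec.map_preimage p⟩

/-- A nonzero function on an affine open of a reduced scheme is seen by a dense family. -/
theorem exists_chart_ne_zero {Γ₀ : Scheme.{u}} [IsReduced Γ₀] {J : Type*} {Y : J → Scheme.{u}}
    (h : ∀ j, Y j ⟶ Γ₀) (hd : Dense (⋃ j, Set.range (h j)))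
    {R : CommRingCat.{u}} (u : Spec R ⟶ Γ₀) [IsOpenImmersion u] {r : R} (hr : r ≠ 0) :
    ∃ (j : J) (A : CommRingCat.{u}) (φ : R ⟶ A) (w : Spec A ⟶ Y j),
      IsOpenImmersion w ∧ w ≫ h j = Spec.map φ ≫ u ∧ φ.hom r ≠ 0 := by
  haveI : IsReduced (Spec R) := isReduced_of_isOpenImmersion u
  haveI : _root_.IsReduced R := (affine_isReduced_iff R).1 inferInstance
  let O := PrimeSpectrum.basicOpen r
  have hne : (O : Set (PrimeSpectrum R)).Nonempty := by
    rw [Set.nonempty_iff_ne_empty]
    intro he
    exact hr (IsNilpotent.eq_zero ((PrimeSpectrum.basicOpen_eq_bot_iff r).1 (SetLike.coe_injective (he.trans TopologicalSpace.Opens.coe_bot.symm))))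
  let O' : (Spec R).Opens := O
  have hop : IsOpen (u '' (O' : Set ↥(Spec R))) := u.isOpenEmbedding.isOpenMap _ O'.isOpen
  obtain ⟨z, hz, hz'⟩ := hd.exists_mem_open hop (hne.image _)
  obtain ⟨j, hj⟩ := Set.mem_iUnion.1 hz
  obtain ⟨y, rfl⟩ := hj
  obtain ⟨_, ⟨V, hV : IsAffineOpen V, rfl⟩, hyV, hVO⟩ :=
    (Y j).isBasis_affineOpens.exists_subset_of_mem_open
      (show y ∈ (h j) ⁻¹' (u '' (O' : Set ↥(Spec R))) from hz') (hop.preimage (h j).continuous)
  have hr' : Set.range (hV.fromSpec ≫ h j) ⊆ Set.range u := by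
    rintro _ ⟨v, rfl⟩
    obtain ⟨t, -, ht⟩ := hVO (hV.range_fromSpec ▸ Set.mem_range_self v)
    exact ⟨t, ht⟩
  let l := IsOpenImmersion.lift u (hV.fromSpec ≫ h j) hr'
  refine ⟨j, Γ(Y j, V), Spec.preimage l, hV.fromSpec, inferInstance, ?_, fun h0 => ?_⟩
  · rw [Spec.map_preimage, IsOpenImmersion.lift_fac]
  · obtain ⟨v, hv⟩ : y ∈ Set.range hV.fromSpec := by rw [hV.range_fromSpec]; exact hyV
    obtain ⟨t, ht, htu⟩ := hz'
    have e1 : (Spec.map (Spec.preimage l)) v = t := by
      refine u.isOpenEmbedding.injective ?_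
      rw [htu, Spec.map_preimage, ← Scheme.Hom.comp_apply, IsOpenImmersion.lift_fac, Scheme.Hom.comp_apply, hv]
    rw [← e1] at ht
    exact ht (by show r ∈ Ideal.comap _ _; rw [Ideal.mem_comap, h0]; exact zero_mem _)

/-- The affine charts of a product. -/
theorem exists_chart_prod {Γ₀ T : Scheme.{u}} (p : Γ₀ ⟶ Spec (CommRingCat.of k)) (q : T ⟶ Spec (CommRingCat.of k))
    {R B : CommRingCat.{u}} [Algebra k R] [Algebra k B] (u : Spec R ⟶ Γ₀) [IsOpenImmersion u] (v : Spec B ⟶ T)
    [IsOpenImmersion v] (hu : u ≫ p = Spec.map (CommRingCat.ofHom (algebraMap k R)))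
    (hv : v ≫ q = Spec.map (CommRingCat.ofHom (algebraMap k B))) :
    ∃ c : Spec (CommRingCat.of (R ⊗[k] B)) ⟶ pullback p q, IsOpenImmersion c ∧
      c ≫ pullback.fst p q = Spec.map (CommRingCat.ofHom Algebra.TensorProduct.includeLeftRingHom) ≫ u ∧
      c ≫ pullback.snd p q =
        Spec.map (CommRingCat.ofHom (Algebra.TensorProduct.includeRight (A := R)).toRingHom) ≫ v := by
  refine ⟨(pullbackSpecIso k R B).inv ≫ pullback.map (Spec.map (CommRingCat.ofHom (algebraMap k R))) _ p q u v (𝟙 _)
    (by rw [Category.comp_id, hu]) (by rw [Category.comp_id, hv]), inferInstance, ?_, ?_⟩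
  · rw [Category.assoc, pullback.lift_fst, pullbackSpecIso_inv_fst_assoc]
  · rw [Category.assoc, pullback.lift_snd, pullbackSpecIso_inv_snd_assoc]
    rfl

/-- The union of the charts covers. -/
theorem isReduced_pullback_of_dense {Γ₀ T : Scheme.{u}} [IsReduced Γ₀] (p : Γ₀ ⟶ Spec (CommRingCat.of k))
    (q : T ⟶ Spec (CommRingCat.of k)) {J : Type*} {Y : J → Scheme.{u}} (h : ∀ j, Y j ⟶ Γ₀)
    (hd : Dense (⋃ j, Set.range (h j))) (hred : ∀ j, IsReduced (pullback (h j ≫ p) q)) :
    IsReduced (pullback p q) := by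
  apply +allowSynthFailures @IsReduced.of_openCover
    (𝒰 := Scheme.Pullback.openCoverOfLeftRight Γ₀.affineOpenCover.openCover T.affineOpenCover.openCover p q)
  rintro ⟨a, b⟩
  show IsReduced (pullback (Γ₀.affineOpenCover.f a ≫ p) (T.affineOpenCover.f b ≫ q))
  obtain ⟨_, ha⟩ := exists_algebra (k := k) (Γ₀.affineOpenCover.f a ≫ p)
  obtain ⟨_, hb⟩ := exists_algebra (k := k) (T.affineOpenCover.f b ≫ q)
  rw [← ha, ← hb]
  haveI : _root_.IsReduced ((Γ₀.affineOpenCover.X a) ⊗[k] (T.affineOpenCover.X b)) := ⟨fun x hx => by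
    by_contra hne
    obtain ⟨r, hr, hr'⟩ := exists_map_ne_zero hne
    obtain ⟨j, A, φ, w, hw, hwh, hφ⟩ := exists_chart_ne_zero h hd (Γ₀.affineOpenCover.f a) hr
    obtain ⟨_, hA⟩ := exists_algebra (k := k) (w ≫ h j ≫ p)
    let φ' : _ →ₐ[k] A := ⟨φ.hom, fun c => by
      refine DFunLike.congr_fun (congrArg CommRingCat.Hom.hom (Spec.map_injective
        (show Spec.map (CommRingCat.ofHom (algebraMap k (Γ₀.affineOpenCover.X a)) ≫ φ) =
          Spec.map (CommRingCat.ofHom (algebraMap k A)) from ?_))) c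
      rw [Spec.map_comp, ha, hA, ← Category.assoc w, hwh, Category.assoc]⟩
    obtain ⟨c, hc, -, -⟩ := exists_chart_prod (h j ≫ p) q w (T.affineOpenCover.f b) hA.symm hb.symm
    haveI := hred j
    haveI := isReduced_of_isOpenImmersion c
    haveI : _root_.IsReduced (A ⊗[k] (T.affineOpenCover.X b)) :=
      (affine_isReduced_iff (CommRingCat.of (A ⊗[k] (T.affineOpenCover.X b)))).1 ‹_›
    exact hr' A φ' hφ ((hx.map (Algebra.TensorProduct.map φ' (AlgHom.id k _))).eq_zero)⟩
  haveI : _root_.IsReduced (CommRingCat.of ((Γ₀.affineOpenCover.X a) ⊗[k] (T.affineOpenCover.X b))) := this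
  exact isReduced_of_isOpenImmersion (pullbackSpecIso k _ _).hom

/-- A closed subscheme containing a dense family after base change is everything. -/
theorem isIso_of_dense_factor {Γ₀ T Z : Scheme.{u}} [IsReduced Γ₀] (p : Γ₀ ⟶ Spec (CommRingCat.of k))
    (q : T ⟶ Spec (CommRingCat.of k)) {J : Type*} {Y : J → Scheme.{u}} (h : ∀ j, Y j ⟶ Γ₀)
    (hd : Dense (⋃ j, Set.range (h j))) (c : Z ⟶ pullback p q) [IsClosedImmersion c]
    (hfac : ∀ j, ∃ l : pullback (h j ≫ p) q ⟶ Z,
      l ≫ c = pullback.map (h j ≫ p) q p q (h j) (𝟙 _) (𝟙 _) (Category.comp_id _) (by rw [Category.comp_id, Category.id_comp])) :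
    IsIso c := by
  refine (IsZariskiLocalAtTarget.iff_of_openCover (P := MorphismProperty.isomorphisms Scheme.{u})
    (Scheme.Pullback.openCoverOfLeftRight Γ₀.affineOpenCover.openCover T.affineOpenCover.openCover p q)).2 ?_
  rintro ⟨a, b⟩
  obtain ⟨_, ha⟩ := exists_algebra (k := k) (Γ₀.affineOpenCover.f a ≫ p)
  obtain ⟨_, hb⟩ := exists_algebra (k := k) (T.affineOpenCover.f b ≫ q)
  obtain ⟨u₀, hu₀, hu1, hu2⟩ := exists_chart_prod p q (Γ₀.affineOpenCover.f a) (T.affineOpenCover.f b) ha.symm hb.symm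
  let o := (Scheme.Pullback.openCoverOfLeftRight Γ₀.affineOpenCover.openCover T.affineOpenCover.openCover p q).f (a, b)
  haveI : IsIso (pullback.snd c u₀) := by
    obtain ⟨I, e, he⟩ := (IsClosedImmersion.Spec_iff (f := pullback.snd c u₀)).1 (MorphismProperty.pullback_snd _ _ inferInstance)
    have hI : I = ⊥ := by
      rw [eq_bot_iff]
      intro x hx
      rw [Ideal.mem_bot]
      by_contra hne
      obtain ⟨r, hr, hr'⟩ := exists_map_ne_zero hne
      obtain ⟨j, A, φ, w, hw, hwh, hφ⟩ := exists_chart_ne_zero h hd (Γ₀.affineOpenCover.f a) hr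
      obtain ⟨_, hA⟩ := exists_algebra (k := k) (w ≫ h j ≫ p)
      let φ' : _ →ₐ[k] A := ⟨φ.hom, fun z => by
        refine DFunLike.congr_fun (congrArg CommRingCat.Hom.hom (Spec.map_injective
          (show Spec.map (CommRingCat.ofHom (algebraMap k (Γ₀.affineOpenCover.X a)) ≫ φ) =
            Spec.map (CommRingCat.ofHom (algebraMap k A)) from ?_))) z
        rw [Spec.map_comp, ha, hA, ← Category.assoc w, hwh, Category.assoc]⟩
      obtain ⟨d, hd', hd1, hd2⟩ := exists_chart_prod (h j ≫ p) q w (T.affineOpenCover.f b) hA.symm hb.symm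
      let ψ : CommRingCat.of ((Γ₀.affineOpenCover.X a) ⊗[k] (T.affineOpenCover.X b)) ⟶
          CommRingCat.of (A ⊗[k] (T.affineOpenCover.X b)) :=
        CommRingCat.ofHom (Algebra.TensorProduct.map φ' (AlgHom.id k (T.affineOpenCover.X b))).toRingHom
      obtain ⟨l, hl⟩ := hfac j
      have hsq : (d ≫ l) ≫ c = Spec.map ψ ≫ u₀ := by
        rw [Category.assoc, hl]
        apply pullback.hom_ext
        · rw [Category.assoc, pullback.lift_fst, ← Category.assoc, hd1, Category.assoc, hwh, Category.assoc,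
            hu1, ← Spec.map_comp_assoc, ← Spec.map_comp_assoc]
          congr 2
        · rw [Category.assoc, pullback.lift_snd, Category.comp_id, hd2, Category.assoc, hu2, ← Spec.map_comp_assoc]
          congr 2
          ext z
          simp [ψ, φ']
      let m := pullback.lift (d ≫ l) (Spec.map ψ) hsq ≫ e.hom
      have hm : m ≫ Spec.map (CommRingCat.ofHom (Ideal.Quotient.mk I)) = Spec.map ψ := by
        rw [Category.assoc, ← he, pullback.lift_snd]
      have hψ : CommRingCat.ofHom (Ideal.Quotient.mk I) ≫ Spec.preimage m = ψ := Spec.map_injective (by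
        rw [Spec.map_comp, Spec.map_preimage, hm])
      refine hr' A φ' hφ ?_
      have := DFunLike.congr_fun (congrArg CommRingCat.Hom.hom hψ) x
      simp only [CommRingCat.hom_comp, RingHom.comp_apply, CommRingCat.hom_ofHom] at this
      rw [Ideal.Quotient.eq_zero_iff_mem.2 hx, map_zero] at this
      exact this.symm
    haveI : IsIso (CommRingCat.ofHom (Ideal.Quotient.mk I)) := by
      rw [ConcreteCategory.isIso_iff_bijective]
      refine ⟨fun z z' hz => ?_, Ideal.Quotient.mk_surjective⟩
      have := Ideal.Quotient.eq.1 hz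
      rwa [hI, Ideal.mem_bot, sub_eq_zero] at this
    rw [he]
    infer_instance
  show IsIso (pullback.snd c o)
  let σ := pullback.congrHom ha.symm hb.symm ≪≫ pullbackSpecIso k _ _
  have ho : σ.hom ≫ u₀ = o := by
    apply pullback.hom_ext
    · simp [σ, o, hu1]; rfl
    · simp [σ, o, hu2]; rfl
  have hpb : IsPullback (pullback.fst c o) (pullback.snd c o) c o := IsPullback.of_hasPullback c o
  have hpb' : IsPullback (pullback.fst c u₀) (pullback.snd c u₀ ≫ σ.inv) c o :=
    (IsPullback.of_hasPullback c u₀).of_iso (Iso.refl _) (Iso.refl _) σ.symm (Iso.refl _) (by simp) (by simp) (by simp)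
      (by rw [← ho]; simp)
  rw [← hpb.isoIsPullback_hom_snd _ _ hpb']
  infer_instance

end Groth.Agent.GenSubLib
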