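import Groth.Agent.GenSubLib.Apps
import Groth.Agent.AVLib.GeomInt
import Groth.Agent.GrpSchLib.Component

/-!
# The subgroup generated by two subgroups, one normalising the other
-/

set_option autoImplicit false
set_option backward.isDefEq.respectTransparency false
set_option backward.isDefEq.respectTransparency.types false
set_option linter.style.haveILetI false
set_option linter.unusedSectionVars false

universe u

open CategoryTheory CategoryTheory.Limits MonoidalCategory CartesianMonoidalCategory MonObj AlgebraicGeometry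

noncomputable section

namespace Groth.Agent.GenSubLib

variable {k : Type u} [Field k] {G A B : Over (Spec (CommRingCat.of k))} [GrpObj G] [GrpObj A] [GrpObj B]
  (a : A ⟶ G) (b : B ⟶ G)

/-- Points which are products of a point of `A` and a point of `B`. -/
def IsProd {T : Over (Spec (CommRingCat.of k))} (g : T ⟶ G) : Prop :=
  ∃ (x : T ⟶ A) (y : T ⟶ B), g = (x ≫ a) * (y ≫ b)

variable [IsMonHom a] [IsMonHom b]
  (hN : ∀ (T : Over (Spec (CommRingCat.of k))) (y : T ⟶ B) (x : T ⟶ A),
    ∃ x' : T ⟶ A, (y ≫ b) * (x ≫ a) * (y ≫ b)⁻¹ = x' ≫ a)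

omit [GrpObj B] [IsMonHom b] in
theorem isProd_one {T : Over (Spec (CommRingCat.of k))} (y : T ⟶ B) : IsProd a b (y ≫ b) :=
  ⟨1, y, by rw [MonObj.one_comp, _root_.one_mul]⟩

omit [GrpObj A] [IsMonHom a] in
theorem isProd_one' {T : Over (Spec (CommRingCat.of k))} (x : T ⟶ A) : IsProd a b (x ≫ a) :=
  ⟨x, 1, by rw [MonObj.one_comp, _root_.mul_one]⟩

include hN in
theorem isProd_mul {T : Over (Spec (CommRingCat.of k))} {g g' : T ⟶ G} (h : IsProd a b g) (h' : IsProd a b g') :
    IsProd a b (g * g') := by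
  obtain ⟨x, y, rfl⟩ := h
  obtain ⟨x', y', rfl⟩ := h'
  obtain ⟨x'', hx''⟩ := hN T y x'
  refine ⟨x * x'', y * y', ?_⟩
  rw [MonObj.mul_comp, MonObj.mul_comp, ← hx'']
  group

include hN in
theorem isProd_inv {T : Over (Spec (CommRingCat.of k))} {g : T ⟶ G} (h : IsProd a b g) :
    IsProd a b g⁻¹ := by
  obtain ⟨x, y, rfl⟩ := h
  obtain ⟨x', hx'⟩ := hN T y⁻¹ x⁻¹
  refine ⟨x', y⁻¹, ?_⟩
  rw [← hx', GrpObj.inv_comp, GrpObj.inv_comp]
  group

/-- The family of the two morphisms. -/
abbrev pairSrc (A B : Over (Spec (CommRingCat.of k))) : Bool → Over (Spec (CommRingCat.of k))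
  | true => A
  | false => B

/-- The family of the two morphisms. -/
abbrev pairMap : ∀ j : Bool, pairSrc A B j ⟶ G
  | true => a
  | false => b

include hN in
theorem isProd_word : ∀ (l : List (Bool × Bool)) {T : Over (Spec (CommRingCat.of k))} (t : T ⟶ src (pairSrc A B) l),
    IsProd a b (t ≫ word (pairMap a b) l)
  | [], T, t => ⟨1, 1, by rw [comp_word_nil, MonObj.one_comp, MonObj.one_comp, _root_.one_mul]⟩
  | (true, true) :: l, T, t => by
    rw [word_cons, MonObj.comp_mul, ← Category.assoc, ← Category.assoc]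
    exact isProd_mul a b hN (isProd_one' a b _) (isProd_word l _)
  | (true, false) :: l, T, t => by
    rw [word_cons, MonObj.comp_mul, ← Category.assoc, ← Category.assoc]
    refine isProd_mul a b hN ?_ (isProd_word l _)
    rw [show letter (pairMap a b) (true, false) = a⁻¹ from rfl, GrpObj.comp_inv]
    exact isProd_inv a b hN (isProd_one' a b _)
  | (false, true) :: l, T, t => by
    rw [word_cons, MonObj.comp_mul, ← Category.assoc, ← Category.assoc]
    exact isProd_mul a b hN (isProd_one a b _) (isProd_word l _)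
  | (false, false) :: l, T, t => by
    rw [word_cons, MonObj.comp_mul, ← Category.assoc, ← Category.assoc]
    refine isProd_mul a b hN ?_ (isProd_word l _)
    rw [show letter (pairMap a b) (false, false) = b⁻¹ from rfl, GrpObj.comp_inv]
    exact isProd_inv a b hN (isProd_one a b _)

omit [IsMonHom a] [IsMonHom b] in
theorem isProd_iff_exists {T : Over (Spec (CommRingCat.of k))} (g : T ⟶ G) :
    IsProd a b g ↔ ∃ w : T ⟶ A ⊗ B, w ≫ (a ⊗ₘ b) ≫ μ[G] = g := by
  constructor
  · rintro ⟨x, y, rfl⟩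
    exact ⟨lift x y, by rw [lift_map_assoc, ← Hom.mul_def]⟩
  · rintro ⟨w, rfl⟩
    refine ⟨w ≫ fst A B, w ≫ snd A B, ?_⟩
    rw [Hom.mul_def, ← lift_map_assoc, ← comp_lift_assoc, lift_fst_snd, Category.id_comp]

variable [LocallyOfFiniteType G.hom] [IsClosedImmersion a.left] [IsClosedImmersion b.left]
  [Smooth A.hom] [QuasiCompact A.hom] [Smooth B.hom] [QuasiCompact B.hom]

include hN in
theorem range_of_min (Γ : Over (Spec (CommRingCat.of k))) [GrpObj Γ] (i : Γ ⟶ G) [IsMonHom i]
    [IsClosedImmersion i.left] (ha : ∃ a' : A ⟶ Γ, a' ≫ i = a) (hb : ∃ b' : B ⟶ Γ, b' ≫ i = b)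
    (hmin : ∀ (Γ' : Over (Spec (CommRingCat.of k))) (_ : GrpObj Γ') (i' : Γ' ⟶ G), IsMonHom i' →
      IsClosedImmersion i'.left → (∃ a'' : A ⟶ Γ', a'' ≫ i' = a) → (∃ b'' : B ⟶ Γ', b'' ≫ i' = b) →
      ∃ j : Γ ⟶ Γ', j ≫ i' = i) :
    IsReduced Γ.left ∧ Set.range i.left.base = Set.range ((a ⊗ₘ b) ≫ μ[G]).left.base := by
  haveI : ∀ j, GeometricallyReduced (pairSrc A B j).hom := by
    rintro ⟨⟩
    · exact AVLib.geometricallyReduced_of_smooth B.hom
    · exact AVLib.geometricallyReduced_of_smooth A.hom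
  obtain ⟨hred, -, hr, q, hq, -⟩ := props_of_min (pairMap a b) i (by rintro ⟨⟩; exacts [hb, ha])
    fun Γ' h' i' h1 h2 h3 => hmin Γ' h' i' h1 h2 (h3 true) (h3 false)
  obtain ⟨a', ha'⟩ := ha
  obtain ⟨b', hb'⟩ := hb
  haveI : Mono i := Over.mono_of_mono_left i
  let c' : A ⊗ B ⟶ Γ := (fst A B ≫ a') * (snd A B ≫ b')
  have hc' : c' ≫ i = (a ⊗ₘ b) ≫ μ[G] := by
    rw [MonObj.mul_comp, Category.assoc, Category.assoc, ha', hb', Hom.mul_def]
    congr 1
  refine ⟨hred, ?_⟩
  show Set.range i.left = Set.range ((a ⊗ₘ b) ≫ μ[G]).left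
  have hW : wordSet (pairMap a b) ⊆ Set.range ((a ⊗ₘ b) ≫ μ[G]).left := by
    refine Set.iUnion_subset fun l => ?_
    obtain ⟨w, hw⟩ := (isProd_iff_exists a b _).1 (isProd_word a b hN l (𝟙 _))
    rw [Category.id_comp] at hw
    rw [← hw, Over.comp_left]
    rintro _ ⟨x, rfl⟩
    exact ⟨w.left x, rfl⟩
  have hdense : Dense (Set.range c'.left) := by
    intro z
    rw [i.left.isClosedEmbedding.isInducing.closure_eq_preimage_closure_image, ← Set.range_comp,
      Set.mem_preimage]
    have e : Set.range (i.left ∘ c'.left) = Set.range ((a ⊗ₘ b) ≫ μ[G]).left := by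
      rw [← hc', Over.comp_left]; rfl
    rw [e]
    exact closure_mono hW (hr ▸ Set.mem_range_self z)
  haveI : LocallyOfFiniteType A.hom := inferInstance
  haveI : LocallyOfFiniteType (A ⊗ B).hom := by
    rw [← Over.w (snd A B)]
    haveI : LocallyOfFiniteType (snd A B).left := MorphismProperty.pullback_snd _ _ (inferInstance : LocallyOfFiniteType A.hom)
    infer_instance
  haveI : QuasiCompact (A ⊗ B).hom := by
    rw [← Over.w (snd A B)]
    haveI : QuasiCompact (snd A B).left := MorphismProperty.pullback_snd _ _ (inferInstance : QuasiCompact A.hom)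
    infer_instance
  haveI : LocallyOfFiniteType Γ.hom := by rw [← Over.w i]; infer_instance
  haveI : IsLocallyNoetherian Γ.left := LocallyOfFiniteType.isLocallyNoetherian Γ.hom
  haveI : LocallyOfFiniteType c'.left := by
    haveI : LocallyOfFiniteType (c'.left ≫ Γ.hom) := by rw [Over.w c']; infer_instance
    exact locallyOfFiniteType_of_comp c'.left Γ.hom
  haveI : QuasiCompact c'.left := by
    haveI : QuasiCompact (c'.left ≫ Γ.hom) := by rw [Over.w c']; infer_instance
    haveI : IsSeparated Γ.hom := GrpSchLib.isSeparated_hom (G := Γ)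
    exact QuasiCompact.of_comp c'.left Γ.hom
  have hlc : Topology.IsLocallyConstructible (Set.range c'.left) := by
    rw [← Set.image_univ]
    exact c'.left.isLocallyConstructible_image Topology.IsLocallyConstructible.univ
  have hO := MonoFibre.SchemeImage.dense_interior_of_isLocallyConstructible hlc hdense
  refine Set.Subset.antisymm ?_ (by rw [← hc', Over.comp_left]; rintro _ ⟨x, rfl⟩; exact ⟨c'.left x, rfl⟩)
  rintro _ ⟨z, rfl⟩
  obtain ⟨T, p, -, -, s, t, e⟩ := exists_quotient_pts (fun _ : PUnit.{1} => c') isOpen_interior hO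
    (fun x hx => Set.mem_iUnion.2 ⟨PUnit.unit, interior_subset hx⟩) z
  obtain ⟨w, hw⟩ := (isProd_iff_exists a b _).1 (isProd_mul a b hN
    (isProd_inv a b hN ((isProd_iff_exists a b _).2 ⟨s, rfl⟩)) ((isProd_iff_exists a b _).2 ⟨t, rfl⟩))
  refine ⟨w.left p, ?_⟩
  rw [← Scheme.Hom.comp_apply, ← Over.comp_left, hw, ← hc', ← Category.assoc, ← Category.assoc,
    ← GrpObj.inv_comp, ← MonObj.mul_comp, Over.comp_left, Scheme.Hom.comp_apply, e]

end Groth.Agent.GenSubLib
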