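import Groth.Agent.GenSubLib.AlgClosed
import Groth.Agent.GrpSchLib.Component
import Groth.Agent.DimFormulaLib.Field
import Groth.Agent.GeomIrred.Scheme

/-!
# Irreducible families through the unit generate in boundedly many steps
-/

set_option autoImplicit false
set_option backward.isDefEq.respectTransparency false
set_option backward.isDefEq.respectTransparency.types false
set_option linter.style.haveILetI false
set_option linter.unusedSectionVars false

universe u v

open CategoryTheory CategoryTheory.Limits MonoidalCategory CartesianMonoidalCategory MonObj AlgebraicGeometry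

noncomputable section

namespace Groth.Agent.GenSubLib

variable {k : Type u} [Field k] {J : Type v} {Y : J → Over (Spec (CommRingCat.of k))}

theorem irreducibleSpace_src [IsAlgClosed k] [∀ j, IrreducibleSpace (Y j).left] (l : List (J × Bool)) :
    IrreducibleSpace (src Y l).left := by
  have : GeometricallyIrreducible (src Y l).hom := by
    induction l with
    | nil =>
      haveI : IrreducibleSpace ↥(src Y []).left := inferInstanceAs (IrreducibleSpace ↥(Spec (CommRingCat.of k)))
      exact GeomIrred.geometricallyIrreducible_of_irreducibleSpace (src Y []).hom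
    | cons a l ih =>
      haveI := GeomIrred.geometricallyIrreducible_of_irreducibleSpace (Y a.1).hom
      haveI : UniversallyOpen (snd (Y a.1) (src Y l)).left :=
        MorphismProperty.pullback_snd _ _ (inferInstance : UniversallyOpen (Y a.1).hom)
      haveI : GeometricallyIrreducible (snd (Y a.1) (src Y l)).left :=
        MorphismProperty.pullback_snd _ _ ‹GeometricallyIrreducible (Y a.1).hom›
      show GeometricallyIrreducible (Y a.1 ⊗ src Y l).hom
      rw [← Over.w (snd (Y a.1) (src Y l))]
      exact GeometricallyIrreducible.comp _ _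
  exact GeometricallyIrreducible.irreducibleSpace_of_subsingleton (f := (src Y l).hom)

theorem compactSpace_src [∀ j, QuasiCompact (Y j).hom] (l : List (J × Bool)) : CompactSpace (src Y l).left := by
  have : QuasiCompact (src Y l).hom := by
    induction l with
    | nil =>
      show QuasiCompact (𝟙 (Spec (CommRingCat.of k)))
      infer_instance
    | cons a l ih =>
      haveI := ih
      show QuasiCompact (Y a.1 ⊗ src Y l).hom
      rw [← Over.w (snd (Y a.1) (src Y l))]
      haveI : QuasiCompact (snd (Y a.1) (src Y l)).left :=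
        MorphismProperty.pullback_snd _ _ (inferInstance : QuasiCompact (Y a.1).hom)
      infer_instance
  exact (quasiCompact_iff_compactSpace (src Y l).hom).1 this

variable {G : Over (Spec (CommRingCat.of k))} [GrpObj G] (g : ∀ j, Y j ⟶ G)

theorem exists_unit_word (y : ∀ j, 𝟙_ (Over (Spec (CommRingCat.of k))) ⟶ Y j) (hy : ∀ j, y j ≫ g j = 1)
    (l : List (J × Bool)) : ∃ t : 𝟙_ (Over (Spec (CommRingCat.of k))) ⟶ src Y l, t ≫ word g l = 1 := by
  induction l with
  | nil => exact ⟨toUnit _, comp_word_nil g _⟩
  | cons a l ih =>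
    obtain ⟨t, ht⟩ := ih
    refine ⟨lift (y a.1) t, (comp_word_cons g a l (y a.1) t).trans ?_⟩
    rw [ht, _root_.mul_one]
    unfold letter
    split
    · exact hy _
    · rw [GrpObj.comp_inv, hy, inv_one]

theorem range_word_mono (y : ∀ j, 𝟙_ (Over (Spec (CommRingCat.of k))) ⟶ Y j) (hy : ∀ j, y j ≫ g j = 1)
    (l m : List (J × Bool)) : Set.range (word g l).left ⊆ Set.range (word g (l ++ m)).left ∧
      Set.range (word g m).left ⊆ Set.range (word g (l ++ m)).left := by
  obtain ⟨tl, htl⟩ := exists_unit_word g y hy l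
  obtain ⟨tm, htm⟩ := exists_unit_word g y hy m
  obtain ⟨r, hr⟩ := exists_append g l m (𝟙 (src Y l)) (toUnit _ ≫ tm)
  obtain ⟨r', hr'⟩ := exists_append g l m (toUnit _ ≫ tl) (𝟙 (src Y m))
  rw [Category.id_comp, Category.assoc, htm, MonObj.comp_one, _root_.mul_one] at hr
  rw [Category.id_comp, Category.assoc, htl, MonObj.comp_one, _root_.one_mul] at hr'
  refine ⟨?_, ?_⟩
  · rintro _ ⟨p, rfl⟩
    exact ⟨r.left p, by rw [← Scheme.Hom.comp_apply, ← Over.comp_left, hr]⟩
  · rintro _ ⟨p, rfl⟩
    exact ⟨r'.left p, by rw [← Scheme.Hom.comp_apply, ← Over.comp_left, hr']⟩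

variable [IsAlgClosed k] [LocallyOfFiniteType G.hom] [IrreducibleSpace G.left] [∀ j, IrreducibleSpace (Y j).left]

theorem exists_dense_word (y : ∀ j, 𝟙_ (Over (Spec (CommRingCat.of k))) ⟶ Y j) (hy : ∀ j, y j ≫ g j = 1)
    (hd : Dense (wordSet g)) : ∃ l, Dense (Set.range (word g l).left) := by
  classical
  let ζ : List (J × Bool) → G.left := fun l =>
    haveI := irreducibleSpace_src (k := k) (Y := Y) l
    (word g l).left (genericPoint ↥(src Y l).left)
  have hζ : ∀ l, closure (Set.range (word g l).left) = closure {ζ l} := fun l => by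
    haveI := irreducibleSpace_src (k := k) (Y := Y) l
    show _ = closure {(word g l).left (genericPoint ↥(src Y l).left)}
    rw [← Set.image_singleton, ← closure_image_closure (word g l).left.continuous, genericPoint_closure,
      Set.image_univ]
  obtain ⟨-, n, -, -, -, hn⟩ := DimFormulaLib.field_dims G.hom (genericPoint ↥G.left)
  have hle : ∀ z : G.left, z ≤ genericPoint ↥G.left := fun z =>
    Scheme.le_iff_specializes.2 (genericPoint_specializes z)
  have hfin : ∀ l, ∃ m : ℕ, Order.height (ζ l) = m ∧ m ≤ n := fun l => by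
    obtain ⟨-, t, -, -, -, ht⟩ := DimFormulaLib.field_dims G.hom (ζ l)
    refine ⟨t, ht, ?_⟩
    have h := Order.height_mono (hle (ζ l))
    rw [ht, hn] at h
    exact_mod_cast h
  choose d hd' hdn using hfin
  obtain ⟨l, hl⟩ : ∃ l, ∀ m, d m ≤ d l := by
    have hb : BddAbove (Set.range d) := ⟨n, by rintro _ ⟨l, rfl⟩; exact hdn l⟩
    obtain ⟨l, hl⟩ := Nat.sSup_mem (Set.range_nonempty d) hb
    exact ⟨l, fun m => hl ▸ le_csSup hb ⟨m, rfl⟩⟩
  refine ⟨l, fun z => ?_⟩
  refine closure_minimal (fun x hx => ?_) isClosed_closure (hd z)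
  obtain ⟨m, hm⟩ := Set.mem_iUnion.1 hx
  obtain ⟨h1, h2⟩ := range_word_mono g y hy l m
  have hsp : ζ (l ++ m) ⤳ ζ l := by
    rw [specializes_iff_closure_subset, ← hζ, ← hζ]
    exact closure_mono h1
  have hsp' : ζ l ⤳ ζ (l ++ m) := by
    by_contra hne
    have hlt : ζ l < ζ (l ++ m) :=
      lt_of_le_not_ge (Scheme.le_iff_specializes.2 hsp) (fun h => hne (Scheme.le_iff_specializes.1 h))
    have h := Order.height_strictMono hlt (by rw [hd']; exact ENat.coe_lt_top _)
    rw [hd', hd'] at h
    exact absurd (hl (l ++ m)) (not_le.2 (by exact_mod_cast h))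
  rw [hζ]
  rw [specializes_iff_closure_subset, ← hζ] at hsp'
  exact hsp' (subset_closure (h2 hm))

variable [∀ j, LocallyOfFiniteType (Y j).hom] [∀ j, QuasiCompact (Y j).hom]

/-- Every point is a value of one word. -/
theorem exists_surjective_word (y : ∀ j, 𝟙_ (Over (Spec (CommRingCat.of k))) ⟶ Y j) (hy : ∀ j, y j ≫ g j = 1)
    (hd : Dense (wordSet g)) : ∃ L, ∀ z : G.left, z ∈ Set.range (word g L).left := by
  obtain ⟨l, hl⟩ := exists_dense_word g y hy hd
  haveI := locallyOfFiniteType_src (k := k) (X := Y) l
  haveI := compactSpace_src (k := k) (Y := Y) l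
  haveI : IsSeparated G.hom := GrpSchLib.isSeparated_hom
  haveI : IsLocallyNoetherian G.left := LocallyOfFiniteType.isLocallyNoetherian G.hom
  haveI : QuasiCompact (src Y l).hom := (quasiCompact_iff_compactSpace _).2 inferInstance
  haveI : LocallyOfFiniteType (word g l).left := by
    haveI : LocallyOfFiniteType ((word g l).left ≫ G.hom) := by rw [Over.w (word g l)]; infer_instance
    exact locallyOfFiniteType_of_comp (word g l).left G.hom
  haveI : QuasiCompact (word g l).left := by
    haveI : QuasiCompact ((word g l).left ≫ G.hom) := by rw [Over.w (word g l)]; infer_instance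
    exact QuasiCompact.of_comp (word g l).left G.hom
  have hlc : Topology.IsLocallyConstructible (Set.range (word g l).left) := by
    rw [← Set.image_univ]
    exact (word g l).left.isLocallyConstructible_image Topology.IsLocallyConstructible.univ
  have hO := MonoFibre.SchemeImage.dense_interior_of_isLocallyConstructible hlc hl
  let W := src Y l ⊗ src Y l
  obtain ⟨r₁, hr₁⟩ := exists_inv g l (fst (src Y l) (src Y l))
  obtain ⟨r, hr⟩ := exists_append g (List.map (fun a => (a.1, !a.2)) l).reverse l r₁ (snd (src Y l) (src Y l))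
  refine ⟨(List.map (fun a => (a.1, !a.2)) l).reverse ++ l, fun z => ?_⟩
  obtain ⟨T, p, -, -, s, t, e⟩ := exists_quotient_pts (fun _ : PUnit.{1} => word g l) isOpen_interior hO
    (fun x hx => Set.mem_iUnion.2 ⟨PUnit.unit, interior_subset hx⟩) z
  refine ⟨(lift s t ≫ r).left p, ?_⟩
  rw [← Scheme.Hom.comp_apply, ← Over.comp_left, Category.assoc, hr, hr₁, MonObj.comp_mul, GrpObj.comp_inv,
    lift_fst_assoc, lift_snd_assoc, e]

end Groth.Agent.GenSubLib
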