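import Groth.Agent.GenSubLib.Nilp
import Groth.Agent.UnipIsogLib.Iso
import Groth.Agent.MaxTorus.Greatest

/-!
# Maximal tori of nilpotent groups are central
-/

set_option autoImplicit false
set_option backward.isDefEq.respectTransparency false
set_option backward.isDefEq.respectTransparency.types false
set_option linter.style.haveILetI false
set_option linter.unusedSectionVars false

universe u

open CategoryTheory CategoryTheory.Limits MonoidalCategory CartesianMonoidalCategory MonObj AlgebraicGeometry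
open scoped commutatorElement

noncomputable section

namespace Groth.Agent.GenSubLib

variable {k : Type u} [Field k] [IsAlgClosed k] {G : Over (Spec (CommRingCat.of k))} [GrpObj G]
  [LocallyOfFiniteType G.hom] [QuasiCompact G.hom]

theorem eq_of_upts {X Y : Over (Spec (CommRingCat.of k))} [Smooth X.hom] [GrpObj Y] [LocallyOfFiniteType Y.hom]
    {f g : X ⟶ Y} (h : ∀ σ : 𝟙_ (Over (Spec (CommRingCat.of k))) ⟶ X, σ ≫ f = σ ≫ g) : f = g := by
  haveI : IsSeparated Y.hom := GrpSchLib.isSeparated_hom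
  exact UnipIsogLib.hom_ext_upts h

/-- Two tori with commuting points lie in a torus. -/
theorem exists_torus_containing {T Q : Over (Spec (CommRingCat.of k))} [GrpObj T] [GrpObj Q] (hT : Red.IsTorus T)
    (hQ : Red.IsTorus Q) (j : T ⟶ G) [IsMonHom j] (j' : Q ⟶ G) [IsMonHom j']
    (hc : ∀ (x : 𝟙_ (Over (Spec (CommRingCat.of k))) ⟶ T) (y : 𝟙_ (Over (Spec (CommRingCat.of k))) ⟶ Q),
      Commute (x ≫ j) (y ≫ j')) :
    ∃ (R : Over (Spec (CommRingCat.of k))) (_ : GrpObj R) (m : R ⟶ G) (a : T ⟶ R) (b : Q ⟶ R),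
      IsMonHom m ∧ IsClosedImmersion m.left ∧ Red.IsTorus R ∧ a ≫ m = j ∧ b ≫ m = j' := by
  obtain ⟨r, ⟨e⟩⟩ := exists_split_of_isTorus hT
  obtain ⟨s, ⟨e'⟩⟩ := exists_split_of_isTorus hQ
  let S := Spec (CommRingCat.of k)
  let P := Red.DS S (Fin (r + s) → ℤ)
  let E : ((Fin r → ℤ) × (Fin s → ℤ)) ≃+ (Fin (r + s) → ℤ) :=
    (LinearEquiv.sumArrowLequivProdArrow (Fin r) (Fin s) ℤ ℤ).symm.toAddEquiv.trans
      (LinearEquiv.funCongrLeft ℤ ℤ finSumFinEquiv.symm).toAddEquiv
  let i₁ : (Fin r → ℤ) →+ (Fin (r + s) → ℤ) := E.toAddMonoidHom.comp (AddMonoidHom.inl _ _)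
  let i₂ : (Fin s → ℤ) →+ (Fin (r + s) → ℤ) := E.toAddMonoidHom.comp (AddMonoidHom.inr _ _)
  let π₁ : (Fin (r + s) → ℤ) →+ (Fin r → ℤ) := (AddMonoidHom.fst _ _).comp E.symm.toAddMonoidHom
  let π₂ : (Fin (r + s) → ℤ) →+ (Fin s → ℤ) := (AddMonoidHom.snd _ _).comp E.symm.toAddMonoidHom
  haveI : IsMonHom e.inv.hom.hom := e.inv.hom.isMonHom_hom
  haveI : IsMonHom e'.inv.hom.hom := e'.inv.hom.isMonHom_hom
  haveI : IsMonHom e.hom.hom.hom := e.hom.hom.isMonHom_hom
  haveI : IsMonHom e'.hom.hom.hom := e'.hom.hom.isMonHom_hom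
  haveI := DSMapLib.isMonHom_DSmap S i₁
  haveI := DSMapLib.isMonHom_DSmap S i₂
  haveI := DSMapLib.isMonHom_DSmap S π₁
  haveI := DSMapLib.isMonHom_DSmap S π₂
  let p : P ⟶ T := Red.DSmap S i₁ ≫ e.inv.hom.hom
  let p' : P ⟶ Q := Red.DSmap S i₂ ≫ e'.inv.hom.hom
  haveI : IsMonHom p := inferInstanceAs (IsMonHom (_ ≫ _))
  haveI : IsMonHom p' := inferInstanceAs (IsMonHom (_ ≫ _))
  have hP : Red.IsTorus P := MaxTorus.isTorus_of_split (r := r + s) ⟨Iso.refl _⟩
  obtain ⟨hPs, -, -, -⟩ := torus_props hP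
  haveI := hPs
  let w : P ⟶ G := (p ≫ j) * (p' ≫ j')
  haveI : IsMonHom w := by
    haveI : IsSeparated G.hom := GrpSchLib.isSeparated_hom
    refine UnipIsogLib.isMonHom_of_upts w fun x y => ?_
    simp only [w, MonObj.comp_mul, ← Category.assoc, MonObj.mul_comp]
    have h : Commute ((x ≫ p') ≫ j') ((y ≫ p) ≫ j) := (hc (y ≫ p) (x ≫ p')).symm
    exact h.symm.mul_mul_mul_comm _ _
  obtain ⟨R, hR, m, q, hm, hci, hq, -, hqm, hRt⟩ := exists_image_torus hP w
  refine ⟨R, hR, m, (e.hom.hom.hom ≫ Red.DSmap S π₁) ≫ q, (e'.hom.hom.hom ≫ Red.DSmap S π₂) ≫ q, hm, hci, hRt, ?_, ?_⟩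
  · rw [Category.assoc, hqm]
    refine MaxTorus.section_comp (p := p) (p' := p') ?_ ?_ j j'
    · show (e.hom.hom.hom ≫ Red.DSmap S π₁) ≫ Red.DSmap S i₁ ≫ e.inv.hom.hom = 𝟙 T
      rw [Category.assoc, ← Category.assoc (Red.DSmap S π₁), MaxTorus.DSmap_comp,
        show π₁.comp i₁ = AddMonoidHom.id _ from AddMonoidHom.ext fun x => by simp [π₁, i₁],
        MaxTorus.DSmap_id, Category.id_comp]
      exact congrArg (fun f => f.hom.hom) e.hom_inv_id
    · show (e.hom.hom.hom ≫ Red.DSmap S π₁) ≫ Red.DSmap S i₂ ≫ e'.inv.hom.hom = 1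
      rw [Category.assoc, ← Category.assoc (Red.DSmap S π₁),
        DSMapLib.comp_eq_one i₂ π₁ (AddMonoidHom.ext fun x => by simp [π₁, i₂]), MonObj.one_comp, MonObj.comp_one]
  · rw [Category.assoc, hqm]
    refine MaxTorus.section_comp' (p := p) (p' := p') ?_ ?_ j j'
    · show (e'.hom.hom.hom ≫ Red.DSmap S π₂) ≫ Red.DSmap S i₁ ≫ e.inv.hom.hom = 1
      rw [Category.assoc, ← Category.assoc (Red.DSmap S π₂),
        DSMapLib.comp_eq_one i₁ π₂ (AddMonoidHom.ext fun x => by simp [π₂, i₁]), MonObj.one_comp, MonObj.comp_one]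
    · show (e'.hom.hom.hom ≫ Red.DSmap S π₂) ≫ Red.DSmap S i₂ ≫ e'.inv.hom.hom = 𝟙 Q
      rw [Category.assoc, ← Category.assoc (Red.DSmap S π₂), MaxTorus.DSmap_comp,
        show π₂.comp i₂ = AddMonoidHom.id _ from AddMonoidHom.ext fun x => by simp [π₂, i₂],
        MaxTorus.DSmap_id, Category.id_comp]
      exact congrArg (fun f => f.hom.hom) e'.hom_inv_id

/-- A point normalising a torus commutes with it once it does so on rational points; rigidity. -/
theorem commute_of_maxTorus [Smooth G.hom] [ConnectedSpace G.left] {T : Over (Spec (CommRingCat.of k))} [GrpObj T]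
    (iT : T ⟶ G) (hT : AGF.IsMaxTorus iT) (hnil : AGF.IsNilpotentGrp G)
    (X : Over (Spec (CommRingCat.of k))) (g : X ⟶ G) (x : X ⟶ T) : g * (x ≫ iT) = (x ≫ iT) * g := by
  obtain ⟨hiT, hmono, hTt, hmax⟩ := hT
  haveI := hiT
  haveI := hmono
  obtain ⟨hTs, hTq, hTa, hTc⟩ := torus_props hTt
  haveI := hTs
  haveI := hTq
  haveI := hTc
  haveI : IsSeparated G.hom := GrpSchLib.isSeparated_hom
  haveI : LocallyOfFiniteType T.hom := inferInstance
  -- the maximal torus is a closed subgroup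
  obtain ⟨T₁, hT₁, m₁, q₁, hm₁, hci₁, hq₁, -, hqm₁, hT₁t⟩ := exists_image_torus hTt iT
  haveI := hci₁
  haveI : Mono m₁ := Over.mono_of_mono_left m₁
  haveI : IsIso q₁ := hmax T₁ m₁ q₁ hT₁t hqm₁
  haveI : IsClosedImmersion iT.left := by
    haveI : IsIso q₁.left := inferInstanceAs (IsIso ((Over.forget _).map q₁))
    rw [← hqm₁, Over.comp_left]; infer_instance
  obtain ⟨N, hN⟩ := (isNilpotentGrp_iff G).1 hnil
  have key : ∀ m n, N ≤ n + m → ∀ c ∈ (⊤ : Subgroup (𝟙_ (Over (Spec (CommRingCat.of k))) ⟶ G)).lowerCentralSeries n,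
      ∀ t : 𝟙_ (Over (Spec (CommRingCat.of k))) ⟶ T, Commute c (t ≫ iT) := by
    intro m
    induction m with
    | zero =>
      intro n hn c hc t
      have h0 : c = 1 := by
        have := Subgroup.lowerCentralSeries_antitone (⊤ : Subgroup (𝟙_ (Over (Spec (CommRingCat.of k))) ⟶ G))
          (show N ≤ n by omega) hc
        rwa [hN, Subgroup.mem_bot] at this
      rw [h0]; exact Commute.one_left _
    | succ m ih =>
      intro n hn c hc t
      have ih' := ih (n + 1) (by omega)
      obtain ⟨C, hC, a, ha, hca, hCs, hCc, hrange, -⟩ := exists_lcs G n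
      letI := hC
      haveI := ha
      haveI := hca
      haveI := hCs
      haveI := hCc
      have hcomm : ∀ (y : 𝟙_ (Over (Spec (CommRingCat.of k))) ⟶ C) (t : 𝟙_ (Over (Spec (CommRingCat.of k))) ⟶ T),
          ⁅y ≫ a, t ≫ iT⁆ ∈ (⊤ : Subgroup (𝟙_ (Over (Spec (CommRingCat.of k))) ⟶ G)).lowerCentralSeries (n + 1) := by
        intro y t
        rw [Subgroup.lowerCentralSeries_succ]
        exact Subgroup.commutator_mem_commutator (hrange ▸ ⟨y, rfl⟩) (Subgroup.mem_top _)
      have hin : ∀ (y : 𝟙_ (Over (Spec (CommRingCat.of k))) ⟶ C) (t : 𝟙_ (Over (Spec (CommRingCat.of k))) ⟶ T),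
          ∃ t' : 𝟙_ (Over (Spec (CommRingCat.of k))) ⟶ T, t' ≫ iT = ⁅y ≫ a, t ≫ iT⁆ := by
        intro y t
        let ψ : T ⟶ G := (toUnit T ≫ y ≫ a) * iT * (toUnit T ≫ y ≫ a)⁻¹ * iT⁻¹
        have hψ : ∀ s : 𝟙_ (Over (Spec (CommRingCat.of k))) ⟶ T, s ≫ ψ = ⁅y ≫ a, s ≫ iT⁆ := fun s => by
          simp only [ψ, commutatorElement_def, MonObj.comp_mul, GrpObj.comp_inv, ← Category.assoc,
            show s ≫ toUnit T = 𝟙 _ from toUnit_unique _ _, Category.id_comp]
        haveI : IsMonHom ψ := by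
          refine UnipIsogLib.isMonHom_of_upts ψ fun s₁ s₂ => ?_
          rw [hψ, hψ, hψ, MonObj.mul_comp]
          have h := ih' _ (hcomm y s₂) s₁
          rw [show ⁅y ≫ a, (s₁ ≫ iT) * (s₂ ≫ iT)⁆ =
            ⁅y ≫ a, s₁ ≫ iT⁆ * ((s₁ ≫ iT) * ⁅y ≫ a, s₂ ≫ iT⁆ * (s₁ ≫ iT)⁻¹) by
            simp only [commutatorElement_def]; group, ← h.eq, mul_inv_cancel_right]
        obtain ⟨Q, hQ, mQ, q, hmQ, hciQ, hq, hqs, hqm, hQt⟩ := exists_image_torus hTt ψ
        haveI := hmQ
        haveI := hqs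
        haveI := hciQ
        haveI : LocallyOfFiniteType Q.hom := by rw [← Over.w mQ]; infer_instance
        obtain ⟨R, hR, mR, a', b', hmR, hciR, hRt, ha', hb'⟩ := exists_torus_containing hTt hQt iT mQ (by
          intro s z
          obtain ⟨s', hs'⟩ := exists_pt_lift q z (q.left.surjective _)
          rw [← hs', Category.assoc, hqm, hψ]
          exact (ih' _ (hcomm y s') s).symm)
        haveI := hciR
        haveI : Mono mR := Over.mono_of_mono_left mR
        haveI : IsIso a' := hmax R mR a' hRt ha'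
        refine ⟨(t ≫ q) ≫ b' ≫ inv a', ?_⟩
        rw [← hψ, ← hqm, ← hb', ← ha']
        simp
      obtain ⟨y, rfl⟩ : ∃ y, ptsHom a y = c := MonoidHom.mem_range.1 (hrange.symm ▸ hc)
      -- rigidity
      haveI : GeometricallyReduced C.hom := AVLib.geometricallyReduced_of_smooth C.hom
      haveI : GeometricallyReduced T.hom := AVLib.geometricallyReduced_of_smooth T.hom
      haveI := geometricallyConnected_of_rational η[C]
      haveI := geometricallyConnected_of_rational η[T]
      haveI := GrpSchLib.irreducibleSpace_of_connectedSpace (G := C)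
      haveI := GrpSchLib.compactSpace_of_irreducibleSpace (G := C)
      haveI : QuasiCompact C.hom := (quasiCompact_iff_compactSpace C.hom).2 inferInstance
      haveI : Smooth (C ⊗ T).hom := by
        haveI : Smooth (snd C T).left := MorphismProperty.of_isPullback (P := @Smooth)
          (IsPullback.of_hasPullback C.hom T.hom) ‹_›
        rw [← Over.w (snd C T)]
        infer_instance
      haveI : IsReduced (C ⊗ T).left := ASp.isReduced_of_smooth (C ⊗ T).hom
      haveI : JacobsonSpace (C ⊗ T).left := LocallyOfFiniteType.jacobsonSpace (C ⊗ T).hom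
      obtain ⟨u, hu⟩ := exists_lift_of_range iT (commMap a iT) (by
        rintro _ ⟨w, rfl⟩
        have hcl : IsClosed ((commMap a iT).left ⁻¹' Set.range iT.left) :=
          iT.left.isClosedEmbedding.isClosed_range.preimage (commMap a iT).left.continuous
        refine (hcl.closure_subset_iff.2 ?_) (closure_closedPoints (X := (C ⊗ T).left) ▸ Set.mem_univ w)
        intro v hv
        obtain ⟨z, rfl⟩ := exists_pt (P := C ⊗ T) hv
        obtain ⟨t', ht'⟩ := hin (z ≫ fst C T) (z ≫ snd C T)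
        refine ⟨t'.left base₀, ?_⟩
        rw [← Scheme.Hom.comp_apply, ← Over.comp_left, ht', ← comp_commMap, Over.comp_left, Scheme.Hom.comp_apply])
      have hu1 : u = 1 := by
        refine SemiAbLib.eq_one_torus hTt η[C] η[T] u ?_ ?_
        · rw [← cancel_mono iT, Category.assoc, hu, MonObj.one_comp]
          simp only [commMap, MonObj.comp_mul, GrpObj.comp_inv, ← Category.assoc, lift_fst, lift_snd, Category.id_comp]
          rw [← Hom.one_def, MonObj.one_comp]
          group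
        · rw [← cancel_mono iT, Category.assoc, hu, MonObj.one_comp]
          simp only [commMap, MonObj.comp_mul, GrpObj.comp_inv, ← Category.assoc, lift_fst, lift_snd, Category.id_comp]
          rw [← Hom.one_def, MonObj.one_comp]
          group
      have e := congrArg (lift y t ≫ ·) hu
      simp only [hu1, MonObj.one_comp, MonObj.comp_one, comp_commMap, lift_fst, lift_snd] at e
      exact (commutatorElement_eq_one_iff_mul_comm.1 e.symm)
  haveI : LocallyOfFiniteType G.hom := inferInstance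
  haveI : Smooth (G ⊗ T).hom := by
    haveI : Smooth (snd G T).left := MorphismProperty.of_isPullback (P := @Smooth)
      (IsPullback.of_hasPullback G.hom T.hom) ‹_›
    rw [← Over.w (snd G T)]
    infer_instance
  have hG : fst G T * (snd G T ≫ iT) = (snd G T ≫ iT) * fst G T := by
    refine eq_of_upts fun σ => ?_
    rw [MonObj.comp_mul, MonObj.comp_mul, ← Category.assoc]
    exact (key N 0 (by omega) (σ ≫ fst G T) (Subgroup.mem_top _) (σ ≫ snd G T)).eq
  have e := congrArg (lift g x ≫ ·) hG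
  simp only [MonObj.comp_mul, ← Category.assoc, lift_fst, lift_snd] at e
  exact e

end Groth.Agent.GenSubLib
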