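import Groth.Agent.GenSubLib.Nilp
import Groth.Agent.QuotTorus.Main
import Groth.Agent.GrpHomLib.Artinian

/-!
# Tori and field extensions
-/

set_option autoImplicit false
set_option backward.isDefEq.respectTransparency false
set_option backward.isDefEq.respectTransparency.types false
set_option linter.style.haveILetI false
set_option linter.unusedSectionVars false

universe u

open CategoryTheory CategoryTheory.Limits MonoidalCategory CartesianMonoidalCategory MonObj AlgebraicGeometry
open scoped TensorProduct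

noncomputable section

namespace Groth.Agent.GenSubLib

variable {k : Type u} [Field k]

/-- A group split over a field extension is a torus. -/
theorem isTorus_of_split_field {T : Over (Spec (CommRingCat.of k))} [GrpObj T] (L : Type u) [Field L] [Algebra k L]
    {r : ℕ} (h : Red.IsSplitTorusWith (Fin r → ℤ) (Red.bc (Spec.map (CommRingCat.ofHom (algebraMap k L))) T)) :
    Red.IsTorus T := by
  let σ := Spec.map (CommRingCat.ofHom (algebraMap k L))
  haveI : Surjective σ := ⟨fun x => ⟨IsLocalRing.closedPoint L, Subsingleton.elim (α := PrimeSpectrum k) _ _⟩⟩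
  haveI : Flat σ := by
    rw [HasRingHomProperty.Spec_iff (P := @Flat)]
    exact RingHom.flat_algebraMap_iff.2 inferInstance
  refine ⟨Spec (CommRingCat.of L), σ, inferInstance, inferInstance, fun V hV => ⟨σ ⁻¹ᵁ V, ?_, ?_⟩, fun s => ?_⟩
  · exact σ.isCompact_preimage hV.isCompact
  · exact Set.image_preimage_eq _ σ.surjective
  · exact ⟨⊤, trivial, r, QuotTorus.isSplit_of_comp (⊤ : (Spec (CommRingCat.of L)).Opens).ι σ rfl h⟩

/-- Tori stay tori after an extension of the field. -/
theorem isTorus_bc (K : Type u) [Field K] [Algebra k K] {T : Over (Spec (CommRingCat.of k))} [GrpObj T]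
    (hT : Red.IsTorus T) : Red.IsTorus (Red.bc (Spec.map (CommRingCat.ofHom (algebraMap k K))) T) := by
  obtain ⟨K', _, g, r, ⟨e⟩⟩ := SemiAbLib.exists_split hT
  obtain ⟨φ, rfl⟩ := Spec.map_surjective g
  letI : Algebra k K' := φ.hom.toAlgebra
  haveI : Nontrivial (K ⊗[k] K') := inferInstance
  obtain ⟨m, hm⟩ := Ideal.exists_maximal (K ⊗[k] K')
  letI : Field ((K ⊗[k] K') ⧸ m) := Ideal.Quotient.field m
  let L := (K ⊗[k] K') ⧸ m
  let a : CommRingCat.of K ⟶ CommRingCat.of L :=
    CommRingCat.ofHom ((Ideal.Quotient.mk m).comp Algebra.TensorProduct.includeLeftRingHom)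
  let b : CommRingCat.of K' ⟶ CommRingCat.of L :=
    CommRingCat.ofHom ((Ideal.Quotient.mk m).comp Algebra.TensorProduct.includeRight.toRingHom)
  letI : Algebra K L := a.hom.toAlgebra
  have hab : CommRingCat.ofHom (algebraMap k K) ≫ a = φ ≫ b := by
    ext x
    show Ideal.Quotient.mk m _ = Ideal.Quotient.mk m _
    congr 1
    exact (Algebra.TensorProduct.includeLeft (R := k) (S := k) (A := K) (B := K')).commutes x |>.trans
      ((Algebra.TensorProduct.includeRight (R := k) (A := K) (B := K')).commutes x).symm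
  refine isTorus_of_split_field L (r := r) ?_
  have hs : Red.IsSplitTorusWith (Fin r → ℤ) (Red.bc (Spec.map b ≫ Spec.map φ) T) :=
    QuotTorus.isSplit_of_comp (Spec.map b) (Spec.map φ) rfl ⟨e⟩
  rw [← Spec.map_comp, ← hab, Spec.map_comp] at hs
  obtain ⟨e'⟩ := hs
  exact ⟨HomDesc.bcGrpIso (Spec.map a) (Spec.map (CommRingCat.ofHom (algebraMap k K))) rfl T ≪≫ e'⟩

theorem isTorus_bc_iff (K : Type u) [Field K] [Algebra k K] [IsAlgClosed K] {T : Over (Spec (CommRingCat.of k))}
    [GrpObj T] : Red.IsTorus (Red.bc (Spec.map (CommRingCat.ofHom (algebraMap k K))) T) ↔ Red.IsTorus T :=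
  ⟨fun h => by
    obtain ⟨r, hr⟩ := exists_split_of_isTorus h
    exact isTorus_of_split_field K hr, isTorus_bc K⟩

/-- An isogeny of affine smooth groups is finite. -/
theorem isFinite_of_isIsogenyOver {G' G : Over (Spec (CommRingCat.of k))} [GrpObj G'] [GrpObj G] [Smooth G'.hom]
    [QuasiCompact G'.hom] [Smooth G.hom] (f : G' ⟶ G) [IsMonHom f] (hf : SGA7.IsIsogenyOver f) : IsFinite f.left := by
  haveI := hf.1
  haveI : LocallyOfFiniteType G'.hom := inferInstance
  haveI : LocallyOfFiniteType G.hom := inferInstance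
  haveI : IsReduced G.left := ASp.isReduced_of_smooth G.hom
  haveI : Flat f.left := MonoFibre.flat_of_surjective f
  haveI : Mono (η[G]) := SplitMono.mono ⟨toUnit G, toUnit_unique _ _⟩
  haveI := FpqcDesc.isFinite_descends.{u}
  have hker : AlgGrp.IsKernel (pullback.fst f η[G]) f := by
    rw [AlgGrp.IsKernel, toUnit_unique (toUnit _) (pullback.snd f η[G])]
    exact IsPullback.of_hasPullback f η[G]
  exact MonoFibre.KernelFibre.of_kernel f (pullback.fst f η[G]) @IsFinite hker (hf.2 _ _ hker)

end Groth.Agent.GenSubLib
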